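import Mathlib
import Cfsg.Agent.Unitary.Isotropic

/-!
Coverings of the orthogonality graph of unit vectors of a finite Hermitian space in which triangles lift
and the quadrangles with an opposite pair spanning a non-degenerate plane lift are trivial.
-/

set_option autoImplicit false
set_option linter.unusedSectionVars false

namespace Cfsg.Agent.Cores.Phan

open Cfsg Cfsg.Agent.Unitary

variable {F : Type*} [Field F] [Fintype F] {n q : ℕ}

local notation "V" => (Fin n → F)
local notation "h" => hermForm n F q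

theorem exists_fixed_ne_two (hF : Fintype.card F = q ^ 2) (hq : 3 ≤ q) {α β : F}
    (hα : α ^ q = α) (hsum : α + β = 1) : ∃ τ : F, τ ^ q = τ ∧ τ ≠ 0 ∧ τ ≠ α ∧ τ ≠ β := by
  obtain ⟨t, ht, ht0, ht1⟩ := exists_fixed_ne hF hq
  by_cases hα0 : α = 0
  · exact ⟨t, ht, ht0, by rwa [hα0], by rw [hα0, zero_add] at hsum; rwa [hsum]⟩
  by_cases hβ0 : β = 0
  · exact ⟨t, ht, ht0, by rw [hβ0, add_zero] at hsum; rwa [hsum], by rwa [hβ0]⟩
  exact ⟨1, one_pow q, one_ne_zero, fun h1 => hβ0 (by linear_combination hsum + h1),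
    fun h1 => hα0 (by linear_combination hsum + h1)⟩

theorem exists_fixed_avoid_half (hF : Fintype.card F = q ^ 2) (hq : 4 ≤ q) :
    ∃ τ : F, τ ^ q = τ ∧ τ ≠ 0 ∧ τ ≠ 1 ∧ 2 * τ ≠ 1 := by
  classical
  have hc : Fintype.card {x : F // x ^ q = x} = q := by
    rw [← Nat.card_eq_fintype_card, card_fixed hF]
  rw [Fintype.card_subtype] at hc
  by_contra hne
  push Not at hne
  have hsub : (Finset.univ.filter fun x : F => x ^ q = x) ⊆ {0, 1, (2 : F)⁻¹} := by
    intro x hx
    simp only [Finset.mem_filter, Finset.mem_univ, true_and] at hx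
    simp only [Finset.mem_insert, Finset.mem_singleton]
    by_cases h0 : x = 0
    · exact Or.inl h0
    by_cases h1 : x = 1
    · exact Or.inr (Or.inl h1)
    exact Or.inr (Or.inr (inv_eq_of_mul_eq_one_right (hne x hx h0 h1)).symm)
  have := (Finset.card_le_card hsub).trans Finset.card_le_three
  omega

/-- The elements of norm one span the field additively. -/
theorem addClosure_norm_one (hF : Fintype.card F = q ^ 2) :
    AddSubgroup.closure {c : F | c * c ^ q = 1} = ⊤ := by
  classical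
  let S : Subring F := Subring.closure {c : F | c * c ^ q = 1}
  have hS : S.toAddSubgroup = AddSubgroup.closure {c : F | c * c ^ q = 1} := by
    let M : Submonoid F :=
      { carrier := {c : F | c * c ^ q = 1}
        mul_mem' := fun {a b} ha hb => by
          show a * b * (a * b) ^ q = 1
          rw [mul_pow, mul_mul_mul_comm, ha, hb, one_mul]
        one_mem' := by simp }
    refine le_antisymm (fun x hx => ?_) (AddSubgroup.closure_le _ |>.2 fun x hx =>
      Subring.subset_closure hx)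
    have hx' : x ∈ Subring.closure ((M : Submonoid F) : Set F) := hx
    have := Subring.mem_closure_iff.1 hx'
    rwa [Submonoid.closure_eq] at this
  rw [← hS]
  let K : Subfield F :=
    { S with
      inv_mem' := fun x hx => by
        show x⁻¹ ∈ S
        by_cases h0 : x = 0
        · rw [h0, inv_zero]; exact S.zero_mem
        · have hq2 : 2 ≤ Fintype.card F := Fintype.one_lt_card
          have e : x ^ (Fintype.card F - 2) * x = 1 := by
            rw [← pow_succ, show Fintype.card F - 2 + 1 = Fintype.card F - 1 by omega,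
              FiniteField.pow_card_sub_one_eq_one x h0]
          rw [← eq_inv_of_mul_eq_one_left e]
          exact pow_mem hx _ }
  have hle : q + 2 ≤ Nat.card K := by
    have hsub : insert (0 : F) {c : F | c * c ^ q = 1} ⊆ (K : Set F) :=
      Set.insert_subset K.zero_mem Subring.subset_closure
    have := Set.ncard_le_ncard hsub (Set.toFinite _)
    rw [Set.ncard_insert_of_notMem (by simp) (Set.toFinite _), ← Nat.card_coe_set_eq,
      ← Nat.card_coe_set_eq] at this
    have h2 := card_norm_eq_one (F := F) hF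
    have h3 : Nat.card {c : F | c * c ^ q = 1} = q + 1 := h2
    rw [h3] at this
    exact this
  have : Fintype K := Fintype.ofFinite _
  have hpow : Fintype.card F = Fintype.card K ^ Module.finrank K F := Module.card_eq_pow_finrank
  rw [hF, ← Nat.card_eq_fintype_card (α := K)] at hpow
  have hd : Module.finrank K F = 1 := by
    rcases Nat.lt_or_ge (Module.finrank K F) 2 with hlt | hge
    · have : 0 < Module.finrank K F := Module.finrank_pos
      omega
    · have h1 : Nat.card K ^ 2 ≤ q ^ 2 := hpow ▸ Nat.pow_le_pow_right (by omega) hge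
      have := (Nat.pow_le_pow_iff_left two_ne_zero).1 h1
      omega
  rw [hd, pow_one] at hpow
  refine AddSubgroup.eq_top_of_card_eq _ ?_
  rw [Nat.card_eq_fintype_card (α := F), hF, hpow]
  rfl

/-- A unit vector of a non-degenerate space having inner product of norm `≠ 1` with an isotropic one. -/
theorem exists_unit_far (hF : Fintype.card F = q ^ 2) (hq : 3 ≤ q) {W : Submodule F V}
    (hW : Nondeg q W) (hne : W ≠ ⊥) {r : V} (hr : r ∈ W) (hr0 : h r r = 0) :
    ∃ η ∈ W, h η η = 1 ∧ h η r * h η r ^ q ≠ 1 := by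
  by_cases hz : r = 0
  · obtain ⟨η, hη, h1⟩ := exists_norm_one hF hW hne
    refine ⟨η, hη, h1, ?_⟩
    rw [hz, herm_zero_right hF, zero_mul]
    exact zero_ne_one
  obtain ⟨f, hfW, hff, hfr⟩ := exists_partner hF hW hr hz hr0
  have hrf : h r f = 1 := by rw [← herm_swap hF f r, hfr, one_pow]
  obtain ⟨τ, hτ, hτ0, hτ1⟩ := exists_fixed_ne hF hq
  obtain ⟨γ, hγ⟩ := exists_norm_eq hF hτ
  have hγ0 : γ ≠ 0 := fun h0 => hτ0 (by rw [← hγ, h0, zero_mul])
  obtain ⟨u, hu⟩ := exists_trace_eq hF (one_pow q : (1 : F) ^ q = 1)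
  obtain ⟨δ, hδ⟩ : ∃ δ : F, δ * γ ^ q = u :=
    ⟨u / γ ^ q, div_mul_cancel₀ u (pow_ne_zero q hγ0)⟩
  refine ⟨γ • f + δ • r, W.add_mem (W.smul_mem _ hfW) (W.smul_mem _ hr), ?_, ?_⟩
  · have hδq : δ ^ q * γ = u ^ q := by rw [← hδ, mul_pow, pow_q_q hF]
    simp only [herm_add_left, herm_add_right hF, herm_smul_left, herm_smul_right, hff, hr0, hfr, hrf]
    linear_combination hu + hδ + hδq
  · rwa [herm_add_left, herm_smul_left, herm_smul_left, hfr, hr0, mul_one, mul_zero, add_zero, hγ]

/-- The span of an orthonormal family has non-degenerate orthogonal complement. -/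
theorem nondeg_perp_of_ON (hF : Fintype.card F = q ^ 2) {ι : Type*} [Fintype ι] [DecidableEq ι]
    {f : ι → V} (hf : ON q f) :
    Nondeg q (perp q (Set.range f)) ∧
      Fintype.card ι + Module.finrank F (perp q (Set.range f)) = n := by
  refine ⟨by rw [← perp_span hF]; exact nondeg_perp hF hf.nondeg, ?_⟩
  have := finrank_perp_add hF hf.nondeg
  rwa [perp_span hF, hf.finrank_span] at this

theorem ne_bot_of_finrank {W : Submodule F V} (hd : 0 < Module.finrank F W) : W ≠ ⊥ := by
  intro he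
  rw [he, finrank_bot] at hd
  exact lt_irrefl 0 hd

/-- Unit vectors orthogonal to an orthonormal family. -/
theorem exists_unit_perp_ON (hF : Fintype.card F = q ^ 2) {ι : Type*} [Fintype ι] [DecidableEq ι]
    {f : ι → V} (hf : ON q f) (hlt : Fintype.card ι < n) :
    ∃ d, h d d = 1 ∧ ∀ i, h d (f i) = 0 := by
  obtain ⟨hW, hd⟩ := nondeg_perp_of_ON hF hf
  obtain ⟨d, hdW, hd1⟩ := exists_norm_one hF hW (ne_bot_of_finrank (by omega))
  exact ⟨d, hd1, fun i => hdW _ ⟨i, rfl⟩⟩

theorem on_pair (hF : Fintype.card F = q ^ 2) {x y : V} (hx : h x x = 1) (hy : h y y = 1)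
    (hxy : h x y = 0) : ON q ![x, y] := by
  have hyx : h y x = 0 := (herm_eq_zero_symm hF).1 hxy
  intro i j
  fin_cases i <;> fin_cases j <;> simp [hx, hy, hxy, hyx]

theorem on_triple (hF : Fintype.card F = q ^ 2) {x y z : V} (hx : h x x = 1) (hy : h y y = 1)
    (hz : h z z = 1) (hxy : h x y = 0) (hxz : h x z = 0) (hyz : h y z = 0) : ON q ![x, y, z] := by
  have hyx : h y x = 0 := (herm_eq_zero_symm hF).1 hxy
  have hzx : h z x = 0 := (herm_eq_zero_symm hF).1 hxz
  have hzy : h z y = 0 := (herm_eq_zero_symm hF).1 hyz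
  intro i j
  fin_cases i <;> fin_cases j <;> simp [hx, hy, hz, hxy, hxz, hyz, hyx, hzx, hzy]

theorem exists_unit_perp_two (hF : Fintype.card F = q ^ 2) (hn : 3 ≤ n) {x y : V} (hx : h x x = 1)
    (hy : h y y = 1) (hxy : h x y = 0) : ∃ d, h d d = 1 ∧ h d x = 0 ∧ h d y = 0 := by
  obtain ⟨d, hd, hi⟩ := exists_unit_perp_ON hF (on_pair hF hx hy hxy) (by simp; omega)
  exact ⟨d, hd, hi 0, hi 1⟩

theorem exists_unit_perp_one (hF : Fintype.card F = q ^ 2) (hn : 2 ≤ n) {x : V} (hx : h x x = 1) :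
    ∃ d, h d d = 1 ∧ h d x = 0 := by
  obtain ⟨d, hd, hi⟩ := exists_unit_perp_ON hF (f := fun _ : Fin 1 => x)
    (fun i j => by simp [hx, Subsingleton.elim i j]) (by simp; omega)
  exact ⟨d, hd, hi 0⟩

theorem mem_perp_two {a b u : V} :
    u ∈ Unitary.perp q (Set.range ![a, b]) ↔ h u a = 0 ∧ h u b = 0 := by
  refine ⟨fun hu => ⟨hu a ⟨0, rfl⟩, hu b ⟨1, rfl⟩⟩, ?_⟩
  rintro ⟨h0, h1⟩ _ ⟨i, rfl⟩
  fin_cases i
  · exact h0
  · exact h1

/-- A covering of the orthogonality graph of unit vectors. -/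
structure Cov (n : ℕ) (F : Type*) [Field F] (q : ℕ) (X : Type*) where
  proj : X → Fin n → F
  adj : X → X → Prop
  unit : ∀ z, hermForm n F q (proj z) (proj z) = 1
  symm : ∀ {z z'}, adj z z' → adj z' z
  perp : ∀ {z z'}, adj z z' → hermForm n F q (proj z') (proj z) = 0
  lift : ∀ z y, hermForm n F q y y = 1 → hermForm n F q y (proj z) = 0 →
    ∃! z', adj z z' ∧ proj z' = y
  tri : ∀ {z a b}, adj z a → adj z b → hermForm n F q (proj a) (proj b) = 0 → adj a b
  square : ∀ {z a b w w'}, adj z a → adj a w → adj z b → adj b w' → proj w = proj w' →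
    hermForm n F q (proj w) (proj z) * hermForm n F q (proj w) (proj z) ^ q ≠ 1 → w = w'

namespace Cov

variable {X : Type*} (C : Cov n F q X)

/-- All the quadrangles at `z` through the vectors `y` and `y'` towards `x` lift to quadrangles. -/
def Same (z : X) (x y y' : V) : Prop :=
  ∀ a b w w', C.adj z a → C.adj a w → C.adj z b → C.adj b w' → C.proj a = y → C.proj b = y' →
    C.proj w = x → C.proj w' = x → w = w'

/-- The common neighbours of the image of `z` and `x`. -/
def Mid (z : X) (x y : V) : Prop := h y y = 1 ∧ h y (C.proj z) = 0 ∧ h y x = 0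

variable {C}

theorem Same.trans (hF : Fintype.card F = q ^ 2) {z : X} {x y y' y'' : V} (hx : h x x = 1)
    (hy' : C.Mid z x y') (h1 : C.Same z x y y') (h2 : C.Same z x y' y'') : C.Same z x y y'' := by
  intro a b w w' za aw zb bw ha hb hw hw'
  obtain ⟨c, ⟨zc, hc⟩, -⟩ := C.lift z y' hy'.1 hy'.2.1
  obtain ⟨v, ⟨cv, hv⟩, -⟩ := C.lift c x hx (by rw [hc]; exact (herm_eq_zero_symm hF).1 hy'.2.2)
  exact (h1 a c w v za aw zc cv ha hc hw hv).trans (h2 c b v w' zc cv zb bw hc hb hv hw')

theorem Same.symm {z : X} {x y y' : V} (h1 : C.Same z x y y') : C.Same z x y' y :=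
  fun a b w w' za aw zb bw ha hb hw hw' => (h1 b a w' w zb bw za aw hb ha hw' hw).symm

/-- Orthogonal middle points give the same lift. -/
theorem same_of_perp (hF : Fintype.card F = q ^ 2) {z : X} {x y y' : V} (hxy' : h x y' = 0)
    (hyy : h y y' = 0) : C.Same z x y y' := by
  intro a b w w' za aw zb bw ha hb hw hw'
  have hab : C.adj a b := C.tri za zb (by rw [ha, hb]; exact hyy)
  have hwb : C.adj w b := C.tri aw hab (by rw [hw, hb]; exact hxy')
  exact (C.lift b x (hw ▸ C.unit w) (by rw [hb]; exact hxy')).unique ⟨C.symm hwb, hw⟩ ⟨bw, hw'⟩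

/-- Middle points spanning a non-degenerate plane give the same lift. -/
theorem same_of_far (hF : Fintype.card F = q ^ 2) {z : X} {x y y' : V}
    (hxy' : h x y' = 0) (hyy : h y' y * h y' y ^ q ≠ 1) : C.Same z x y y' := by
  intro a b w w' za aw zb bw ha hb hw hw'
  obtain ⟨c, ⟨wc, hc⟩, -⟩ := C.lift w y' (hb ▸ C.unit b)
    (by rw [hw]; exact (herm_eq_zero_symm hF).1 hxy')
  have hbc : b = c := C.square (C.symm za) zb aw wc (by rw [hb, hc]) (by rw [hb, ha]; exact hyy)
  exact (C.lift b x (hw ▸ C.unit w) (by rw [hb]; exact hxy')).unique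
    ⟨C.symm (hbc ▸ wc), hw⟩ ⟨bw, hw'⟩

/-- The quadrangles through `y` and `η + c v` when `c` has norm one. -/
theorem same_chain (hF : Fintype.card F = q ^ 2) (hq : 4 ≤ q) {z : X} {v f y η : V} {a c : F}
    (ha : a * a ^ q = 1) (hc : c * c ^ q = 1) (hv : h v v = 0) (hve : h v (C.proj z) = 0)
    (hf : h f f = 0) (hfv : h f v = 1) (hfe : h f (C.proj z) = 0)
    (hye : h y (C.proj z) = 0) (hyv : h y v = 0) (hyf : h y f = 0)
    (hη : h η η = 1) (hηe : h η (C.proj z) = 0) (hηv : h η v = 0) (hηf : h η f = 0) :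
    C.Same z (a • C.proj z + v) y (η + c • v) := by
  intro p b w w' zp pw zb bw hp hb hw hw'
  have hee := C.unit z
  set e := C.proj z with he
  have sw : ∀ u u' : V, h u u' = 0 → h u' u = 0 := fun u u' => (herm_eq_zero_symm hF).1
  have hvf : h v f = 1 := by rw [← herm_swap hF f v, hfv, one_pow]
  obtain ⟨τ, hτ, hτ0, hτ1, hτ2⟩ := exists_fixed_avoid_half hF hq
  obtain ⟨t, ht⟩ := exists_norm_eq hF hτ
  obtain ⟨s, hs⟩ : ∃ s : F, s = -(t * a ^ q) := ⟨_, rfl⟩
  have hst : s * s ^ q = τ := by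
    rw [hs, neg_pow_q hF, mul_pow, pow_q_q hF]
    linear_combination (a * a ^ q) * ht + τ * ha
  have hs0 : s ≠ 0 := fun h0 => hτ0 (by rw [← hst, h0, zero_mul])
  obtain ⟨u, hu⟩ := exists_trace_eq hF (a := 1 - τ) (by rw [sub_pow_q hF, one_pow, hτ])
  obtain ⟨r, hr⟩ : ∃ r : F, r * s ^ q = u :=
    ⟨u / s ^ q, div_mul_cancel₀ u (pow_ne_zero q hs0)⟩
  have hrq : r ^ q * s = u ^ q := by rw [← hr, mul_pow, pow_q_q hF]
  have h2 : (2 : F) * τ - 1 ≠ 0 := sub_ne_zero.2 hτ2
  obtain ⟨k, hk⟩ := exists_norm_eq hF (a := (2 * τ - 1)⁻¹)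
    (by rw [inv_pow, sub_pow_q hF, mul_pow, one_pow, hτ, ← Nat.cast_two, natCast_pow_q hF])
  obtain ⟨zv, hzv⟩ : ∃ zv : V, zv = t • e + r • v + s • f := ⟨_, rfl⟩
  obtain ⟨m, hm⟩ : ∃ m : V,
      m = (-(c ^ q * k * s ^ q)) • η + (-(k * r ^ q)) • v + (k * s ^ q) • f := ⟨_, rfl⟩
  have hkk : k * k ^ q * (2 * τ - 1) = 1 := by rw [hk]; exact inv_mul_cancel₀ h2
  have hcq : (c ^ q) ^ q = c := pow_q_q hF c
  have hsq : (s ^ q) ^ q = s := pow_q_q hF s
  have hrqq : (r ^ q) ^ q = r := pow_q_q hF r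
  have hev := sw _ _ hve
  have hef := sw _ _ hfe
  have hey := sw _ _ hye
  have heη := sw _ _ hηe
  have hvy := sw _ _ hyv
  have hvη := sw _ _ hηv
  have hfy := sw _ _ hyf
  have hfη := sw _ _ hηf
  have hz1 : h zv zv = 1 := by
    simp only [hzv, herm_add_left, herm_add_right hF, herm_smul_left, herm_smul_right, hee, hv, hf,
      hve, hev, hfe, hef, hfv, hvf]
    linear_combination ht + hu + hr + hrq
  have hzy : h zv y = 0 := by simp [hzv, herm_add_left, herm_smul_left, hey, hvy, hfy]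
  have hzx : h zv (a • e + v) = 0 := by
    simp only [hzv, herm_add_left, herm_add_right hF, herm_smul_left, herm_smul_right, hee, hv,
      hve, hev, hfe, hfv]
    linear_combination hs
  have hze : h zv e = t := by simp [hzv, herm_add_left, herm_smul_left, hee, hve, hfe]
  have hm1 : h m m = 1 := by
    simp only [hm, herm_add_left, herm_add_right hF, herm_smul_left, herm_smul_right, hη, hv, hf,
      hηv, hvη, hηf, hfη, hfv, hvf, neg_pow_q hF, mul_pow, hcq, hsq, hrqq]
    linear_combination (k * k ^ q * s * s ^ q) * hc + (k * k ^ q) * hst + hkk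
      - (k * k ^ q) * hu - (k * k ^ q) * hr - (k * k ^ q) * hrq
  have hme : h m e = 0 := by simp [hm, herm_add_left, herm_neg_left, herm_smul_left, hηe, hve, hfe]
  have hmz : h m zv = 0 := by
    simp only [hzv, hm, herm_add_left, herm_add_right hF, herm_smul_left, herm_smul_right, hv, hf,
      hηe, hve, hfe, hηv, hηf, hfv, hvf]
    ring
  have hmy : h m (η + c • v) = 0 := by
    simp only [hm, herm_add_left, herm_add_right hF, herm_smul_left, herm_smul_right, hη, hv,
      hηv, hvη, hfη, hfv]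
    ring
  have hmx : h m (a • e + v) = k * s ^ q := by
    simp only [hm, herm_add_left, herm_add_right hF, herm_smul_left, herm_smul_right, hv, hfv,
      hηe, hve, hfe, hηv]
    ring
  have hxy : h (a • e + v) (η + c • v) = 0 := by
    simp [herm_add_left, herm_add_right hF, herm_smul_left, herm_smul_right, heη, hev, hvη, hv]
  -- the chain of lifts
  obtain ⟨zz, ⟨pz, hzz⟩, -⟩ := C.lift p zv hz1 (by rw [hp]; exact hzy)
  have hzw : C.adj zz w := C.tri pz pw (by rw [hzz, hw]; exact hzx)
  obtain ⟨mm, ⟨zm, hmm⟩, -⟩ := C.lift z m hm1 hme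
  obtain ⟨zz', ⟨mz, hzz'⟩, -⟩ := C.lift mm zv hz1 (by rw [hmm]; exact sw _ _ hmz)
  have hzz2 : zz = zz' := C.square zp pz zm mz (by rw [hzz, hzz'])
    (by rw [hzz, ← he, hze, ht]; exact hτ1)
  have hmb : C.adj mm b := C.tri zm zb (by rw [hmm, hb]; exact hmy)
  refine C.square (z := mm) (hzz2 ▸ mz) hzw hmb bw (by rw [hw, hw']) ?_
  rw [hw, hmm, ← herm_swap hF m, hmx, pow_q_q hF, mul_pow, hsq]
  intro h1
  refine hτ1 ?_
  have e1 : k * k ^ q * τ = 1 := by
    rw [← hst]
    linear_combination h1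
  have e2 : k * k ^ q * (τ - 1) = 0 := by linear_combination hkk - e1
  rcases mul_eq_zero.1 e2 with e | e
  · exact absurd e (by rw [hk]; exact inv_ne_zero h2)
  · exact sub_eq_zero.1 e

/-- All quadrangles lift. -/
theorem same_all (hF : Fintype.card F = q ^ 2) (hq : 3 ≤ q) (hn : 4 ≤ n) (hbig : 4 ≤ q ∨ 5 ≤ n)
    {z : X} {x y y' : V} (hx : h x x = 1) (hy : C.Mid z x y) (hy' : C.Mid z x y') :
    C.Same z x y y' := by
  have sw : ∀ u u' : V, h u u' = 0 → h u' u = 0 := fun u u' => (herm_eq_zero_symm hF).1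
  by_cases hfar : h x (C.proj z) * h x (C.proj z) ^ q ≠ 1
  · intro a b w w' za aw zb bw ha hb hw hw'
    exact C.square za aw zb bw (by rw [hw, hw']) (by rw [hw]; exact hfar)
  push Not at hfar
  have hee := C.unit z
  obtain ⟨hy1, hye, hyx⟩ := hy
  obtain ⟨hy1', hye', hyx'⟩ := hy'
  set e := C.proj z with he
  obtain ⟨v, hvdef⟩ : ∃ v : V, v = x - h x e • e := ⟨_, rfl⟩
  have hxv : x = h x e • e + v := by rw [hvdef, add_sub_cancel]
  have hve : h v e = 0 := by rw [hvdef, herm_sub_left, herm_smul_left, hee, mul_one, sub_self]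
  have hev := sw _ _ hve
  have hv : h v v = 0 := by
    have := hx
    rw [hxv] at this
    simp only [herm_add_left, herm_add_right hF, herm_smul_left, herm_smul_right, hee, hev, hve] at this
    linear_combination this - hfar
  have hperp : ∀ {u : V}, h u e = 0 → h u x = 0 → h u v = 0 := by
    intro u hue hux
    rw [hvdef, herm_sub_right hF, herm_smul_right, hue, hux, mul_zero, sub_zero]
  have hyv := hperp hye hyx
  have hyv' := hperp hye' hyx'
  by_cases hne : h y' y * h y' y ^ q ≠ 1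
  · exact same_of_far hF (sw _ _ hyx') hne
  push Not at hne
  obtain ⟨r, hrdef⟩ : ∃ r : V, r = y' - h y' y • y := ⟨_, rfl⟩
  have hre : h r e = 0 := by rw [hrdef, herm_sub_left, herm_smul_left, hye, hye', mul_zero, sub_zero]
  have hry : h r y = 0 := by rw [hrdef, herm_sub_left, herm_smul_left, hy1, mul_one, sub_self]
  have hrv : h r v = 0 := by rw [hrdef, herm_sub_left, herm_smul_left, hyv, hyv', mul_zero, sub_zero]
  have hrr : h r r = 0 := by
    have := hy1'
    rw [show y' = h y' y • y + r by rw [hrdef, add_sub_cancel]] at this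
    simp only [herm_add_left, herm_add_right hF, herm_smul_left, herm_smul_right, hy1, hry,
      sw _ _ hry] at this
    linear_combination this - hne
  obtain ⟨hWn, hWd⟩ := nondeg_perp_of_ON hF (on_pair hF hee hy1 (sw _ _ hye))
  rw [Fintype.card_fin] at hWd
  set W := Unitary.perp q (Set.range ![e, y]) with hWdef
  have memW : ∀ {u : V}, u ∈ W ↔ h u e = 0 ∧ h u y = 0 := by
    intro u
    exact mem_perp_two
  -- a middle point orthogonal to `y` and far from `y'`
  have via : ∀ d ∈ W, h d d = 1 → h d v = 0 → h d r * h d r ^ q ≠ 1 → C.Same z x y y' := by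
    intro d hd hd1 hdv hdr
    obtain ⟨hde, hdy⟩ := memW.1 hd
    have hdx : h d x = 0 := by
      rw [hxv, herm_add_right hF, herm_smul_right, hde, hdv, mul_zero, add_zero]
    refine Same.trans hF hx ⟨hd1, by rw [← he]; exact hde, hdx⟩
      (same_of_perp hF (sw _ _ hdx) (sw _ _ hdy)) (same_of_far hF (sw _ _ hyx') ?_)
    rw [← herm_swap hF d y', show h d y' = h d r by
      rw [hrdef, herm_sub_right hF, herm_smul_right, hdy, mul_zero, sub_zero], pow_q_q hF, mul_comm]
    exact hdr
  by_cases hv0 : v = 0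
  · obtain ⟨d, hd, hd1, hdr⟩ := exists_unit_far hF hq hWn (ne_bot_of_finrank (by omega))
      (memW.2 ⟨hre, hry⟩) hrr
    exact via d hd hd1 (by rw [hv0, herm_zero_right hF]) hdr
  obtain ⟨f, hfW, hff, hfv⟩ := exists_partner hF hWn (memW.2 ⟨hve, sw _ _ hyv⟩) hv0 hv
  obtain ⟨hfe, hfy⟩ := memW.1 hfW
  have hvf : h v f = 1 := by rw [← herm_swap hF f v, hfv, one_pow]
  rcases Nat.lt_or_ge 4 n with h5 | h5
  · have hP := nondeg_pair hF hv hff (by rw [hvf]; exact one_ne_zero)
    have hPW : Submodule.span F ({v, f} : Set V) ≤ W :=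
      span_pair_le (memW.2 ⟨hve, sw _ _ hyv⟩) hfW
    have hKn := inf_perp_nondeg hF hWn hP hPW
    have hKd := inf_perp_finrank hF hP hPW
    rw [finrank_pair (indep_pair hF hv (by rw [hvf]; exact one_ne_zero))] at hKd
    obtain ⟨r', hr'def⟩ : ∃ r' : V, r' = r - h r f • v := ⟨_, rfl⟩
    have hr'v : h r' v = 0 := by rw [hr'def, herm_sub_left, herm_smul_left, hrv, hv, mul_zero, sub_zero]
    have hr'f : h r' f = 0 := by rw [hr'def, herm_sub_left, herm_smul_left, hvf, mul_one, sub_self]
    have hr'r : h r' r' = 0 := by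
      nth_rw 2 [hr'def]
      rw [herm_sub_right hF, herm_smul_right, hr'v, mul_zero, sub_zero, hr'def, herm_sub_left,
        herm_smul_left, hrr, sw _ _ hrv, mul_zero, sub_zero]
    have hr'K : r' ∈ W ⊓ Unitary.perp q (Submodule.span F ({v, f} : Set V) : Set V) := by
      refine ⟨memW.2 ⟨?_, ?_⟩, ?_⟩
      · rw [hr'def, herm_sub_left, herm_smul_left, hre, hve, mul_zero, sub_zero]
      · rw [hr'def, herm_sub_left, herm_smul_left, hry, sw _ _ hyv, mul_zero, sub_zero]
      · rw [perp_span hF]; exact mem_perp_pair.2 ⟨hr'v, hr'f⟩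
    obtain ⟨d, hd, hd1, hdr⟩ := exists_unit_far hF hq hKn (ne_bot_of_finrank (by omega)) hr'K hr'r
    have hd2 := hd.2
    rw [perp_span hF] at hd2
    obtain ⟨hdv, -⟩ := mem_perp_pair.1 hd2
    refine via d hd.1 hd1 hdv ?_
    have : h d r = h d r' := by
      rw [hr'def, herm_sub_right hF, herm_smul_right, hdv, mul_zero, sub_zero]
    rwa [this]
  · -- dimension four
    have hq4 : 4 ≤ q := by omega
    have hxa : h x e * h x e ^ q = 1 := hfar
    -- every translate by a multiple of `v` gives the same lift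
    have key : ∀ c : F, ∀ u, C.Mid z x u → C.Same z x u (u + c • v) := by
      have hmid : ∀ (c : F) (u : V), C.Mid z x u → C.Mid z x (u + c • v) := by
        rintro c u ⟨hu1, hue, hux⟩
        have huv := hperp (by rw [he]; exact hue) hux
        refine ⟨?_, ?_, ?_⟩
        · simp [herm_add_left, herm_add_right hF, herm_smul_left, herm_smul_right, hu1, huv,
            sw _ _ huv, hv]
        · rw [← he] at hue ⊢
          simp [herm_add_left, herm_smul_left, hue, hve]
        · rw [hxv]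
          have hue' : h u e = 0 := by rw [he]; exact hue
          simp [herm_add_left, herm_add_right hF, herm_smul_left, herm_smul_right, hue', huv, hve, hv]
      intro c
      have hc : c ∈ AddSubgroup.closure {c : F | c * c ^ q = 1} := by
        rw [addClosure_norm_one hF]; trivial
      induction hc using AddSubgroup.closure_induction with
      | mem c hc =>
        rintro u ⟨hu1, hue, hux⟩
        rw [← he] at hue
        have huv := hperp hue hux
        obtain ⟨hWn', -⟩ := nondeg_perp_of_ON hF (on_pair hF hee hu1 (sw _ _ hue))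
        obtain ⟨g, hgW, hgg, hgv⟩ := exists_partner hF hWn'
          (mem_perp_two.2 ⟨hve, sw _ _ huv⟩) hv0 hv
        rw [mem_perp_two] at hgW
        rw [hxv]
        exact same_chain hF hq4 hxa hc hv (by rw [← he]; exact hve) hgg hgv
          (by rw [← he]; exact hgW.1) (by rw [← he]; exact hue) huv (sw _ _ hgW.2)
          hu1 (by rw [← he]; exact hue) huv (sw _ _ hgW.2)
      | zero =>
        rintro u ⟨-, -, -⟩
        rw [zero_smul, add_zero]
        intro a b w w' za aw zb bw ha hb hw hw'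
        obtain rfl : a = b := (C.lift z (C.proj a) (C.unit a) (C.perp za)).unique ⟨za, rfl⟩
          ⟨zb, by rw [ha, hb]⟩
        exact (C.lift a (C.proj w) (C.unit w) (C.perp aw)).unique ⟨aw, rfl⟩ ⟨bw, by rw [hw, hw']⟩
      | add c d _ _ hc hd =>
        intro u hu
        rw [add_smul, ← add_assoc]
        exact Same.trans hF hx (hmid c u hu) (hc u hu) (hd _ (hmid c u hu))
      | neg c _ hc =>
        intro u hu
        have := (hc _ (hmid (-c) u hu)).symm
        rwa [neg_smul, add_assoc, neg_add_cancel, add_zero, ← neg_smul] at this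
    obtain ⟨η, hηdef⟩ : ∃ η : V, η = h y' y • y := ⟨_, rfl⟩
    have hη1 : h η η = 1 := by rw [hηdef, herm_self_smul, hy1, mul_one, hne]
    have hηe : h η e = 0 := by rw [hηdef, herm_smul_left, hye, mul_zero]
    have hηv : h η v = 0 := by rw [hηdef, herm_smul_left, hyv, mul_zero]
    have hηx : h η x = 0 := by rw [hηdef, herm_smul_left, hyx, mul_zero]
    have hηf : h η f = 0 := by rw [hηdef, herm_smul_left, sw _ _ hfy, mul_zero]
    have hmid : C.Mid z x η := ⟨hη1, by rw [← he]; exact hηe, hηx⟩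
    -- `r` is a multiple of `v`
    have hr : r = h r f • v := by
      have hr'e : h (r - h r f • v) e = 0 := by
        rw [herm_sub_left, herm_smul_left, hre, hve, mul_zero, sub_zero]
      have hP := nondeg_pair hF hv hff (by rw [hvf]; exact one_ne_zero)
      have hPW : Submodule.span F ({v, f} : Set V) ≤ W :=
        span_pair_le (memW.2 ⟨hve, sw _ _ hyv⟩) hfW
      have hKd := inf_perp_finrank hF hP hPW
      rw [finrank_pair (indep_pair hF hv (by rw [hvf]; exact one_ne_zero))] at hKd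
      have hKbot : W ⊓ Unitary.perp q (Submodule.span F ({v, f} : Set V) : Set V) = ⊥ :=
        Submodule.finrank_eq_zero.1 (by omega)
      have hmem : r - h r f • v ∈ W ⊓ Unitary.perp q (Submodule.span F ({v, f} : Set V) : Set V) := by
        refine ⟨memW.2 ⟨hr'e, ?_⟩, ?_⟩
        · rw [herm_sub_left, herm_smul_left, hry, sw _ _ hyv, mul_zero, sub_zero]
        · rw [perp_span hF]
          exact mem_perp_pair.2
            ⟨by rw [herm_sub_left, herm_smul_left, hrv, hv, mul_zero, sub_zero],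
              by rw [herm_sub_left, herm_smul_left, hvf, mul_one, sub_self]⟩
      rw [hKbot, Submodule.mem_bot, sub_eq_zero] at hmem
      exact hmem
    obtain ⟨c1, hc1⟩ : ∃ c : F, c * c ^ q = 1 := ⟨1, by simp⟩
    -- from `y` to `η` through a translate
    have s1 : C.Same z x y (η + c1 • v) := by
      rw [hxv]
      exact same_chain hF hq4 hxa hc1 hv (by rw [← he]; exact hve) hff hfv (by rw [← he]; exact hfe)
        (by rw [← he]; exact hye) hyv (sw _ _ hfy) hη1 (by rw [← he]; exact hηe) hηv hηf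
    have hmid1 : C.Mid z x (η + c1 • v) := by
      refine ⟨?_, ?_, ?_⟩
      · simp [herm_add_left, herm_add_right hF, herm_smul_left, herm_smul_right, hη1, hηv,
          sw _ _ hηv, hv]
      · rw [← he]
        simp [herm_add_left, herm_smul_left, hηe, hve]
      · rw [hxv]
        simp [herm_add_left, herm_add_right hF, herm_smul_left, herm_smul_right, hηe, hηv, hve, hv]
    have s2 : C.Same z x (η + c1 • v) y' := by
      have := key (h r f - c1) (η + c1 • v) hmid1
      rwa [add_assoc, ← add_smul, add_sub_cancel, ← hr,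
        show η + r = y' by rw [hηdef, hrdef, add_sub_cancel]] at this
    exact Same.trans hF hx hmid1 s1 s2

/-- Two paths of length two with the same end points downstairs have the same end point. -/
theorem eq_of_paths (hF : Fintype.card F = q ^ 2) (hq : 3 ≤ q) (hn : 4 ≤ n) (hbig : 4 ≤ q ∨ 5 ≤ n)
    {z a b w w' : X} (za : C.adj z a) (aw : C.adj a w) (zb : C.adj z b) (bw : C.adj b w')
    (hw : C.proj w = C.proj w') : w = w' :=
  same_all hF hq hn hbig (C.unit w)
    ⟨C.unit a, C.perp za, (herm_eq_zero_symm hF).1 (C.perp aw)⟩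
    ⟨C.unit b, C.perp zb, by rw [hw]; exact (herm_eq_zero_symm hF).1 (C.perp bw)⟩
    a b w w' za aw zb bw rfl rfl rfl hw.symm

/-- The points at distance two are closed under adjacency. -/
theorem reach_step (hF : Fintype.card F = q ^ 2) (hq : 3 ≤ q) (hn : 4 ≤ n) (hbig : 4 ≤ q ∨ 5 ≤ n)
    {z w v : X} (hzw : ∃ a, C.adj z a ∧ C.adj a w) (wv : C.adj w v) :
    ∃ a, C.adj z a ∧ C.adj a v := by
  have sw : ∀ u u' : V, h u u' = 0 → h u' u = 0 := fun u u' => (herm_eq_zero_symm hF).1
  have good : ∀ {w v : X}, (∃ a, C.adj z a ∧ C.adj a w) → C.adj w v →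
      (∃ d, h d d = 1 ∧ h d (C.proj z) = 0 ∧ h d (C.proj w) = 0 ∧ h d (C.proj v) = 0) →
      ∃ a, C.adj z a ∧ C.adj a v := by
    rintro w v ⟨a, za, aw⟩ wv ⟨d, hd1, hdz, hdw, hdv⟩
    obtain ⟨c, ⟨zc, hc⟩, -⟩ := C.lift z d hd1 hdz
    obtain ⟨w', ⟨cw, hw'⟩, -⟩ := C.lift c (C.proj w) (C.unit w) (by rw [hc]; exact sw _ _ hdw)
    obtain rfl := eq_of_paths hF hq hn hbig za aw zc cw hw'.symm
    exact ⟨c, zc, C.tri (C.symm cw) wv (by rw [hc]; exact hdv)⟩
  have hee := C.unit z
  have hx1 := C.unit w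
  have hv1 := C.unit v
  have hxv : h (C.proj v) (C.proj w) = 0 := C.perp wv
  set e := C.proj z with he
  set x := C.proj w with hxdef
  set x' := C.proj v with hx'def
  -- criterion for a common orthogonal unit vector
  have crit : ∀ c, h c c = 1 → ∀ u, h u u = 1 → h c u = 0 →
      (1 : F) - h e c * h e c ^ q - h e u * h e u ^ q ≠ 0 →
      ∃ d, h d d = 1 ∧ h d e = 0 ∧ h d c = 0 ∧ h d u = 0 := by
    intro c hc u hu hcu hμ
    have huc := sw _ _ hcu
    obtain ⟨p, hp⟩ : ∃ p : V, p = e - h e c • c - h e u • u := ⟨_, rfl⟩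
    have hpc : h p c = 0 := by simp [hp, herm_sub_left, herm_smul_left, hc, huc]
    have hpu : h p u = 0 := by simp [hp, herm_sub_left, herm_smul_left, hu, hcu]
    have hep : e = p + h e c • c + h e u • u := by rw [hp]; abel
    have hpp : h p p = 1 - h e c * h e c ^ q - h e u * h e u ^ q := by
      have h1 := hee
      nth_rw 1 2 [hep] at h1
      simp only [herm_add_left, herm_add_right hF, herm_smul_left, herm_smul_right, hc, hu, hpc,
        hpu, sw _ _ hpc, sw _ _ hpu, hcu, huc] at h1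
      linear_combination h1
    obtain ⟨γ, hγ⟩ := exists_norm_eq hF (a := (h p p)⁻¹) (by rw [inv_pow, herm_self_fixed hF])
    have hp1 : h (γ • p) (γ • p) = 1 := by
      rw [herm_self_smul, hγ, inv_mul_cancel₀ (by rwa [hpp])]
    have hγ0 : γ ≠ 0 := fun h0 => by rw [h0, zero_smul, herm_zero_left] at hp1; exact zero_ne_one hp1
    obtain ⟨d, hd, hi⟩ := exists_unit_perp_ON hF (on_triple hF hc hu hp1 hcu
      (by rw [herm_smul_right, sw _ _ hpc, mul_zero]) (by rw [herm_smul_right, sw _ _ hpu, mul_zero]))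
      (by simp; omega)
    have hdc : h d c = 0 := hi 0
    have hdu : h d u = 0 := hi 1
    have hdp : h d (γ • p) = 0 := hi 2
    rw [herm_smul_right, mul_eq_zero, or_iff_right (pow_ne_zero q hγ0)] at hdp
    refine ⟨d, hd, ?_, hdc, hdu⟩
    rw [hep]
    simp [herm_add_right hF, herm_smul_right, hdp, hdc, hdu]
  by_cases hμ : (1 : F) - h e x * h e x ^ q - h e x' * h e x' ^ q ≠ 0
  · exact good hzw wv (crit x hx1 x' hv1 (sw _ _ hxv) hμ)
  push Not at hμ
  obtain ⟨p, hp⟩ : ∃ p : V, p = e - h e x • x - h e x' • x' := ⟨_, rfl⟩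
  have hpx : h p x = 0 := by simp [hp, herm_sub_left, herm_smul_left, hx1, hxv]
  have hpx' : h p x' = 0 := by simp [hp, herm_sub_left, herm_smul_left, hv1, sw _ _ hxv]
  have hep : e = p + h e x • x + h e x' • x' := by rw [hp]; abel
  have hpp : h p p = 0 := by
    have h1 := hee
    nth_rw 1 2 [hep] at h1
    simp only [herm_add_left, herm_add_right hF, herm_smul_left, herm_smul_right, hx1, hv1, hpx,
      hpx', sw _ _ hpx, sw _ _ hpx', hxv, sw _ _ hxv] at h1
    linear_combination h1 + hμ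
  obtain ⟨hWn, hWd⟩ := nondeg_perp_of_ON hF (on_pair hF hx1 hv1 (sw _ _ hxv))
  rw [Fintype.card_fin] at hWd
  have memW : ∀ {u : V}, u ∈ Unitary.perp q (Set.range ![x, x']) ↔ h u x = 0 ∧ h u x' = 0 := by
    intro u
    exact mem_perp_two
  by_cases hp0 : p = 0
  · obtain ⟨d, hd1, hdx, hdx'⟩ := exists_unit_perp_two hF (by omega) hx1 hv1 (sw _ _ hxv)
    refine good hzw wv ⟨d, hd1, ?_, hdx, hdx'⟩
    rw [hep, hp0]
    simp [herm_add_right hF, herm_smul_right, herm_zero_right hF, hdx, hdx']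
  obtain ⟨f, hfW, hff, hfp⟩ := exists_partner hF hWn (memW.2 ⟨hpx, hpx'⟩) hp0 hpp
  obtain ⟨hfx, hfx'⟩ := memW.1 hfW
  obtain ⟨τ, hτ, hτ0, hτα, hτβ⟩ := exists_fixed_ne_two hF hq (norm_pow_q hF (h e x))
    (β := h e x' * h e x' ^ q) (by linear_combination -hμ)
  obtain ⟨γ, hγ⟩ := exists_norm_eq hF hτ
  have hγ0 : γ ≠ 0 := fun h0 => hτ0 (by rw [← hγ, h0, zero_mul])
  obtain ⟨u, hu⟩ := exists_trace_eq hF (one_pow q : (1 : F) ^ q = 1)
  obtain ⟨δ, hδ⟩ : ∃ δ : F, δ * γ ^ q = u :=
    ⟨u / γ ^ q, div_mul_cancel₀ u (pow_ne_zero q hγ0)⟩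
  have hδq : δ ^ q * γ = u ^ q := by rw [← hδ, mul_pow, pow_q_q hF]
  obtain ⟨c, hc⟩ : ∃ c : V, c = γ • f + δ • p := ⟨_, rfl⟩
  have hpf : h p f = 1 := by rw [← herm_swap hF f p, hfp, one_pow]
  have hc1 : h c c = 1 := by
    simp only [hc, herm_add_left, herm_add_right hF, herm_smul_left, herm_smul_right, hff, hpp,
      hfp, hpf]
    linear_combination hu + hδ + hδq
  have hcx : h c x = 0 := by simp [hc, herm_add_left, herm_smul_left, hfx, hpx]
  have hcx' : h c x' = 0 := by simp [hc, herm_add_left, herm_smul_left, hfx', hpx']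
  have hec : h e c * h e c ^ q = τ := by
    have : h e c = γ ^ q := by
      rw [hep]
      simp [hc, herm_add_left, herm_add_right hF, herm_smul_left, herm_smul_right, hpf, hpp,
        sw _ _ hfx, sw _ _ hfx', sw _ _ hpx, sw _ _ hpx']
    rw [this, pow_q_q hF, mul_comm, hγ]
  obtain ⟨cc, ⟨wc, hcc⟩, -⟩ := C.lift w c hc1 hcx
  have hcv : C.adj cc v := C.tri wc wv (by rw [hcc]; exact hcx')
  refine good (good hzw wc ?_) hcv ?_
  · obtain ⟨d, h1, h2, h3, h4⟩ := crit x hx1 c hc1 (sw _ _ hcx) (by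
      rw [hec]; intro h0; exact hτβ (by linear_combination hμ - h0))
    exact ⟨d, h1, h2, h3, by rw [hcc]; exact h4⟩
  · obtain ⟨d, h1, h2, h3, h4⟩ := crit c hc1 x' hv1 hcx' (by
      rw [hec]; intro h0; exact hτα (by linear_combination hμ - h0))
    exact ⟨d, h1, h2, by rw [hcc]; exact h3, h4⟩

/-- A connected covering of this kind is trivial. -/
theorem proj_injective (hF : Fintype.card F = q ^ 2) (hq : 3 ≤ q) (hn : 4 ≤ n)
    (hbig : 4 ≤ q ∨ 5 ≤ n) (base : X) (hconn : ∀ z, Relation.ReflTransGen C.adj base z) :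
    Function.Injective C.proj := by
  have reach : ∀ z, ∃ a, C.adj base a ∧ C.adj a z := by
    intro z
    induction hconn z with
    | refl =>
      obtain ⟨d, hd1, hd⟩ := exists_unit_perp_one hF (by omega) (C.unit base)
      obtain ⟨a, ⟨ha, -⟩, -⟩ := C.lift base d hd1 hd
      exact ⟨a, ha, C.symm ha⟩
    | tail _ hadj ih => exact reach_step hF hq hn hbig ih hadj
  intro w w' hw
  obtain ⟨a, ha, haw⟩ := reach w
  obtain ⟨b, hb, hbw⟩ := reach w'
  exact eq_of_paths hF hq hn hbig ha haw hb hbw hw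

end Cov

end Cfsg.Agent.Cores.Phan
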