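import Mathlib
import Cfsg.Agent.Unitary.Stab
import Cfsg.Agent.Unitary.Eichler
import Cfsg.Agent.Cores.Phan.Cover

/-!
Block embeddings of special unitary groups along injections of index sets, transitivity on orthonormal
families, generation by adjacent two-dimensional blocks.
-/

set_option autoImplicit false
set_option linter.unusedSectionVars false

namespace Cfsg.Agent.Cores.Phan

open Cfsg Cfsg.Agent.Unitary Matrix

variable {F : Type*} [Field F] [Fintype F] {n k l m q : ℕ}

/-- The `0`-`1` matrix of an injection. -/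
def inj (F : Type*) [Field F] (ι : Fin k ↪ Fin m) : Matrix (Fin m) (Fin k) F :=
  Matrix.of fun i j => if ι j = i then 1 else 0

theorem injT_mul_inj (ι : Fin k ↪ Fin m) : (inj F ι)ᵀ * inj F ι = 1 := by
  ext i j
  simp [inj, Matrix.mul_apply, Matrix.one_apply, eq_comm]

theorem inj_mul_inj (κ : Fin l ↪ Fin k) (ι : Fin k ↪ Fin m) :
    inj F ι * inj F κ = inj F (κ.trans ι) := by
  ext i j
  simp [inj, Matrix.mul_apply]

theorem injT_mul_inj_disjoint (ι : Fin k ↪ Fin m) (κ : Fin l ↪ Fin m) (hd : ∀ a b, ι a ≠ κ b) :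
    (inj F ι)ᵀ * inj F κ = 0 := by
  ext i j
  simp [inj, Matrix.mul_apply]
  exact hd i j

theorem inj_map (hF : Fintype.card F = q ^ 2) (ι : Fin k ↪ Fin m) :
    (inj F ι).map (fun x : F => x ^ q) = inj F ι := by
  ext i j
  by_cases h : ι j = i <;> simp [inj, h, q_ne_zero hF]

/-- The matrix `M` placed in the rows and columns of `ι`, completed by the identity. -/
def embMat (ι : Fin k ↪ Fin m) (M : Matrix (Fin k) (Fin k) F) : Matrix (Fin m) (Fin m) F :=
  1 + inj F ι * (M - 1) * (inj F ι)ᵀ

theorem embMat_mul (ι : Fin k ↪ Fin m) (M M' : Matrix (Fin k) (Fin k) F) :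
    embMat ι M * embMat ι M' = embMat ι (M * M') := by
  have e : inj F ι * (M - 1) * (inj F ι)ᵀ * (inj F ι * (M' - 1) * (inj F ι)ᵀ) =
      inj F ι * ((M - 1) * (M' - 1)) * (inj F ι)ᵀ := by
    simp only [Matrix.mul_assoc]
    rw [← Matrix.mul_assoc (inj F ι)ᵀ (inj F ι), injT_mul_inj, Matrix.one_mul]
  simp only [embMat, add_mul, mul_add, one_mul, mul_one, e]
  have : M * M' - 1 = (M - 1) + (M' - 1) + (M - 1) * (M' - 1) := by
    simp only [sub_mul, mul_sub, one_mul, mul_one]
    abel
  rw [this]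
  simp only [Matrix.mul_add, Matrix.add_mul]
  abel

theorem embMat_one (ι : Fin k ↪ Fin m) : embMat ι (1 : Matrix (Fin k) (Fin k) F) = 1 := by
  simp [embMat]

theorem det_embMat (ι : Fin k ↪ Fin m) (M : Matrix (Fin k) (Fin k) F) :
    (embMat ι M).det = M.det := by
  rw [embMat, Matrix.mul_assoc, Matrix.det_one_add_mul_comm, Matrix.mul_assoc, injT_mul_inj,
    Matrix.mul_one, add_sub_cancel]

theorem preserves_embMat (hF : Fintype.card F = q ^ 2) (ι : Fin k ↪ Fin m)
    {M : Matrix (Fin k) (Fin k) F} (hM : Preserves q M) : Preserves q (embMat ι M) := by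
  rw [preserves_iff_transpose_mul hF] at hM ⊢
  have hmap : (embMat ι M).map (fun x : F => x ^ q) = embMat ι (M.map fun x => x ^ q) := by
    have hf : ⇑(frob hF).toRingHom = fun x : F => x ^ q := rfl
    rw [← hf]
    simp only [embMat, ← RingHom.mapMatrix_apply, map_add, map_one, map_sub]
    simp only [RingHom.mapMatrix_apply]
    rw [Matrix.map_mul, Matrix.map_mul, Matrix.transpose_map,
      show (inj F ι).map (frob hF).toRingHom = inj F ι from inj_map hF ι]
    congr 2
    congr 1
    rw [← RingHom.mapMatrix_apply, map_sub, map_one]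
    rfl
  have ht : (embMat ι M)ᵀ = embMat ι Mᵀ := by
    simp [embMat, Matrix.transpose_mul, Matrix.transpose_sub, Matrix.mul_assoc]
  rw [hmap, ht, embMat_mul, hM, embMat_one]

/-- Block embedding along an injection. -/
def emb (hF : Fintype.card F = q ^ 2) (ι : Fin k ↪ Fin m) : SU k F q →* SU m F q where
  toFun g := toSU (preserves_embMat hF ι g.2) ((det_embMat ι _).trans (g : SpecialLinearGroup (Fin k) F).2)
  map_one' := Subtype.ext (Subtype.ext (embMat_one ι))
  map_mul' g g' := Subtype.ext (Subtype.ext (embMat_mul ι (mat g) (mat g')).symm)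

theorem mat_emb (hF : Fintype.card F = q ^ 2) (ι : Fin k ↪ Fin m) (g : SU k F q) :
    mat (emb hF ι g) = embMat ι (mat g) := rfl

theorem ext_mat {g g' : SU m F q} (h : mat g = mat g') : g = g' := Subtype.ext (Subtype.ext h)

theorem mat_mul (g g' : SU m F q) : mat (g * g') = mat g * mat g' := rfl

theorem emb_emb (hF : Fintype.card F = q ^ 2) (κ : Fin l ↪ Fin k) (ι : Fin k ↪ Fin m)
    (g : SU l F q) : emb hF ι (emb hF κ g) = emb hF (κ.trans ι) g := by
  refine ext_mat ?_
  rw [mat_emb, mat_emb, mat_emb, embMat, embMat, add_sub_cancel_left, embMat, ← inj_mul_inj,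
    Matrix.transpose_mul]
  simp only [Matrix.mul_assoc]

theorem emb_commute (hF : Fintype.card F = q ^ 2) (ι : Fin k ↪ Fin m) (κ : Fin l ↪ Fin m)
    (hd : ∀ a b, ι a ≠ κ b) (g : SU k F q) (g' : SU l F q) :
    Commute (emb hF ι g) (emb hF κ g') := by
  refine ext_mat ?_
  rw [mat_mul, mat_mul, mat_emb, mat_emb, embMat, embMat]
  have h1 : (inj F ι)ᵀ * inj F κ = 0 := injT_mul_inj_disjoint ι κ hd
  have h2 : (inj F κ)ᵀ * inj F ι = 0 := injT_mul_inj_disjoint κ ι fun a b => (hd b a).symm
  have z1 : inj F ι * (mat g - 1) * (inj F ι)ᵀ * (inj F κ * (mat g' - 1) * (inj F κ)ᵀ) = 0 := by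
    simp only [Matrix.mul_assoc]
    rw [← Matrix.mul_assoc (inj F ι)ᵀ, h1]
    simp
  have z2 : inj F κ * (mat g' - 1) * (inj F κ)ᵀ * (inj F ι * (mat g - 1) * (inj F ι)ᵀ) = 0 := by
    simp only [Matrix.mul_assoc]
    rw [← Matrix.mul_assoc (inj F κ)ᵀ, h2]
    simp
  simp only [add_mul, mul_add, one_mul, mul_one, z1, z2]
  abel

theorem inj_mulVec (ι : Fin k ↪ Fin m) (u : Fin k → F) (j : Fin k) : (inj F ι *ᵥ u) (ι j) = u j := by
  simp [inj, Matrix.mulVec, dotProduct]

theorem inj_mulVec_off (ι : Fin k ↪ Fin m) (u : Fin k → F) {i : Fin m} (hi : ∀ j, ι j ≠ i) :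
    (inj F ι *ᵥ u) i = 0 := by
  simp [inj, Matrix.mulVec, dotProduct, hi]

theorem injT_mulVec (ι : Fin k ↪ Fin m) (x : Fin m → F) (j : Fin k) :
    ((inj F ι)ᵀ *ᵥ x) j = x (ι j) := by
  simp [inj, Matrix.mulVec, dotProduct, eq_comm]

theorem ap_emb_on (hF : Fintype.card F = q ^ 2) (ι : Fin k ↪ Fin m) (g : SU k F q)
    (u : Fin k → F) : ap (emb hF ι g) (inj F ι *ᵥ u) = inj F ι *ᵥ ap g u := by
  rw [ap_def, mat_emb, embMat, add_mulVec, one_mulVec, ← mulVec_mulVec, ← mulVec_mulVec,
    mulVec_mulVec (M := (inj F ι)ᵀ), injT_mul_inj, one_mulVec, sub_mulVec, one_mulVec, mulVec_sub,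
    add_sub_cancel, ap_def]

theorem ap_emb_off (hF : Fintype.card F = q ^ 2) (ι : Fin k ↪ Fin m) (g : SU k F q)
    {x : Fin m → F} (hx : ∀ j, x (ι j) = 0) : ap (emb hF ι g) x = x := by
  rw [ap_def, mat_emb, embMat, add_mulVec, one_mulVec, ← mulVec_mulVec,
    show (inj F ι)ᵀ *ᵥ x = 0 from funext fun j => by rw [injT_mulVec, hx]; rfl, mulVec_zero, add_zero]

theorem inj_mulVec_single (ι : Fin k ↪ Fin m) (j : Fin k) (a : F) :
    inj F ι *ᵥ Pi.single j a = Pi.single (ι j) a := by
  ext i
  rw [Matrix.mulVec_single]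
  by_cases h : ι j = i
  · subst h; simp [inj]
  · simp [inj, h, Pi.single_eq_of_ne (Ne.symm h)]

theorem emb_injective (hF : Fintype.card F = q ^ 2) (ι : Fin k ↪ Fin m) :
    Function.Injective (emb hF ι) := by
  intro g g' h
  refine ap_ext fun u => ?_
  have := congrArg (fun z => fun j => ap z (inj F ι *ᵥ u) (ι j)) h
  simp only [ap_emb_on, inj_mulVec] at this
  exact this

/-- An isometry fixing the basis vectors outside the range of `ι` is in the block of `ι`. -/
theorem exists_emb_eq (hF : Fintype.card F = q ^ 2) (ι : Fin k ↪ Fin m) {g : SU m F q}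
    (hg : ∀ i, (∀ j, ι j ≠ i) → ap g (Pi.single i 1) = Pi.single i 1) : ∃ g', emb hF ι g' = g := by
  -- the rows outside the range are those of the identity
  have hrow : ∀ x : Fin m → F, ∀ i, (∀ j, ι j ≠ i) → ap g x i = x i := by
    intro x i hi
    have h := herm_ap g x (Pi.single i 1)
    rw [hg i hi, herm_single_right hF, herm_single_right hF, one_pow, mul_one, mul_one] at h
    exact h
  obtain ⟨M, hM⟩ : ∃ M, M = (inj F ι)ᵀ * mat g * inj F ι := ⟨_, rfl⟩
  have hMv : ∀ u, inj F ι *ᵥ (M *ᵥ u) = ap g (inj F ι *ᵥ u) := by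
    intro u
    ext i
    by_cases hi : ∀ j, ι j ≠ i
    · rw [inj_mulVec_off ι _ hi, hrow _ i hi, inj_mulVec_off ι _ hi]
    · push Not at hi
      obtain ⟨j, rfl⟩ := hi
      rw [inj_mulVec, hM, ← mulVec_mulVec, ← mulVec_mulVec, injT_mulVec, ap_def]
  have hEq : mat g = embMat ι M := by
    refine Matrix.ext_of_mulVec_single fun i => ?_
    by_cases hi : ∀ j, ι j ≠ i
    · rw [show mat g *ᵥ Pi.single i 1 = _ from hg i hi, embMat, add_mulVec, one_mulVec,
        ← mulVec_mulVec,
        show (inj F ι)ᵀ *ᵥ Pi.single i 1 = 0 from funext fun j => by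
          rw [injT_mulVec, Pi.single_eq_of_ne (hi j)]; rfl, mulVec_zero, add_zero]
    · push Not at hi
      obtain ⟨j, rfl⟩ := hi
      rw [← inj_mulVec_single, embMat, add_mulVec, one_mulVec, ← mulVec_mulVec, ← mulVec_mulVec,
        mulVec_mulVec (M := (inj F ι)ᵀ), injT_mul_inj, one_mulVec, sub_mulVec, one_mulVec,
        mulVec_sub, add_sub_cancel, hMv]
      rfl
  have hdet : M.det = 1 := by
    rw [← det_embMat ι M, ← hEq]
    exact (g : SpecialLinearGroup (Fin m) F).2
  have hinj : ∀ u v : Fin k → F,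
      hermForm m F q (inj F ι *ᵥ u) (inj F ι *ᵥ v) = hermForm k F q u v := by
    intro u v
    rw [herm_eq_dot, herm_eq_dot]
    have : cj q (inj F ι *ᵥ v) = inj F ι *ᵥ cj q v := by
      ext i
      by_cases hi : ∀ j, ι j ≠ i
      · rw [cj_apply, inj_mulVec_off ι _ hi, inj_mulVec_off ι _ hi, zero_pow (q_ne_zero hF)]
      · push Not at hi
        obtain ⟨j, rfl⟩ := hi
        rw [cj_apply, inj_mulVec, inj_mulVec, cj_apply]
    rw [this, Matrix.dotProduct_mulVec, ← Matrix.mulVec_transpose, mulVec_mulVec, injT_mul_inj,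
      one_mulVec]
  have hpres : Preserves q M := by
    intro u v
    rw [← hinj, hMv, hMv, herm_ap, hinj]
  exact ⟨toSU hpres hdet, ext_mat hEq.symm⟩

/-- `SU` is transitive on orthonormal families which do not fill the space. -/
theorem exists_SU_map_ON (hF : Fintype.card F = q ^ 2) {ι : Type*} [Fintype ι] [DecidableEq ι]
    {f f' : ι → Fin n → F} (hf : ON q f) (hf' : ON q f') (hlt : Fintype.card ι < n) :
    ∃ g : SU n F q, ∀ i, ap g (f i) = f' i := by
  obtain ⟨g, hg⟩ := exists_GU_map_ON hF hf hf'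
  obtain ⟨w, hw1, hwf⟩ := exists_unit_perp_ON hF hf' hlt
  have hd : (gmat g).det * (gmat g).det ^ q = 1 := Preserves.det_norm hF g.2
  have hd0 : (gmat g).det ≠ 0 := fun h0 => by rw [h0, zero_mul] at hd; exact zero_ne_one hd
  obtain ⟨δ, hδ⟩ : ∃ δ : F, δ = (gmat g).det⁻¹ := ⟨_, rfl⟩
  have hδn : δ * δ ^ q = 1 := by
    rw [hδ, inv_pow, ← mul_inv, hd, inv_one]
  let R : Matrix (Fin n) (Fin n) F :=
    1 + Matrix.replicateCol Unit ((δ - 1) • w) * Matrix.replicateRow Unit (cj q w)
  have hRv : ∀ x, R *ᵥ x = x + ((δ - 1) * hermForm n F q x w) • w := by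
    intro x
    rw [add_mulVec, one_mulVec, ← Matrix.vecMulVec_eq, vecMulVec_mulVec, op_smul_eq_smul,
      herm_eq_dot, dotProduct_comm x, smul_smul, mul_comm]
  have hRp : Preserves q R := by
    intro x y
    rw [hRv, hRv]
    simp only [herm_add_left, herm_add_right hF, herm_smul_left, herm_smul_right, hw1]
    rw [mul_pow, herm_swap hF y w, sub_pow_q hF, one_pow]
    linear_combination (hermForm n F q x w * hermForm n F q w y) * hδn
  have hRd : R.det = δ := by
    rw [Matrix.det_one_add_replicateCol_mul_replicateRow, dotProduct_smul, dotProduct_comm,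
      ← herm_eq_dot, hw1, smul_eq_mul, mul_one, add_sub_cancel]
  have hpres : Preserves q (R * gmat g) := by
    intro x y
    rw [← mulVec_mulVec, ← mulVec_mulVec, hRp]
    exact g.2 x y
  have hdet : (R * gmat g).det = 1 := by
    rw [Matrix.det_mul, hRd, hδ, inv_mul_cancel₀ hd0]
  refine ⟨toSU hpres hdet, fun i => ?_⟩
  show (R * gmat g) *ᵥ f i = f' i
  rw [← mulVec_mulVec, show gmat g *ᵥ f i = f' i from hg i, hRv,
    (herm_eq_zero_symm hF).1 (hwf i), mul_zero, zero_smul, add_zero]

theorem exists_SU_map_unit (hF : Fintype.card F = q ^ 2) (hn : 2 ≤ n) {x y : Fin n → F}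
    (hx : hermForm n F q x x = 1) (hy : hermForm n F q y y = 1) : ∃ g : SU n F q, ap g x = y := by
  obtain ⟨g, hg⟩ := exists_SU_map_ON hF (f := fun _ : Fin 1 => x) (f' := fun _ : Fin 1 => y)
    (fun i j => by simp [hx, Subsingleton.elim i j]) (fun i j => by simp [hy, Subsingleton.elim i j])
    (by simp; omega)
  exact ⟨g, hg 0⟩

theorem exists_SU_map_pair (hF : Fintype.card F = q ^ 2) (hn : 3 ≤ n) {x y x' y' : Fin n → F}
    (hf : ON q ![x, y]) (hf' : ON q ![x', y']) : ∃ g : SU n F q, ap g x = x' ∧ ap g y = y' := by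
  obtain ⟨g, hg⟩ := exists_SU_map_ON hF hf hf' (by simp; omega)
  exact ⟨g, hg 0, hg 1⟩

/-! ### Segments and generation by adjacent blocks -/

/-- The consecutive indices `a, …, a + k - 1`. -/
def seg (a k m : ℕ) (h : a + k ≤ m) : Fin k ↪ Fin m :=
  ⟨fun j => ⟨a + j, by omega⟩, fun x y hxy => Fin.ext (Nat.add_left_cancel (congrArg Fin.val hxy))⟩

@[simp] theorem seg_val (a k m : ℕ) (h : a + k ≤ m) (j : Fin k) :
    ((seg a k m h j : Fin m) : ℕ) = a + (j : ℕ) := rfl

theorem seg_trans (a k b l m : ℕ) (h : a + k ≤ l) (h' : b + l ≤ m) (h'' : b + a + k ≤ m) :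
    (seg a k l h).trans (seg b l m h') = seg (b + a) k m h'' :=
  Function.Embedding.ext fun _ => Fin.ext (Nat.add_assoc _ _ _).symm

/-- The subgroup generated by the adjacent two-dimensional blocks. -/
def pairGen (hF : Fintype.card F = q ^ 2) (m : ℕ) : Subgroup (SU m F q) :=
  ⨆ (i : ℕ) (h : i + 2 ≤ m), (emb hF (seg i 2 m h)).range

theorem emb_mem_pairGen (hF : Fintype.card F = q ^ 2) {i : ℕ} (h : i + 2 ≤ m) (g : SU 2 F q) :
    emb hF (seg i 2 m h) g ∈ pairGen hF m :=
  Subgroup.mem_iSup_of_mem i (Subgroup.mem_iSup_of_mem h ⟨g, rfl⟩)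

theorem exists_trace_ne_zero_norm (hF : Fintype.card F = q ^ 2) {ζ : F} (hζ : ζ ≠ 0) :
    ∃ μ : F, μ * μ ^ q = 1 ∧ μ * ζ + (μ * ζ) ^ q ≠ 0 := by
  classical
  by_contra hne
  push Not at hne
  have h1 := card_norm_eq_one (F := F) hF
  have h2 := card_trace_zero (F := F) hF
  have hle : Nat.card {x : F // x * x ^ q = 1} ≤ Nat.card {x : F // x + x ^ q = 0} :=
    Nat.card_le_card_of_injective (fun μ => ⟨μ.1 * ζ, hne μ.1 μ.2⟩)
      fun a b hab => Subtype.ext (mul_right_cancel₀ hζ (congrArg Subtype.val hab))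
  omega

theorem pairGen_eq_top (hF : Fintype.card F = q ^ 2) (hq : 3 ≤ q) (hm : 2 ≤ m) :
    pairGen hF m = ⊤ := by
  induction m, hm using Nat.le_induction with
  | base =>
    rw [eq_top_iff]
    intro g _
    obtain ⟨g', hg'⟩ := exists_emb_eq hF (seg 0 2 2 (by omega)) (g := g)
      (fun i hi => absurd (Fin.ext (by simp)) (hi i))
    exact hg' ▸ emb_mem_pairGen hF _ g'
  | succ m hm ih =>
    set H := pairGen hF (m + 1) with hH
    have hsub : ∀ g : SU m F q, emb hF (seg 0 m (m + 1) (by omega)) g ∈ H := by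
      intro g
      have hg : g ∈ pairGen hF m := ih ▸ Subgroup.mem_top g
      refine (show pairGen hF m ≤ H.comap (emb hF (seg 0 m (m + 1) (by omega))) from
        iSup₂_le fun i h => ?_) hg
      rintro _ ⟨a, rfl⟩
      rw [Subgroup.mem_comap, emb_emb, seg_trans i 2 0 m (m + 1) h (by omega) (by omega)]
      simp only [Nat.zero_add]
      exact emb_mem_pairGen hF _ a
    have hlastmem : ∀ g : SU 2 F q, emb hF (seg (m - 1) 2 (m + 1) (by omega)) g ∈ H :=
      fun g => emb_mem_pairGen hF _ g
    set p0 : Fin (m + 1) := ⟨m - 1, by omega⟩ with hp0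
    set p1 : Fin (m + 1) := Fin.last m with hp1
    set last : Fin (m + 1) → F := Pi.single p1 1 with hlast
    have hs0 : seg (m - 1) 2 (m + 1) (by omega) 0 = p0 := Fin.ext (by simp [hp0])
    have hs1 : seg (m - 1) 2 (m + 1) (by omega) 1 = p1 := Fin.ext (by simp [hp1]; omega)
    -- vectors of the last plane
    have plane : ∀ x : Fin (m + 1) → F, hermForm (m + 1) F q x x = 1 →
        (∀ i, i ≠ p0 → i ≠ p1 → x i = 0) → ∃ g ∈ H, ap g x = last := by
      intro x hx hoff
      set E := inj F (seg (m - 1) 2 (m + 1) (by omega)) with hE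
      have hxe : x = E *ᵥ ![x p0, x p1] := by
        ext i
        by_cases h0 : i = p0
        · have := inj_mulVec (F := F) (seg (m - 1) 2 (m + 1) (by omega)) ![x p0, x p1] 0
          rw [hs0] at this
          rw [h0, this]
          simp
        by_cases h1 : i = p1
        · have := inj_mulVec (F := F) (seg (m - 1) 2 (m + 1) (by omega)) ![x p0, x p1] 1
          rw [hs1] at this
          rw [h1, this]
          simp
        rw [hoff i h0 h1, inj_mulVec_off]
        intro j
        fin_cases j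
        · exact fun e => h0 (e.symm.trans hs0)
        · exact fun e => h1 (e.symm.trans hs1)
      have hu : hermForm 2 F q ![x p0, x p1] ![x p0, x p1] = 1 := by
        rw [← hx, hermForm, hermForm, Fin.sum_univ_two]
        rw [Finset.sum_eq_add p0 p1 (by intro e; have := congrArg Fin.val e; simp [hp0, hp1] at this; omega)
          (fun i _ hi => by rw [hoff i hi.1 hi.2, zero_mul]) (by simp) (by simp)]
        simp
      obtain ⟨a, ha⟩ := exists_SU_map_unit hF le_rfl hu
        (show hermForm 2 F q (Pi.single 1 1) (Pi.single 1 1) = 1 by simp [herm_single_single hF])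
      refine ⟨_, hlastmem a, ?_⟩
      rw [hxe, hE, ap_emb_on, ha, inj_mulVec_single, hs1]
    -- all unit vectors
    have trans_ : ∀ x : Fin (m + 1) → F, hermForm (m + 1) F q x x = 1 → ∃ g ∈ H, ap g x = last := by
      set E := inj F (seg 0 m (m + 1) (by omega)) with hE
      set pl : Fin m := ⟨m - 1, by omega⟩ with hpl
      have hsc : ∀ j : Fin m, seg 0 m (m + 1) (by omega) j = j.castSucc :=
        fun j => Fin.ext (by simp)
      have hplc : pl.castSucc = p0 := Fin.ext rfl
      have split : ∀ x : Fin (m + 1) → F,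
          x = E *ᵥ (fun j => x j.castSucc) + Pi.single p1 (x p1) := by
        intro x
        ext i
        induction i using Fin.lastCases with
        | last =>
          rw [Pi.add_apply, inj_mulVec_off]
          · simp [hp1]
          · intro j; rw [hsc]; exact j.castSucc_lt_last.ne
        | cast i =>
          rw [Pi.add_apply, show i.castSucc = seg 0 m (m + 1) (by omega) i from (hsc i).symm,
            inj_mulVec]
          rw [hsc, hp1, Pi.single_eq_of_ne i.castSucc_lt_last.ne, add_zero]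
      have hnorm : ∀ x : Fin (m + 1) → F, hermForm (m + 1) F q x x =
          hermForm m F q (fun j => x j.castSucc) (fun j => x j.castSucc) + x p1 * x p1 ^ q := by
        intro x
        rw [hermForm, Fin.sum_univ_castSucc]
        rfl
      -- a move of the first coordinates
      have move : ∀ (a : SU m F q) (x : Fin (m + 1) → F),
          ap (emb hF (seg 0 m (m + 1) (by omega)) a) x =
            E *ᵥ ap a (fun j => x j.castSucc) + Pi.single p1 (x p1) := by
        intro a x
        nth_rw 1 [split x]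
        rw [ap_add, ap_emb_on, ap_emb_off]
        intro j
        rw [hsc, hp1, Pi.single_eq_of_ne j.castSucc_lt_last.ne]
      -- when the first part is anisotropic
      have aniso : ∀ x : Fin (m + 1) → F, hermForm (m + 1) F q x x = 1 →
          x p1 * x p1 ^ q ≠ 1 → ∃ g ∈ H, ap g x = last := by
        intro x hx hd
        have hw := hnorm x
        rw [hx] at hw
        set w := fun j : Fin m => x j.castSucc with hwdef
        have hw0 : hermForm m F q w w ≠ 0 := by
          intro h0
          rw [h0, zero_add] at hw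
          exact hd hw.symm
        obtain ⟨γ, hγ⟩ := exists_norm_eq hF (herm_self_fixed hF w)
        have hγ0 : γ ≠ 0 := fun e => hw0 (by rw [← hγ, e, zero_mul])
        obtain ⟨a, ha⟩ := exists_SU_map_unit hF hm
          (x := γ⁻¹ • w) (y := Pi.single pl 1)
          (by rw [herm_self_smul, inv_pow, ← mul_inv, hγ, inv_mul_cancel₀ hw0])
          (by simp [herm_single_single hF])
        rw [ap_smul, inv_smul_eq_iff₀ hγ0, ← Pi.single_smul', smul_eq_mul, mul_one] at ha
        have hx' := move a x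
        rw [ha, hE, inj_mulVec_single, hsc, hplc] at hx'
        obtain ⟨g, hg, hgx⟩ := plane (ap (emb hF (seg 0 m (m + 1) (by omega)) a) x)
          (by rw [herm_ap, hx]) (fun i h0 h1 => by
            rw [hx', Pi.add_apply, Pi.single_eq_of_ne h0, Pi.single_eq_of_ne h1, add_zero])
        exact ⟨g * _, H.mul_mem hg (hsub a), by rw [ap_mul, hgx]⟩
      intro x hx
      by_cases hd : x p1 * x p1 ^ q ≠ 1
      · exact aniso x hx hd
      push Not at hd
      set w := fun j : Fin m => x j.castSucc with hwdef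
      by_cases hw0 : w = 0
      · refine plane x hx fun i _ h1 => ?_
        obtain ⟨j, rfl⟩ := Fin.exists_castSucc_eq.2 h1
        exact congrFun hw0 j
      obtain ⟨i, hi⟩ := Function.ne_iff.1 hw0
      obtain ⟨a, ha⟩ := exists_SU_map_unit hF hm (x := Pi.single i (1 : F)) (y := Pi.single pl 1)
        (by simp [herm_single_single hF]) (by simp [herm_single_single hF])
      set x' := ap (emb hF (seg 0 m (m + 1) (by omega)) a) x with hx'
      have hc : x' p0 ≠ 0 := by
        rw [hx', move, Pi.add_apply, Pi.single_eq_of_ne (by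
          intro e; have := congrArg Fin.val e; simp [hp0, hp1] at this; omega), add_zero, ← hplc,
          ← hsc, inj_mulVec]
        have h := herm_ap a w (Pi.single i 1)
        rw [ha, herm_single_right hF, herm_single_right hF, one_pow, mul_one, mul_one] at h
        rw [h]
        exact hi
      have hd' : x' p1 = x p1 := by
        rw [hx', move, Pi.add_apply, inj_mulVec_off, Pi.single_eq_same, zero_add]
        intro j; rw [hsc]; exact j.castSucc_lt_last.ne
      -- choose an element of the last plane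
      obtain ⟨α, β, hαβ, hgoal⟩ : ∃ α β : F, α * α ^ q + β * β ^ q = 1 ∧
          (β * x' p0 + α ^ q * x' p1) * (β * x' p0 + α ^ q * x' p1) ^ q ≠ 1 := by
        by_cases hc1 : x' p0 * x' p0 ^ q ≠ 1
        · refine ⟨0, 1, ?_, ?_⟩
          · rw [zero_mul, zero_add, one_mul, one_pow]
          · rwa [zero_pow (q_ne_zero hF), zero_mul, add_zero, one_mul]
        push Not at hc1
        obtain ⟨τ, hτ, hτ0, hτ1⟩ := exists_fixed_ne hF hq
        obtain ⟨α, hα⟩ := exists_norm_eq hF hτ
        obtain ⟨β, hβ⟩ := exists_norm_eq hF (a := 1 - τ) (by rw [sub_pow_q hF, one_pow, hτ])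
        have hα0 : α ≠ 0 := fun e => hτ0 (by rw [← hα, e, zero_mul])
        have hβ0 : β ≠ 0 := fun e => sub_ne_zero.2 (Ne.symm hτ1) (by rw [← hβ, e, zero_mul])
        have hd0 : x' p1 ≠ 0 := fun e => by rw [← hd', e, zero_mul] at hd; exact zero_ne_one hd
        obtain ⟨μ, hμ, hμt⟩ := exists_trace_ne_zero_norm hF
          (ζ := β * x' p0 * (α * x' p1 ^ q))
          (mul_ne_zero (mul_ne_zero hβ0 hc) (mul_ne_zero hα0 (pow_ne_zero q hd0)))
        refine ⟨α, μ * β, ?_, ?_⟩
        · rw [mul_pow]; linear_combination hα + hβ + (β * β ^ q) * hμ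
        · intro e
          refine hμt ?_
          have hd2 : x' p1 * x' p1 ^ q = 1 := by rw [hd']; exact hd
          simp only [add_pow_q hF, mul_pow, pow_q_q hF] at e ⊢
          linear_combination e - hβ - (β * β ^ q) * hμ - (μ * μ ^ q * β * β ^ q) * hc1
            - hα - (α * α ^ q) * hd2
      let M : Matrix (Fin 2) (Fin 2) F := !![α, -β ^ q; β, α ^ q]
      have hMp : Preserves q M := by
        rw [preserves_iff_transpose_mul hF]
        ext i j
        fin_cases i <;> fin_cases j <;>
          simp [M, Matrix.mul_apply, Fin.sum_univ_two, neg_pow_q hF, pow_q_q hF] <;>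
          first | linear_combination hαβ | ring
      have hMd : M.det = 1 := by
        rw [Matrix.det_fin_two]
        simp [M]
        linear_combination hαβ
      set u := emb hF (seg (m - 1) 2 (m + 1) (by omega)) (toSU hMp hMd) with hu
      have hx1 : hermForm (m + 1) F q (ap u x') (ap u x') = 1 := by rw [herm_ap, hx', herm_ap, hx]
      have hcoord : ap u x' p1 = β * x' p0 + α ^ q * x' p1 := by
        obtain ⟨y, hy⟩ : ∃ y, y = (inj F (seg (m - 1) 2 (m + 1) (by omega)))ᵀ *ᵥ x' := ⟨_, rfl⟩
        have hy0 : y 0 = x' p0 := by rw [hy, injT_mulVec, hs0]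
        have hy1 : y 1 = x' p1 := by rw [hy, injT_mulVec, hs1]
        rw [ap_def, hu, mat_emb, embMat, add_mulVec, one_mulVec, Pi.add_apply, ← mulVec_mulVec,
          ← mulVec_mulVec, ← hy, ← hs1, inj_mulVec, hs1, sub_mulVec, one_mulVec, Pi.sub_apply, hy1]
        show x' p1 + ((M *ᵥ y) 1 - x' p1) = _
        rw [add_sub_cancel]
        simp [Matrix.mulVec, dotProduct, Fin.sum_univ_two, M, hy0, hy1]
      obtain ⟨g, hg, hgx⟩ := aniso _ hx1 (by rw [hcoord]; exact hgoal)
      exact ⟨g * (u * _), H.mul_mem hg (H.mul_mem (hlastmem _) (hsub a)),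
        by rw [ap_mul, ap_mul, ← hx', hgx]⟩
    rw [eq_top_iff]
    intro g _
    obtain ⟨a, ha, hax⟩ := trans_ (ap g last) (by rw [herm_ap]; simp [hlast, herm_single_single hF])
    obtain ⟨b, hb⟩ := exists_emb_eq hF (seg 0 m (m + 1) (by omega)) (g := a * g) (fun i hi => by
      obtain rfl : i = p1 := by
        induction i using Fin.lastCases with
        | last => rfl
        | cast j => exact absurd (Fin.ext (by simp)) (hi j)
      rw [ap_mul, ← hlast, hax])
    have : g = a⁻¹ * (a * g) := (inv_mul_cancel_left a g).symm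
    rw [this, ← hb]
    exact H.mul_mem (H.inv_mem ha) (hsub b)

/-- Homomorphisms agreeing on the adjacent blocks agree. -/
theorem hom_ext (hF : Fintype.card F = q ^ 2) (hq : 3 ≤ q) (hm : 2 ≤ m) {G : Type*} [Group G]
    {φ ψ : SU m F q →* G}
    (h : ∀ i, ∀ hi : i + 2 ≤ m, φ.comp (emb hF (seg i 2 m hi)) = ψ.comp (emb hF (seg i 2 m hi))) :
    φ = ψ := by
  refine MonoidHom.ext fun g => ?_
  have hg : g ∈ pairGen hF m := by rw [pairGen_eq_top hF hq hm]; trivial
  refine (show pairGen hF m ≤ φ.eqLocus ψ from iSup₂_le fun i hi => ?_) hg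
  rintro _ ⟨a, rfl⟩
  exact DFunLike.congr_fun (h i hi) a

/-- The images of the blocks generate the image. -/
theorem range_eq_iSup (hF : Fintype.card F = q ^ 2) (hq : 3 ≤ q) (hm : 2 ≤ m) {G : Type*} [Group G]
    (φ : SU m F q →* G) :
    φ.range = ⨆ (i : ℕ) (h : i + 2 ≤ m), (φ.comp (emb hF (seg i 2 m h))).range := by
  rw [MonoidHom.range_eq_map, ← pairGen_eq_top hF hq hm, pairGen]
  simp only [Subgroup.map_iSup, MonoidHom.map_range]

end Cfsg.Agent.Cores.Phan
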