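import Mathlib
import Cfsg.Agent.Cores.Phan.Blocks

/-!
One step of the completion: an amalgam of `SU_m` and `SU_3` overlapping in a two-dimensional block
maps onto the image of `SU_(m+1)`.
-/

set_option autoImplicit false
set_option linter.unusedSectionVars false

namespace Cfsg.Agent.Cores.Phan

open Cfsg Cfsg.Agent.Unitary Matrix

variable {F : Type*} [Field F] [Fintype F] {k m q : ℕ} {G : Type*} [Group G]

theorem eq_inj_mulVec (ι : Fin k ↪ Fin m) {x : Fin m → F} (hx : ∀ i, (∀ j, ι j ≠ i) → x i = 0) :
    x = inj F ι *ᵥ fun j => x (ι j) := by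
  ext i
  by_cases hi : ∀ j, ι j ≠ i
  · rw [hx i hi, inj_mulVec_off _ _ hi]
  · push Not at hi
    obtain ⟨j, rfl⟩ := hi
    rw [inj_mulVec]

theorem herm_inj (hF : Fintype.card F = q ^ 2) (ι : Fin k ↪ Fin m) (u v : Fin k → F) :
    hermForm m F q (inj F ι *ᵥ u) (inj F ι *ᵥ v) = hermForm k F q u v := by
  rw [herm_eq_dot, herm_eq_dot]
  have : cj q (inj F ι *ᵥ v) = inj F ι *ᵥ cj q v := by
    ext i
    by_cases hi : ∀ j, ι j ≠ i
    · rw [cj_apply, inj_mulVec_off ι _ hi, inj_mulVec_off ι _ hi, zero_pow (q_ne_zero hF)]
    · push Not at hi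
      obtain ⟨j, rfl⟩ := hi
      rw [cj_apply, inj_mulVec, inj_mulVec, cj_apply]
  rw [this, Matrix.dotProduct_mulVec, ← Matrix.mulVec_transpose, mulVec_mulVec, injT_mul_inj,
    one_mulVec]

/-- Transitivity of a block on the unit vectors supported on it. -/
theorem exists_emb_map (hF : Fintype.card F = q ^ 2) (hk : 2 ≤ k) (ι : Fin k ↪ Fin m)
    {x y : Fin m → F} (hx : ∀ i, (∀ j, ι j ≠ i) → x i = 0) (hy : ∀ i, (∀ j, ι j ≠ i) → y i = 0)
    (hx1 : hermForm m F q x x = 1) (hy1 : hermForm m F q y y = 1) :
    ∃ g : SU k F q, ap (emb hF ι g) x = y := by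
  rw [eq_inj_mulVec ι hx, herm_inj hF] at hx1
  rw [eq_inj_mulVec ι hy, herm_inj hF] at hy1
  obtain ⟨g, hg⟩ := exists_SU_map_unit hF hk hx1 hy1
  refine ⟨g, ?_⟩
  rw [eq_inj_mulVec ι hx, ap_emb_on, hg, ← eq_inj_mulVec ι hy]

theorem single_unit (hF : Fintype.card F = q ^ 2) (i : Fin m) :
    hermForm m F q (Pi.single i 1) (Pi.single i 1) = 1 := by
  simp [herm_single_single hF]

/-- Two paths to an element: the pair of a map and its image. -/
def pairHom (hF : Fintype.card F = q ^ 2) {n : ℕ} (ι : Fin k ↪ Fin n) (φ : SU k F q →* G) :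
    SU k F q →* SU n F q × G :=
  (emb hF ι).prod φ

/-- An element of `SU₂` exchanging the basis vectors up to sign. -/
theorem exists_swap (hF : Fintype.card F = q ^ 2) :
    ∃ w : SU 2 F q, ap w (Pi.single 1 1) = Pi.single 0 1 :=
  exists_SU_map_unit hF le_rfl (single_unit hF 1) (single_unit hF 0)

theorem seg_congr {a a' : ℕ} (e : a = a') (h : a + k ≤ m) (h' : a' + k ≤ m) :
    seg a k m h = seg a' k m h' := by
  subst e; rfl

/-- The step of the completion. -/
theorem exists_step (hF : Fintype.card F = q ^ 2) (hq : 3 ≤ q) (hm : 3 ≤ m)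
    (hbig : 4 ≤ q ∨ 4 ≤ m) (Φ : SU m F q →* G) (Ψ : SU 3 F q →* G)
    (hagree : Ψ.comp (emb hF (seg 0 2 3 (by omega))) = Φ.comp (emb hF (seg (m - 2) 2 m (by omega))))
    (hcomm : ∀ (a : SU (m - 1) F q) (u : SU 2 F q),
      Commute (Φ (emb hF (seg 0 (m - 1) m (by omega)) a)) (Ψ (emb hF (seg 1 2 3 (by omega)) u))) :
    ∃ Φ' : SU (m + 1) F q →* G,
      Φ'.comp (emb hF (seg 0 m (m + 1) (by omega))) = Φ ∧
      Φ'.comp (emb hF (seg (m - 1) 2 (m + 1) (by omega))) =
        Ψ.comp (emb hF (seg 1 2 3 (by omega))) := by
  -- the three homomorphisms into the product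
  set sA := seg 0 m (m + 1) (by omega) with hsA
  set sU := seg (m - 1) 2 (m + 1) (by omega) with hsU
  set s3 := seg (m - 2) 3 (m + 1) (by omega) with hs3
  set t0 := seg 0 2 3 (by omega) with ht0
  set t1 := seg 1 2 3 (by omega) with ht1
  set iA := pairHom hF sA Φ with hiA
  set i3 := pairHom hF s3 Ψ with hi3
  set iU := i3.comp (emb hF t1) with hiU
  have hUfst : ∀ u, (iU u).1 = emb hF sU u := by
    intro u
    show emb hF s3 (emb hF t1 u) = _
    rw [emb_emb, seg_trans 1 2 (m - 2) 3 (m + 1) (by omega) (by omega) (by omega), hsU,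
      seg_congr (show m - 2 + 1 = m - 1 by omega) _ (by omega)]
  have h30 : ∀ c, i3 (emb hF t0 c) = iA (emb hF (seg (m - 2) 2 m (by omega)) c) := by
    intro c
    refine Prod.ext ?_ (DFunLike.congr_fun hagree c)
    show emb hF s3 (emb hF t0 c) = emb hF sA _
    rw [emb_emb, emb_emb, seg_trans 0 2 (m - 2) 3 (m + 1) (by omega) (by omega) (by omega),
      seg_trans (m - 2) 2 0 m (m + 1) (by omega) (by omega) (by omega),
      seg_congr (show m - 2 + 0 = 0 + (m - 2) by omega) _ (by omega)]
  set L := iA.range ⊔ iU.range with hL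
  have hA : ∀ a, iA a ∈ L := fun a => Subgroup.mem_sup_left ⟨a, rfl⟩
  have hU : ∀ u, iU u ∈ L := fun u => Subgroup.mem_sup_right ⟨u, rfl⟩
  have h3 : ∀ g, i3 g ∈ L := by
    intro g
    have hg : g ∈ pairGen hF 3 := by rw [pairGen_eq_top hF hq (by omega)]; trivial
    refine (show pairGen hF 3 ≤ L.comap i3 from iSup₂_le fun i hi => ?_) hg
    rintro _ ⟨c, rfl⟩
    obtain rfl | rfl : i = 0 ∨ i = 1 := by omega
    · rw [Subgroup.mem_comap, h30]; exact hA _
    · exact hU c
  -- commutation
  have hc1 : ∀ a u, Commute (iA (emb hF (seg 0 (m - 1) m (by omega)) a)) (iU u) := by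
    intro a u
    refine Commute.prod ?_ (hcomm a u)
    show Commute (emb hF sA (emb hF _ a)) (iU u).1
    rw [emb_emb, hUfst]
    exact emb_commute hF _ _ (fun x y h => by have := congrArg Fin.val h; simp [hsA, hsU] at this; omega) a u
  -- the point of the first block fixed
  have hfix : ∀ a : SU m F q, ap a (Pi.single ⟨m - 1, by omega⟩ 1) = Pi.single ⟨m - 1, by omega⟩ 1 →
      ∃ b, emb hF (seg 0 (m - 1) m (by omega)) b = a := by
    intro a ha
    refine exists_emb_eq hF _ fun i hi => ?_
    obtain rfl : i = ⟨m - 1, by omega⟩ := by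
      refine Fin.ext ?_
      by_contra hne
      have h1 : (i : ℕ) ≠ m - 1 := hne
      exact hi ⟨i, by omega⟩ (Fin.ext (by simp))
    exact ha
  -- vectors
  set e : Fin (m + 1) → F := Pi.single (Fin.last m) 1 with he
  set ea : Fin (m + 1) → F := Pi.single ⟨m - 1, by omega⟩ 1 with hea
  set eb : Fin (m + 1) → F := Pi.single ⟨m - 2, by omega⟩ 1 with heb
  have hee : hermForm (m + 1) F q e e = 1 := single_unit hF _
  have hAoff : ∀ i : Fin (m + 1), (∀ j, sA j ≠ i) → i = Fin.last m := by
    intro i hi
    refine Fin.ext ?_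
    by_contra hne
    exact hi ⟨i, by have := i.isLt; simp at hne; omega⟩ (Fin.ext (by simp [hsA]))
  have hAe : ∀ a, ap (iA a).1 e = e := fun a => ap_emb_off hF sA a fun j =>
    Pi.single_eq_of_ne (by intro h; have := congrArg Fin.val h; simp [hsA] at this; omega) _
  -- points
  set A := iA.range.subgroupOf L with hAdef
  let proj : L ⧸ A → (Fin (m + 1) → F) := Quotient.lift (fun l : L => ap (l : SU (m + 1) F q × G).1 e) (by
    intro l l' h
    obtain ⟨a, ha⟩ := (QuotientGroup.leftRel_apply.1 h)
    show ap (l : SU (m + 1) F q × G).1 e = ap (l' : SU (m + 1) F q × G).1 e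
    have : (l' : SU (m + 1) F q × G) = l * iA a := by
      rw [ha]; simp
    rw [this, Prod.fst_mul, ap_mul, hAe])
  obtain ⟨w2, hw2⟩ := exists_swap (F := F) (q := q) hF
  set k3 := emb hF t0 w2 with hk3
  set w3 := emb hF t1 w2 with hw3
  set W : L := ⟨iU w2, hU w2⟩ with hW
  let mkA : SU m F q → L := fun a => ⟨iA a, hA a⟩
  let mk3 : SU 3 F q → L := fun g => ⟨i3 g, h3 g⟩
  have mkA_mul : ∀ a b, mkA (a * b) = mkA a * mkA b := fun a b => Subtype.ext (map_mul iA a b)
  have mk3_mul : ∀ a b, mk3 (a * b) = mk3 a * mk3 b := fun a b => Subtype.ext (map_mul i3 a b)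
  have mk_A : ∀ (l : L) a, (QuotientGroup.mk (l * mkA a) : L ⧸ A) = QuotientGroup.mk l := by
    intro l a
    refine (QuotientGroup.eq.2 ?_).symm
    rw [inv_mul_cancel_left]
    exact ⟨a, rfl⟩
  -- a three-dimensional element fixing the last vector lies in the first block
  have three : ∀ (l : L) (g g' : SU 3 F q), ap g (Pi.single 2 1) = ap g' (Pi.single 2 1) →
      (QuotientGroup.mk (l * mk3 g) : L ⧸ A) = QuotientGroup.mk (l * mk3 g') := by
    intro l g g' hgg
    obtain ⟨c, hc⟩ := exists_emb_eq hF t0 (g := g⁻¹ * g') (fun i hi => by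
      obtain rfl : i = 2 := by
        fin_cases i
        · exact absurd rfl (hi 0)
        · exact absurd rfl (hi 1)
        · rfl
      rw [ap_mul, ← hgg, ap_inv_ap])
    have hgc : mk3 g' = mk3 g * mkA (emb hF (seg (m - 2) 2 m (by omega)) c) := by
      refine Subtype.ext ?_
      show i3 g' = i3 g * iA _
      rw [← h30, hc, ← map_mul, mul_inv_cancel_left]
    rw [hgc, ← mul_assoc, mk_A]
  have hWw : W = mk3 w3 := rfl
  have hk : ∀ c, mk3 (emb hF t0 c) = mkA (emb hF (seg (m - 2) 2 m (by omega)) c) :=
    fun c => Subtype.ext (h30 c)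
  have hw3e : ap w3 (Pi.single 2 1) = Pi.single 1 1 := by
    have : (Pi.single 2 1 : Fin 3 → F) = inj F t1 *ᵥ Pi.single 1 1 := by
      rw [inj_mulVec_single]; rfl
    rw [hw3, this, ap_emb_on, hw2, inj_mulVec_single]
    rfl
  have hk3e : ap k3 (Pi.single 1 1) = Pi.single 0 1 := by
    have : (Pi.single 1 1 : Fin 3 → F) = inj F t0 *ᵥ Pi.single 1 1 := by
      rw [inj_mulVec_single]; rfl
    rw [hk3, this, ap_emb_on, hw2, inj_mulVec_single]
    rfl
  -- how the embedded three-space acts
  have h3v : ∀ g (v : Fin 3 → F), ap (emb hF s3 g) (inj F s3 *ᵥ v) = inj F s3 *ᵥ ap g v :=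
    fun g v => ap_emb_on hF s3 g v
  have he3 : e = inj F s3 *ᵥ Pi.single 2 1 := by
    rw [inj_mulVec_single, he]; congr 1; exact Fin.ext (by simp [hs3]; omega)
  have hea3 : ea = inj F s3 *ᵥ Pi.single 1 1 := by
    rw [inj_mulVec_single, hea]; congr 1; exact Fin.ext (by simp [hs3]; omega)
  have heb3 : eb = inj F s3 *ᵥ Pi.single 0 1 := by
    rw [inj_mulVec_single, heb]; congr 1
  have hWe : ap (W : SU (m + 1) F q × G).1 e = ea := by
    show ap (emb hF s3 w3) e = ea
    rw [he3, h3v, hw3e, hea3]
  have heaA : ea = inj F sA *ᵥ Pi.single (⟨m - 1, by omega⟩ : Fin m) 1 := by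
    rw [inj_mulVec_single, hea]; congr 1; exact Fin.ext (by simp [hsA])
  have hebA : eb = inj F sA *ᵥ Pi.single (⟨m - 2, by omega⟩ : Fin m) 1 := by
    rw [inj_mulVec_single, heb]; congr 1; exact Fin.ext (by simp [hsA])
  -- vectors orthogonal to `e`
  have hres : ∀ {y : Fin (m + 1) → F}, hermForm (m + 1) F q y e = 0 →
      y = inj F sA *ᵥ fun j => y (sA j) := by
    intro y hy
    refine eq_inj_mulVec sA fun i hi => ?_
    rw [he, herm_single_right hF, one_pow, mul_one] at hy
    rw [hAoff i hi]; exact hy
  let adj : L ⧸ A → L ⧸ A → Prop := fun z z' =>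
    ∃ l : L, z = QuotientGroup.mk l ∧ z' = QuotientGroup.mk (l * W)
  have proj_mk : ∀ l : L, proj (QuotientGroup.mk l) = ap (l : SU (m + 1) F q × G).1 e :=
    fun l => rfl
  have proj_mkA : ∀ (l : L) a, proj (QuotientGroup.mk (l * mkA a * W)) =
      ap (l : SU (m + 1) F q × G).1 (inj F sA *ᵥ ap a (Pi.single ⟨m - 1, by omega⟩ 1)) := by
    intro l a
    rw [proj_mk, Subgroup.coe_mul, Prod.fst_mul, ap_mul, hWe, Subgroup.coe_mul, Prod.fst_mul,
      ap_mul, heaA]
    show ap _ (ap (emb hF sA a) _) = _
    rw [ap_emb_on]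
  have adj_l : ∀ (l : L) a, adj (QuotientGroup.mk l) (QuotientGroup.mk (l * mkA a * W)) :=
    fun l a => ⟨l * mkA a, (mk_A l a).symm, rfl⟩
  -- every neighbour has this form
  have nb : ∀ (l : L) (z' : L ⧸ A), adj (QuotientGroup.mk l) z' →
      ∃ a, z' = QuotientGroup.mk (l * mkA a * W) := by
    rintro l z' ⟨l', hl, rfl⟩
    obtain ⟨a, ha⟩ := QuotientGroup.eq.1 hl
    refine ⟨a, ?_⟩
    have : l' = l * mkA a := by
      have e1 : mkA a = l⁻¹ * l' := Subtype.ext ha
      rw [e1, mul_inv_cancel_left]
    rw [this]
  -- neighbours are determined by their images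
  have nbu : ∀ (l : L) a b, ap a (Pi.single (⟨m - 1, by omega⟩ : Fin m) (1 : F)) =
      ap b (Pi.single ⟨m - 1, by omega⟩ 1) →
      (QuotientGroup.mk (l * mkA a * W) : L ⧸ A) = QuotientGroup.mk (l * mkA b * W) := by
    intro l a b hab
    obtain ⟨c, hc⟩ := hfix (a⁻¹ * b) (by rw [ap_mul, ← hab, ap_inv_ap])
    have hb : mkA b = mkA a * mkA (emb hF (seg 0 (m - 1) m (by omega)) c) := by
      rw [← mkA_mul, hc, mul_inv_cancel_left]
    have hcw : mkA (emb hF (seg 0 (m - 1) m (by omega)) c) * W =
        W * mkA (emb hF (seg 0 (m - 1) m (by omega)) c) := Subtype.ext (hc1 c w2).eq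
    rw [hb, ← mul_assoc l (mkA a) (mkA _), mul_assoc (l * mkA a) (mkA _) W, hcw, ← mul_assoc (l * mkA a) W, mk_A]
  -- adjacency inside the three-space
  have adj3 : ∀ (l : L) (g : SU 3 F q) (c : SU 2 F q),
      adj (QuotientGroup.mk (l * mk3 g)) (QuotientGroup.mk (l * mk3 (g * emb hF t0 c * w3))) := by
    intro l g c
    refine ⟨l * mk3 (g * emb hF t0 c), ?_, ?_⟩
    · rw [mk3_mul, hk, ← mul_assoc, mk_A]
    · rw [mk3_mul (g * emb hF t0 c) w3, ← hWw, ← mul_assoc]
  have adj_near : ∀ (l : L) (g g' : SU 3 F q),
      hermForm 3 F q (ap g' (Pi.single 2 1)) (ap g (Pi.single 2 1)) = 0 →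
      adj (QuotientGroup.mk (l * mk3 g)) (QuotientGroup.mk (l * mk3 g')) := by
    intro l g g' hgg
    obtain ⟨p, hp⟩ : ∃ p, p = ap g⁻¹ (ap g' (Pi.single 2 (1 : F))) := ⟨_, rfl⟩
    have hp2 : p 2 = 0 := by
      have h1 : hermForm 3 F q p (Pi.single 2 1) = 0 := by rw [hp, ← herm_ap g, ap_ap_inv, hgg]
      rwa [herm_single_right hF, one_pow, mul_one] at h1
    obtain ⟨c, hc⟩ := exists_emb_map hF le_rfl t0 (x := Pi.single 1 1) (y := p)
      (fun i hi => Pi.single_eq_of_ne (fun h => hi 1 ((Fin.ext rfl).trans h.symm)) _)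
      (fun i hi => by
        obtain rfl : i = 2 := by
          fin_cases i
          · exact absurd rfl (hi 0)
          · exact absurd rfl (hi 1)
          · rfl
        exact hp2)
      (single_unit hF 1) (by rw [hp, herm_ap, herm_ap, single_unit hF])
    rw [three l g' (g * emb hF t0 c * w3) (by rw [ap_mul, hw3e, ap_mul, hc, hp, ap_ap_inv])]
    exact adj3 l g c
  have mk_one : ∀ l : L, l * mk3 1 = l := fun l => by
    rw [show mk3 1 = 1 from Subtype.ext (map_one i3), mul_one]
  have p0 : ∀ j : Fin 3, hermForm 3 F q (Pi.single j 1) (Pi.single j 1) = 1 := single_unit hF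
  -- the covering
  let C : Cov (m + 1) F q (L ⧸ A) :=
    { proj := proj
      adj := adj
      unit := fun z => by
        induction z using QuotientGroup.induction_on with
        | H l => rw [proj_mk, herm_ap, hee]
      symm := fun {z z'} => by
        rintro ⟨l, rfl, rfl⟩
        have := adj_near l w3 1 (by
          rw [hw3e, ap_one, herm_single_single hF]; simp)
        rwa [mk_one, ← hWw] at this
      perp := fun {z z'} => by
        rintro ⟨l, rfl, rfl⟩
        rw [proj_mk, proj_mk, Subgroup.coe_mul, Prod.fst_mul, ap_mul, herm_ap, hWe, hea, he,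
          herm_single_single hF, if_neg]
        intro h; have := congrArg Fin.val h; simp at this; omega
      lift := fun z y hy hyz => by
        induction z using QuotientGroup.induction_on with
        | H l =>
          obtain ⟨y', hy'⟩ : ∃ y', y' = ap (l : SU (m + 1) F q × G).1⁻¹ y := ⟨_, rfl⟩
          have hy'e : hermForm (m + 1) F q y' e = 0 := by
            rw [hy', ← herm_ap (l : SU (m + 1) F q × G).1, ap_ap_inv]; exact hyz
          have hy'1 : hermForm m F q (fun j => y' (sA j)) (fun j => y' (sA j)) = 1 := by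
            rw [← herm_inj hF sA, ← hres hy'e, hy', herm_ap, hy]
          obtain ⟨a, ha⟩ := exists_SU_map_unit hF (by omega)
            (single_unit hF (⟨m - 1, by omega⟩ : Fin m)) hy'1
          have hval : proj (QuotientGroup.mk (l * mkA a * W)) = y := by
            rw [proj_mkA, ha, ← hres hy'e, hy', ap_ap_inv]
          refine ⟨_, ⟨adj_l l a, hval⟩, ?_⟩
          rintro z' ⟨hz', hz'y⟩
          obtain ⟨b, rfl⟩ := nb l z' hz'
          refine nbu l b a ?_
          rw [← hval, proj_mkA, proj_mkA] at hz'y
          have := ap_injective _ hz'y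
          exact funext fun j => by
            have h2 := congrFun this (sA j)
            rwa [inj_mulVec, inj_mulVec] at h2
      tri := fun {z a b} => by
        induction z using QuotientGroup.induction_on with
        | H l =>
          intro za zb hab
          obtain ⟨c, rfl⟩ := nb l a za
          obtain ⟨d, rfl⟩ := nb l b zb
          rw [proj_mkA, proj_mkA, herm_ap, herm_inj hF] at hab
          set pa : Fin m := ⟨m - 1, by omega⟩
          set pb : Fin m := ⟨m - 2, by omega⟩
          have hpab : pb ≠ pa := by intro h; have := congrArg Fin.val h; simp [pa, pb] at this; omega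
          obtain ⟨g, hg1, hg2⟩ := exists_SU_map_pair hF (by omega)
            (on_pair hF (single_unit hF pa) (single_unit hF pb)
              (by rw [herm_single_single hF, if_neg hpab.symm]))
            (on_pair hF (x := ap c (Pi.single pa 1)) (y := ap d (Pi.single pa 1))
              (by rw [herm_ap, single_unit hF]) (by rw [herm_ap, single_unit hF]) hab)
          have e1 : (QuotientGroup.mk (l * mkA c * W) : L ⧸ A) = QuotientGroup.mk (l * mkA g * W) :=
            nbu l c g hg1.symm
          obtain ⟨k2, hk2⟩ := exists_emb_map hF le_rfl (seg (m - 2) 2 m (by omega))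
            (x := Pi.single pa 1) (y := Pi.single pb (1 : F))
            (fun i hi => Pi.single_eq_of_ne
              (fun h => hi 1 ((Fin.ext (by simp [pa]; omega)).trans h.symm)) _)
            (fun i hi => Pi.single_eq_of_ne (fun h => hi 0 ((Fin.ext (by simp [pb])).trans h.symm)) _)
            (single_unit hF pa) (single_unit hF pb)
          have e2 : (QuotientGroup.mk (l * mkA d * W) : L ⧸ A) =
              QuotientGroup.mk (l * mkA g * mk3 (emb hF t0 k2 * w3)) := by
            rw [nbu l d (g * emb hF (seg (m - 2) 2 m (by omega)) k2) (by rw [ap_mul, hk2, hg2]),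
              mkA_mul, mk3_mul, hk, ← hWw]
            simp only [mul_assoc]
          rw [e1, e2, hWw]
          refine adj_near (l * mkA g) w3 _ ?_
          rw [hw3e, ap_mul, hw3e]
          have hke : ap (emb hF t0 k2) (Pi.single 1 1) = (Pi.single 0 1 : Fin 3 → F) := by
            have h1 : (Pi.single pa 1 : Fin m → F) = inj F (seg (m - 2) 2 m (by omega)) *ᵥ Pi.single 1 1 := by
              rw [inj_mulVec_single]; congr 1; exact Fin.ext (by simp [pa]; omega)
            have h2 : (Pi.single pb 1 : Fin m → F) = inj F (seg (m - 2) 2 m (by omega)) *ᵥ Pi.single 0 1 := by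
              rw [inj_mulVec_single]; congr 1
            rw [h1, ap_emb_on, h2] at hk2
            have h3' : ap k2 (Pi.single 1 1) = (Pi.single 0 1 : Fin 2 → F) := funext fun j => by
              have h4 := congrFun hk2 (seg (m - 2) 2 m (by omega) j)
              rwa [inj_mulVec, inj_mulVec] at h4
            have h5 : (Pi.single 1 1 : Fin 3 → F) = inj F t0 *ᵥ Pi.single 1 1 := by
              rw [inj_mulVec_single]; rfl
            rw [h5, ap_emb_on, h3', inj_mulVec_single]
            rfl
          rw [hke, herm_single_single hF]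
          simp
      square := fun {z a b w w'} => by
        induction z using QuotientGroup.induction_on with
        | H l =>
          intro za aw zb bw hww hfar
          rw [proj_mk l] at hfar
          obtain ⟨x, hx⟩ : ∃ x, x = ap (l : SU (m + 1) F q × G).1⁻¹ (proj w) := ⟨_, rfl⟩
          have hxl : ap (l : SU (m + 1) F q × G).1 x = proj w := by rw [hx, ap_ap_inv]
          have hwu : hermForm (m + 1) F q (proj w) (proj w) = 1 := by
            induction w using QuotientGroup.induction_on with
            | H l' => rw [proj_mk, herm_ap, hee]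
          have hx1 : hermForm (m + 1) F q x x = 1 := by rw [hx, herm_ap, hwu]
          rw [← hxl, herm_ap, he, herm_single_right hF, one_pow, mul_one] at hfar
          set v : Fin m → F := fun j => x (sA j) with hv
          have hsplit : x = inj F sA *ᵥ v + Pi.single (Fin.last m) (x (Fin.last m)) := by
            ext i
            by_cases hi : ∀ j, sA j ≠ i
            · rw [Pi.add_apply, inj_mulVec_off _ _ hi, hAoff i hi, Pi.single_eq_same, zero_add]
            · push Not at hi
              obtain ⟨j, rfl⟩ := hi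
              rw [Pi.add_apply, inj_mulVec, Pi.single_eq_of_ne (by
                intro h; have := congrArg Fin.val h; simp [hsA] at this; omega), add_zero]
          have hvn : hermForm m F q v v + x (Fin.last m) * x (Fin.last m) ^ q = 1 := by
            rw [← hx1]
            have hcross : hermForm (m + 1) F q (inj F sA *ᵥ v) (Pi.single (Fin.last m) (x (Fin.last m))) = 0 := by
              rw [herm_single_right hF, inj_mulVec_off, zero_mul]
              intro j h; have := congrArg Fin.val h; simp [hsA] at this; omega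
            conv_rhs => rw [hsplit]
            rw [herm_add_left, herm_add_right hF, herm_add_right hF, herm_inj hF, hcross,
              (herm_eq_zero_symm hF).1 hcross, herm_single_left, Pi.single_eq_same]
            ring
          have hv0 : hermForm m F q v v ≠ 0 := fun h0 => by
            rw [h0, zero_add] at hvn; exact hfar hvn
          obtain ⟨γ, hγ⟩ := exists_norm_eq hF (herm_self_fixed hF v)
          have hγ0 : γ ≠ 0 := fun h0 => hv0 (by rw [← hγ, h0, zero_mul])
          obtain ⟨α, hα⟩ := exists_SU_map_unit hF (by omega)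
            (single_unit hF (⟨m - 1, by omega⟩ : Fin m))
            (y := γ⁻¹ • v) (by rw [herm_self_smul, inv_pow, ← mul_inv, hγ, inv_mul_cancel₀ hv0])
          obtain ⟨u, hu⟩ := exists_emb_map hF le_rfl t1 (x := Pi.single 2 1)
            (y := γ • (Pi.single 1 1 : Fin 3 → F) + x (Fin.last m) • Pi.single 2 1)
            (fun i hi => Pi.single_eq_of_ne (fun h => hi 1 ((Fin.ext rfl).trans h.symm)) _)
            (fun i hi => by
              obtain rfl : i = 0 := by
                fin_cases i
                · rfl
                · exact absurd rfl (hi 0)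
                · exact absurd rfl (hi 1)
              simp)
            (single_unit hF 2) (by
              simp [herm_add_left, herm_add_right hF, herm_smul_left, herm_smul_right,
                herm_single_single hF]
              linear_combination hγ + hvn)
          -- the canonical point
          suffices key : ∀ a w, adj (QuotientGroup.mk l) a → adj a w →
              proj w = ap (l : SU (m + 1) F q × G).1 x →
              w = QuotientGroup.mk (l * mkA α * mk3 (emb hF t1 u)) by
            rw [key a w za aw hxl.symm, key b w' zb bw (by rw [← hww, hxl])]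
          intro a w za aw hw
          obtain ⟨c, rfl⟩ := nb l a za
          set y := ap c (Pi.single (⟨m - 1, by omega⟩ : Fin m) (1 : F)) with hy
          have hvα : v = γ • ap α (Pi.single (⟨m - 1, by omega⟩ : Fin m) (1 : F)) := by
            rw [hα, smul_inv_smul₀ hγ0]
          have hyv : hermForm m F q y v = 0 := by
            have h0 : hermForm (m + 1) F q (proj w) (proj (QuotientGroup.mk (l * mkA c * W))) = 0 := by
              obtain ⟨l', h1, h2⟩ := aw
              rw [h2, h1, proj_mk, proj_mk, Subgroup.coe_mul, Prod.fst_mul, ap_mul, herm_ap, hWe,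
                hea, he, herm_single_single hF, if_neg]
              intro h; have := congrArg Fin.val h; simp at this; omega
            rw [hw, proj_mkA, herm_ap, ← hy, hsplit, herm_add_left, herm_inj hF, herm_single_left,
              inj_mulVec_off] at h0
            · rw [zero_pow (q_ne_zero hF), mul_zero, add_zero] at h0
              exact (herm_eq_zero_symm hF).1 h0
            · intro j h; have := congrArg Fin.val h; simp [hsA] at this; omega
          set pa : Fin m := ⟨m - 1, by omega⟩
          set pb : Fin m := ⟨m - 2, by omega⟩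
          have hpab : pb ≠ pa := by intro h; have := congrArg Fin.val h; simp [pa, pb] at this; omega
          obtain ⟨β, hβ1, hβ2⟩ := exists_SU_map_pair hF (by omega)
            (on_pair hF (single_unit hF pa) (single_unit hF pb)
              (by rw [herm_single_single hF, if_neg hpab.symm]))
            (on_pair hF (x := Pi.single pa (1 : F)) (y := ap α⁻¹ y) (single_unit hF pa)
              (by rw [herm_ap, hy, herm_ap, single_unit hF])
              (by
                rw [herm_ap_right, inv_inv]
                rw [hvα, herm_smul_right, mul_eq_zero, or_iff_right (pow_ne_zero q hγ0)] at hyv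
                exact (herm_eq_zero_symm hF).1 hyv))
          obtain ⟨b, hb⟩ := hfix β hβ1
          have hP : (QuotientGroup.mk (l * mkA α * mk3 (emb hF t1 u)) : L ⧸ A) =
              QuotientGroup.mk (l * mkA (α * β) * mk3 (emb hF t1 u)) := by
            have hcu : mkA β * mk3 (emb hF t1 u) = mk3 (emb hF t1 u) * mkA β :=
              Subtype.ext (hb ▸ (hc1 b u).eq)
            rw [mkA_mul, mul_assoc l (mkA α * mkA β), mul_assoc (mkA α), hcu, ← mul_assoc,
              ← mul_assoc, mk_A]
          have ha : (QuotientGroup.mk (l * mkA c * W) : L ⧸ A) =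
              QuotientGroup.mk (l * mkA (α * β) * mk3 (k3 * w3)) := by
            rw [nbu l c (α * β * emb hF (seg (m - 2) 2 m (by omega)) w2) ?_, mk3_mul, hk3, hk,
              ← hWw, mkA_mul (α * β)]
            · simp only [mul_assoc]
            rw [← hy, ap_mul]
            have h1 : (Pi.single pa 1 : Fin m → F) = inj F (seg (m - 2) 2 m (by omega)) *ᵥ Pi.single 1 1 := by
              rw [inj_mulVec_single]; congr 1; exact Fin.ext (by simp [pa]; omega)
            have h2 : inj F (seg (m - 2) 2 m (by omega)) *ᵥ Pi.single 0 1 = (Pi.single pb 1 : Fin m → F) := by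
              rw [inj_mulVec_single]; congr 1
            rw [h1, ap_emb_on, hw2, h2, ap_mul, hβ2, ap_ap_inv]
          have hadj : adj (QuotientGroup.mk (l * mkA c * W))
              (QuotientGroup.mk (l * mkA α * mk3 (emb hF t1 u))) := by
            rw [hP, ha]
            refine adj_near _ _ _ ?_
            rw [ap_mul, hw3e, hk3e, hu]
            simp [herm_add_left, herm_smul_left, herm_single_single hF]
          obtain ⟨l', h1, h2⟩ := hadj
          obtain ⟨l'', h1', h2'⟩ := aw
          obtain ⟨d, hd⟩ := QuotientGroup.eq.1 (h1.symm.trans h1')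
          have hl'' : l'' = l' * mkA d := by
            have e1 : mkA d = l'⁻¹ * l'' := Subtype.ext hd
            rw [e1, mul_inv_cancel_left]
          have h1A : mkA 1 = 1 := Subtype.ext (map_one iA)
          rw [h2', h2, hl'']
          have := nbu l' d 1 ?_
          · rwa [h1A, mul_one] at this
          have hx' : ap (l : SU (m + 1) F q × G).1 x =
              proj (QuotientGroup.mk (l * mkA α * mk3 (emb hF t1 u))) := by
            rw [proj_mk, Subgroup.coe_mul, Prod.fst_mul, Subgroup.coe_mul, Prod.fst_mul, ap_mul,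
              ap_mul]
            show _ = ap _ (ap (emb hF sA α) (ap (emb hF s3 (emb hF t1 u)) e))
            congr 1
            rw [he3, h3v, hu, mulVec_add, mulVec_smul, mulVec_smul, ← hea3, ← he3, ap_add, ap_smul,
              ap_smul, show ap (emb hF sA α) e = e from hAe α, heaA, ap_emb_on, ← mulVec_smul,
              ← hvα]
            rw [hsplit]
            congr 1
            rw [he, ← Pi.single_smul', smul_eq_mul, mul_one, Pi.add_apply, inj_mulVec_off,
              Pi.single_eq_same, zero_add]
            intro j h; have := congrArg Fin.val h; simp [hsA] at this; omega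
          rw [hx', h2, ← mul_one l', ← h1A] at hw
          rw [h2', hl'', proj_mkA, proj_mkA] at hw
          have := ap_injective _ hw
          exact funext fun j => by
            have h2 := congrFun this (sA j)
            rwa [inj_mulVec, inj_mulVec] at h2 }
  -- connectedness
  have hconn : ∀ z, Relation.ReflTransGen C.adj (QuotientGroup.mk (1 : L)) z := by
    intro z
    induction z using QuotientGroup.induction_on with
    | H l =>
    obtain ⟨l, hl⟩ := l
    have hl' : l ∈ Subgroup.closure (Set.range iA ∪ Set.range iU) := by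
      rw [Subgroup.closure_union, ← MonoidHom.coe_range, ← MonoidHom.coe_range, Subgroup.closure_eq,
        Subgroup.closure_eq]
      exact hl
    have stepU : ∀ (l : L) (u : SU 2 F q), Relation.ReflTransGen adj (QuotientGroup.mk l)
        (QuotientGroup.mk (l * mk3 (emb hF t1 u))) := by
      intro l u
      refine Relation.ReflTransGen.trans
        (.single (show adj (QuotientGroup.mk l) (QuotientGroup.mk (l * mk3 (k3 * w3))) from ?_))
        (.single (adj_near l (k3 * w3) (emb hF t1 u) ?_))
      · have := adj_near l 1 (k3 * w3) (by rw [ap_mul, hw3e, hk3e, ap_one, herm_single_single hF]; simp)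
        rwa [mk_one] at this
      · rw [ap_mul, hw3e, hk3e]
        have : (Pi.single 2 1 : Fin 3 → F) = inj F t1 *ᵥ Pi.single 1 1 := by
          rw [inj_mulVec_single]; rfl
        rw [this, ap_emb_on, herm_single_right hF, inj_mulVec_off, zero_mul]
        intro j h; have := congrArg Fin.val h; simp [ht1] at this
    induction hl' using Subgroup.closure_induction_right with
    | one => exact Relation.ReflTransGen.refl
    | mul_right x hx y hy ih =>
      have hxL : x ∈ L := by
        rw [Subgroup.closure_union, ← MonoidHom.coe_range, ← MonoidHom.coe_range, Subgroup.closure_eq,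
          Subgroup.closure_eq] at hx
        exact hx
      rcases hy with ⟨a, rfl⟩ | ⟨u, rfl⟩
      · have := mk_A ⟨x, hxL⟩ a
        exact this ▸ ih hxL
      · exact (ih hxL).trans (stepU ⟨x, hxL⟩ u)
    | mul_inv_cancel x hx y hy ih =>
      have hxL : x ∈ L := by
        rw [Subgroup.closure_union, ← MonoidHom.coe_range, ← MonoidHom.coe_range, Subgroup.closure_eq,
          Subgroup.closure_eq] at hx
        exact hx
      rcases hy with ⟨a, rfl⟩ | ⟨u, rfl⟩
      · have := mk_A ⟨x, hxL⟩ a⁻¹
        have e1 : (⟨x * (iA a)⁻¹, hl⟩ : L) = ⟨x, hxL⟩ * mkA a⁻¹ :=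
          Subtype.ext (by show _ = x * iA a⁻¹; rw [map_inv])
        rw [e1, this]; exact ih hxL
      · have e1 : (⟨x * (iU u)⁻¹, hl⟩ : L) = ⟨x, hxL⟩ * mk3 (emb hF t1 u⁻¹) :=
          Subtype.ext (by show _ = x * iU u⁻¹; rw [map_inv])
        rw [e1]; exact (ih hxL).trans (stepU _ _)
  have hinj := Cov.proj_injective (C := C) hF hq (by omega) (hbig.imp id (by omega)) _ hconn
  -- the projection of the group is bijective
  have hbij : Function.Bijective ((MonoidHom.fst (SU (m + 1) F q) G).comp L.subtype) := by
    constructor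
    · rw [← MonoidHom.ker_eq_bot_iff, eq_bot_iff]
      intro l hl
      have hl1 : (l : SU (m + 1) F q × G).1 = 1 := hl
      have hz : (QuotientGroup.mk l : L ⧸ A) = QuotientGroup.mk 1 := hinj (by
        show ap (l : SU (m + 1) F q × G).1 e = ap ((1 : L) : SU (m + 1) F q × G).1 e
        rw [hl1]; rfl)
      obtain ⟨a, ha⟩ := QuotientGroup.eq.1 hz.symm
      have hla : (l : SU (m + 1) F q × G) = iA a := by rw [ha]; simp
      have : a = 1 := emb_injective hF sA (by
        rw [map_one]
        exact (congrArg Prod.fst hla).symm.trans hl1)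
      rw [Subgroup.mem_bot]
      exact Subtype.ext (by rw [hla, this, map_one]; rfl)
    · intro g
      have hg : g ∈ pairGen hF (m + 1) := by rw [pairGen_eq_top hF hq (by omega)]; trivial
      suffices hle : pairGen hF (m + 1) ≤ ((MonoidHom.fst (SU (m + 1) F q) G).comp L.subtype).range
        from hle hg
      refine iSup₂_le fun i hi => ?_
      rintro _ ⟨c, rfl⟩
      by_cases him : i + 2 ≤ m
      · refine ⟨⟨iA (emb hF (seg i 2 m him) c), hA _⟩, ?_⟩
        show emb hF sA (emb hF _ c) = _
        rw [emb_emb, seg_trans i 2 0 m (m + 1) him (by omega) (by omega)]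
        simp only [Nat.zero_add]
      · refine ⟨⟨iU c, hU c⟩, ?_⟩
        show (iU c).1 = _
        rw [hUfst, hsU, seg_congr (show m - 1 = i by omega) _ hi]
  let E := MulEquiv.ofBijective _ hbij
  refine ⟨(MonoidHom.snd (SU (m + 1) F q) G).comp (L.subtype.comp E.symm.toMonoidHom),
    MonoidHom.ext fun a => ?_, MonoidHom.ext fun u => ?_⟩
  · have : E.symm (emb hF sA a) = mkA a := by
      rw [MulEquiv.symm_apply_eq]; rfl
    show (E.symm (emb hF sA a) : SU (m + 1) F q × G).2 = Φ a
    rw [this]; rfl
  · have : E.symm (emb hF sU u) = ⟨iU u, hU u⟩ := by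
      rw [MulEquiv.symm_apply_eq]; exact (hUfst u).symm
    show (E.symm (emb hF sU u) : SU (m + 1) F q × G).2 = _
    rw [this]; rfl

end Cfsg.Agent.Cores.Phan
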