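import Mathlib
import Cfsg.Agent.Cores.Phan.Step

/-!
Diagonal-semilinear automorphisms of the special unitary groups.
-/

set_option autoImplicit false
set_option linter.unusedSectionVars false

namespace Cfsg.Agent.Cores.Phan

open Cfsg Cfsg.Agent.Unitary Matrix

variable {F : Type*} [Field F] [Fintype F] {k m q : ℕ}

/-- The matrix `D M^σ D⁻¹`, `D` diagonal with entries `ν`. -/
def semiMat (ν : Fin m → F) (σ : F ≃+* F) (M : Matrix (Fin m) (Fin m) F) : Matrix (Fin m) (Fin m) F :=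
  Matrix.of fun i j => ν i * σ (M i j) * (ν j)⁻¹

theorem semiMat_apply (ν : Fin m → F) (σ : F ≃+* F) (M : Matrix (Fin m) (Fin m) F) (i j : Fin m) :
    semiMat ν σ M i j = ν i * σ (M i j) * (ν j)⁻¹ := rfl

theorem semiMat_eq (ν : Fin m → F) (σ : F ≃+* F) (M : Matrix (Fin m) (Fin m) F) :
    semiMat ν σ M = Matrix.diagonal ν * M.map σ * Matrix.diagonal fun i => (ν i)⁻¹ := by
  ext i j
  simp [semiMat_apply, Matrix.diagonal_mul, Matrix.mul_diagonal]

theorem ne_zero_of_norm {a : F} (ha : a * a ^ q = 1) : a ≠ 0 := fun h0 => by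
  rw [h0, zero_mul] at ha
  exact zero_ne_one ha

theorem semiMat_mul {ν : Fin m → F} (hν : ∀ i, ν i ≠ 0) (σ : F ≃+* F)
    (M M' : Matrix (Fin m) (Fin m) F) :
    semiMat ν σ M * semiMat ν σ M' = semiMat ν σ (M * M') := by
  ext i j
  simp only [Matrix.mul_apply, semiMat_apply, map_sum, map_mul, Finset.mul_sum, Finset.sum_mul]
  refine Finset.sum_congr rfl fun l _ => ?_
  field_simp [hν l, hν j]

theorem semiMat_one {ν : Fin m → F} (hν : ∀ i, ν i ≠ 0) (σ : F ≃+* F) :
    semiMat ν σ (1 : Matrix (Fin m) (Fin m) F) = 1 := by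
  ext i j
  by_cases h : i = j
  · subst h; simp [semiMat_apply, hν i]
  · simp [semiMat_apply, h]

theorem det_semiMat {ν : Fin m → F} (hν : ∀ i, ν i ≠ 0) (σ : F ≃+* F)
    (M : Matrix (Fin m) (Fin m) F) : (semiMat ν σ M).det = σ M.det := by
  rw [semiMat_eq, Matrix.det_mul, Matrix.det_mul, Matrix.det_diagonal, Matrix.det_diagonal,
    mul_right_comm, ← Finset.prod_mul_distrib, Finset.prod_congr rfl (fun i _ => mul_inv_cancel₀ (hν i)),
    Finset.prod_const_one, one_mul]
  exact (σ.map_det M).symm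

theorem preserves_semiMat (hF : Fintype.card F = q ^ 2) {ν : Fin m → F}
    (hν : ∀ i, ν i * ν i ^ q = 1) (σ : F ≃+* F) {M : Matrix (Fin m) (Fin m) F}
    (hM : Preserves q M) : Preserves q (semiMat ν σ M) := by
  rw [preserves_iff_transpose_mul hF] at hM ⊢
  ext i j
  have h := congrArg σ (congrFun (congrFun hM i) j)
  rw [Matrix.mul_apply] at h ⊢
  simp only [Matrix.transpose_apply, Matrix.map_apply, map_sum, map_mul, map_pow] at h
  simp only [Matrix.transpose_apply, Matrix.map_apply, semiMat_apply, mul_pow]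
  have e : ∀ l, ν l * σ (M l i) * (ν i)⁻¹ * (ν l ^ q * σ (M l j) ^ q * ((ν j)⁻¹) ^ q) =
      (ν i)⁻¹ * ((ν j)⁻¹) ^ q * (σ (M l i) * σ (M l j) ^ q) := fun l => by
    linear_combination ((ν i)⁻¹ * ((ν j)⁻¹) ^ q * (σ (M l i) * σ (M l j) ^ q)) * hν l
  rw [Finset.sum_congr rfl fun l _ => e l, ← Finset.mul_sum, h]
  by_cases hij : i = j
  · subst hij
    rw [Matrix.one_apply_eq, map_one, mul_one, inv_pow, ← mul_inv, hν, inv_one]
  · rw [Matrix.one_apply_ne hij, map_zero, mul_zero]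

/-- The automorphism `g ↦ D g^σ D⁻¹`. -/
def semi (hF : Fintype.card F = q ^ 2) (ν : Fin m → F) (hν : ∀ i, ν i * ν i ^ q = 1)
    (σ : F ≃+* F) : SU m F q →* SU m F q where
  toFun g := toSU (preserves_semiMat hF hν σ g.2)
    ((det_semiMat (fun i => ne_zero_of_norm (hν i)) σ _).trans
      ((congrArg σ (g : SpecialLinearGroup (Fin m) F).2).trans (map_one σ)))
  map_one' := ext_mat (semiMat_one (fun i => ne_zero_of_norm (hν i)) σ)
  map_mul' g g' := ext_mat (semiMat_mul (fun i => ne_zero_of_norm (hν i)) σ (mat g) (mat g')).symm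

theorem mat_semi (hF : Fintype.card F = q ^ 2) (ν : Fin m → F) (hν : ∀ i, ν i * ν i ^ q = 1)
    (σ : F ≃+* F) (g : SU m F q) : mat (semi hF ν hν σ g) = semiMat ν σ (mat g) := rfl

theorem semi_injective (hF : Fintype.card F = q ^ 2) (ν : Fin m → F)
    (hν : ∀ i, ν i * ν i ^ q = 1) (σ : F ≃+* F) : Function.Injective (semi hF ν hν σ) := by
  intro g g' h
  refine ext_mat (Matrix.ext fun i j => σ.injective ?_)
  have := congrFun (congrFun (congrArg (fun z => mat z) h) i) j
  simp only [mat_semi, semiMat_apply] at this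
  exact mul_left_cancel₀ (ne_zero_of_norm (hν i))
    (mul_right_cancel₀ (inv_ne_zero (ne_zero_of_norm (hν j))) this)

theorem semi_surjective (hF : Fintype.card F = q ^ 2) (ν : Fin m → F)
    (hν : ∀ i, ν i * ν i ^ q = 1) (σ : F ≃+* F) : Function.Surjective (semi hF ν hν σ) :=
  (Finite.injective_iff_surjective.1 (semi_injective hF ν hν σ))

theorem embMat_apply_on (ι : Fin k ↪ Fin m) (M : Matrix (Fin k) (Fin k) F) (a b : Fin k) :
    embMat ι M (ι a) (ι b) = M a b := by
  rw [embMat, Matrix.add_apply, Matrix.mul_apply]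
  simp only [inj, Matrix.transpose_apply, Matrix.of_apply, Matrix.mul_apply]
  simp [Matrix.one_apply, eq_comm]

theorem embMat_apply_off (ι : Fin k ↪ Fin m) (M : Matrix (Fin k) (Fin k) F) {i j : Fin m}
    (h : (∀ a, ι a ≠ i) ∨ ∀ a, ι a ≠ j) :
    embMat ι M i j = (1 : Matrix (Fin m) (Fin m) F) i j := by
  rw [embMat, Matrix.add_apply, Matrix.mul_apply]
  rcases h with h | h <;> simp [inj, Matrix.mul_apply, h]

/-- The automorphism commutes with block embeddings. -/
theorem semi_emb (hF : Fintype.card F = q ^ 2) (ι : Fin k ↪ Fin m) (ν : Fin m → F)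
    (hν : ∀ i, ν i * ν i ^ q = 1) (σ : F ≃+* F) (g : SU k F q) :
    semi hF ν hν σ (emb hF ι g) = emb hF ι (semi hF (ν ∘ ι) (fun i => hν (ι i)) σ g) := by
  refine ext_mat (Matrix.ext fun i j => ?_)
  rw [mat_semi, mat_emb, mat_emb, mat_semi, semiMat_apply]
  by_cases h : (∀ a, ι a ≠ i) ∨ ∀ a, ι a ≠ j
  · rw [embMat_apply_off ι _ h, embMat_apply_off ι _ h]
    by_cases hij : i = j
    · subst hij; simp [ne_zero_of_norm (hν i)]
    · simp [hij]
  · push Not at h
    obtain ⟨⟨a, rfl⟩, ⟨b, rfl⟩⟩ := h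
    rw [embMat_apply_on, embMat_apply_on, semiMat_apply]
    rfl

theorem semi_refl_of_eq (hF : Fintype.card F = q ^ 2) (ν : Fin m → F)
    (hν : ∀ i, ν i * ν i ^ q = 1) (g : SU m F q) {d : SU m F q}
    (hd : mat d = Matrix.diagonal ν) : d * g * d⁻¹ = semi hF ν hν (RingEquiv.refl F) g := by
  rw [mul_inv_eq_iff_eq_mul]
  refine ext_mat (Matrix.ext fun i j => ?_)
  rw [mat_mul, mat_mul, hd, mat_semi, Matrix.diagonal_mul, Matrix.mul_diagonal, semiMat_apply,
    RingEquiv.refl_apply, mul_assoc, inv_mul_cancel₀ (ne_zero_of_norm (hν j)), mul_one]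

end Cfsg.Agent.Cores.Phan
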