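import Mathlib
import Cfsg.Prelude.Def_PhanSystems
import Cfsg.Agent.Unitary.Center
import Cfsg.Agent.Cores.Phan.Semi

/-!
Standard pairs: the torus of one member normalising the other; the two tori of a middle member agree.
-/

set_option autoImplicit false
set_option linter.unusedSectionVars false

namespace Cfsg.Agent.Cores.Phan

open Cfsg Cfsg.Agent.Unitary Matrix

variable {F : Type*} [Field F] [Fintype F] {k m q : ℕ} {G : Type*} [Group G]

/-! ### Two by two -/

/-- A diagonal element of `SU₂`. -/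
def IsDiag (u : SU 2 F q) : Prop := mat u 0 1 = 0

theorem entries_two (hF : Fintype.card F = q ^ 2) (u : SU 2 F q) :
    mat u 1 0 = -(mat u 0 1) ^ q ∧ mat u 1 1 = (mat u 0 0) ^ q := by
  have h1 := (preserves_iff_transpose_mul hF).1 u.2
  have hd : (mat u).det = 1 := (u : SpecialLinearGroup (Fin 2) F).2
  have h2 : Matrix.adjugate (mat u)ᵀ * (mat u)ᵀ = 1 := by
    rw [Matrix.adjugate_mul, Matrix.det_transpose, hd, one_smul]
  have h3 : (mat u).map (fun x => x ^ q) = Matrix.adjugate (mat u)ᵀ :=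
    (left_inv_eq_right_inv h2 h1).symm
  have e00 := congrFun (congrFun h3 0) 0
  have e01 := congrFun (congrFun h3 0) 1
  simp [Matrix.adjugate_fin_two] at e00 e01
  exact ⟨by rw [e01, neg_neg], e00.symm⟩

theorem norm_row_two (hF : Fintype.card F = q ^ 2) (u : SU 2 F q) :
    mat u 0 0 * mat u 0 0 ^ q + mat u 0 1 * mat u 0 1 ^ q = 1 := by
  obtain ⟨h10, h11⟩ := entries_two hF u
  have hd : (mat u).det = 1 := (u : SpecialLinearGroup (Fin 2) F).2
  rw [Matrix.det_fin_two, h10, h11] at hd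
  linear_combination hd

theorem IsDiag.one_zero (hF : Fintype.card F = q ^ 2) {u : SU 2 F q} (hu : IsDiag u) :
    mat u 1 0 = 0 := by
  rw [(entries_two hF u).1, show mat u 0 1 = 0 from hu, zero_pow (q_ne_zero hF), neg_zero]

theorem IsDiag.norm (hF : Fintype.card F = q ^ 2) {u : SU 2 F q} (hu : IsDiag u) :
    mat u 0 0 * mat u 0 0 ^ q = 1 := by
  have := norm_row_two hF u
  rwa [show mat u 0 1 = 0 from hu, zero_mul, add_zero] at this

theorem IsDiag.inv (hF : Fintype.card F = q ^ 2) {u : SU 2 F q} (hu : IsDiag u) : IsDiag u⁻¹ := by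
  have h := congrFun (congrFun (congrArg (fun z => mat z) (mul_inv_cancel u)) 0) 1
  simp only [mat_mul, Matrix.mul_apply, Fin.sum_univ_two] at h
  rw [show mat u 0 1 = 0 from hu, zero_mul, add_zero] at h
  have h1 : (mat (1 : SU 2 F q)) 0 1 = 0 := by simp [mat]
  rw [h1] at h
  exact (mul_eq_zero.1 h).resolve_left (ne_zero_of_norm (hu.norm hF))

theorem IsDiag.commute (hF : Fintype.card F = q ^ 2) {u v : SU 2 F q} (hu : IsDiag u)
    (hv : IsDiag v) : Commute u v := by
  refine ext_mat ?_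
  have a1 := hu.one_zero hF
  have b1 := hv.one_zero hF
  have a0 : mat u 0 1 = 0 := hu
  have b0 : mat v 0 1 = 0 := hv
  rw [mat_mul, mat_mul]
  ext i j
  fin_cases i <;> fin_cases j <;> simp [Matrix.mul_apply, Fin.sum_univ_two, a0, a1, b0, b1, mul_comm]

/-- A non-involutory scalar of norm one. -/
theorem exists_norm_one_sq_ne (hF : Fintype.card F = q ^ 2) :
    ∃ ν : F, ν * ν ^ q = 1 ∧ ν * ν ≠ 1 := by
  classical
  by_contra hne
  push Not at hne
  have h1 := card_norm_eq_one (F := F) hF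
  have h2 : ({x : F | x * x ^ q = 1}).ncard ≤ ({1, -1} : Set F).ncard := by
    refine Set.ncard_le_ncard (fun x hx => ?_) (Set.toFinite _)
    exact mul_self_eq_one_iff.1 (hne x hx)
  rw [← Nat.card_coe_set_eq] at h2
  have h3 : Nat.card {x : F | x * x ^ q = 1} = q + 1 := h1
  have h4 := Set.ncard_insert_le (1 : F) {-1}
  rw [Set.ncard_singleton] at h4
  have := two_le_q hF
  omega

theorem norm_pair {ν : F} (hν : ν * ν ^ q = 1) : ∀ i, (![ν, 1] : Fin 2 → F) i * (![ν, 1] : Fin 2 → F) i ^ q = 1 := by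
  intro i
  fin_cases i <;> simp [hν]

theorem isDiag_of_commute_semi (hF : Fintype.card F = q ^ 2) {ν : F} (hν : ν * ν ^ q = 1)
    (hν2 : ν * ν ≠ 1) {u : SU 2 F q}
    (h : Commute u (semi hF ![ν, 1] (norm_pair hν) (RingEquiv.refl F) u)) : IsDiag u := by
  have h0 := congrFun (congrFun (congrArg (fun z => mat z) h.eq) 0) 0
  simp [mat_mul, Matrix.mul_apply, Fin.sum_univ_two, mat_semi, semiMat_apply,
    ne_zero_of_norm hν] at h0
  rw [(entries_two hF u).1] at h0
  have hν0 := ne_zero_of_norm hν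
  field_simp at h0
  by_contra hb
  have hb' : mat u 0 1 * mat u 0 1 ^ q ≠ 0 := mul_ne_zero hb (pow_ne_zero q hb)
  refine hν2 (mul_left_cancel₀ hb' ?_)
  linear_combination h0

/-! ### Pairs -/

/-- The embedding on the first two coordinates. -/
abbrev tL : Fin 2 ↪ Fin 3 := seg 0 2 3 (by omega)

/-- The embedding on the last two coordinates. -/
abbrev tR : Fin 2 ↪ Fin 3 := seg 1 2 3 (by omega)

theorem ap_emb_coord (hF : Fintype.card F = q ^ 2) (ι : Fin k ↪ Fin m) (g : SU k F q)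
    (x : Fin m → F) (j : Fin k) : ap (emb hF ι g) x (ι j) = ap g (fun l => x (ι l)) j := by
  rw [ap_def, mat_emb, embMat, add_mulVec, one_mulVec, Pi.add_apply, ← mulVec_mulVec,
    ← mulVec_mulVec, inj_mulVec, sub_mulVec, one_mulVec, Pi.sub_apply, injT_mulVec, add_sub_cancel,
    show (inj F ι)ᵀ *ᵥ x = fun l => x (ι l) from funext fun l => injT_mulVec ι x l]
  rfl

theorem ap_single (g : SU m F q) (i j : Fin m) : ap g (Pi.single j 1) i = mat g i j := by
  simp [ap_def]

/-- A map of a standard pair. -/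
structure PairMap (hF : Fintype.card F = q ^ 2) (θ : SU 3 F q →* G) (A B : Subgroup G) : Prop where
  left : (θ.comp (emb hF tL)).range = A
  right : (θ.comp (emb hF tR)).range = B
  ker_le : θ.ker ≤ Subgroup.center (SU 3 F q)

theorem scalar_center (hF : Fintype.card F = q ^ 2) (hm : 2 ≤ m) {z : SU m F q}
    (hz : z ∈ Subgroup.center (SU m F q)) : ∃ l : F, ∀ x, ap z x = l • x :=
  eq_smul_of_mem_center hF hm hz

theorem injective_comp_emb (hF : Fintype.card F = q ^ 2) {θ : SU 3 F q →* G}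
    (hker : θ.ker ≤ Subgroup.center (SU 3 F q)) (ι : Fin 2 ↪ Fin 3) :
    Function.Injective (θ.comp (emb hF ι)) := by
  rw [injective_iff_map_eq_one]
  intro u hu
  obtain ⟨l, hl⟩ := scalar_center hF (by omega) (hker (MonoidHom.mem_ker.2 hu))
  obtain ⟨i, hi⟩ : ∃ i, ∀ j, ι j ≠ i := by
    by_contra hne
    push Not at hne
    have : Fintype.card (Fin 3) ≤ Fintype.card (Fin 2) := Fintype.card_le_of_surjective ι hne
    simp at this
  have h1 : ap (emb hF ι u) (Pi.single i 1) = Pi.single i 1 :=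
    ap_emb_off hF ι u fun j => Pi.single_eq_of_ne (hi j) _
  rw [hl] at h1
  have hl1 : l = 1 := by
    have := congrFun h1 i
    simpa using this
  refine emb_injective hF ι (ap_ext fun x => ?_)
  rw [hl, hl1, one_smul, map_one, ap_one]

/-- If the image of a block normalises that of another block then the element is diagonal. -/
theorem diag_of_normalizes (hF : Fintype.card F = q ^ 2) {θ : SU 3 F q →* G}
    (hker : θ.ker ≤ Subgroup.center (SU 3 F q)) (ι κ : Fin 2 ↪ Fin 3) (a b b' : Fin 2) (hbb : b ≠ b')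
    (hab : ι a = κ b) (hi : ∀ j, ι j ≠ κ b') (hoff : ∀ j, j ≠ a → ∀ l, κ l ≠ ι j) (u : SU 2 F q)
    (h : ∀ c, θ (emb hF κ u) * θ (emb hF ι c) * (θ (emb hF κ u))⁻¹ ∈ (θ.comp (emb hF ι)).range) :
    IsDiag u := by
  obtain ⟨w, hw⟩ := exists_swap (F := F) (q := q) hF
  obtain ⟨c, hc⟩ := h w
  rw [MonoidHom.comp_apply, ← map_inv θ, ← map_mul, ← map_mul] at hc
  have hz := hker (MonoidHom.mem_ker.2 (show θ ((emb hF ι c)⁻¹ *
    (emb hF κ u * emb hF ι w * (emb hF κ u)⁻¹)) = 1 by rw [map_mul, ← hc, map_inv, inv_mul_cancel]))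
  obtain ⟨l, hl⟩ := scalar_center hF (by omega) hz
  set p := ap (emb hF κ u)⁻¹ (Pi.single (κ b') (1 : F)) with hp
  have hp1 : p = inj F κ *ᵥ ap u⁻¹ (Pi.single b' 1) := by
    rw [hp, ← map_inv, ← inj_mulVec_single, ap_emb_on]
  have hfix : ap (emb hF ι w) p = l • p := by
    have h1 := hl (Pi.single (κ b') (1 : F))
    rw [ap_mul, ap_mul, ap_mul, ← hp] at h1
    have h2 := congrArg (ap (emb hF ι c)) h1
    rw [ap_ap_inv, ap_smul, ap_emb_off hF ι c (fun j => Pi.single_eq_of_ne (hi j) _)] at h2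
    have h3 := congrArg (ap (emb hF κ u)⁻¹) h2
    rwa [ap_inv_ap, ap_smul, ← hp] at h3
  set β := mat u⁻¹ b b' with hβ
  have hx : (fun j => p (ι j)) = Pi.single a β := by
    funext j
    by_cases hj : j = a
    · subst hj
      rw [hab, hp1, inj_mulVec, ap_single, Pi.single_eq_same]
    · rw [Pi.single_eq_of_ne hj, hp1, inj_mulVec_off _ _ (hoff j hj)]
  have hwa : ap w (Pi.single a β) = l • (Pi.single a β : Fin 2 → F) := by
    funext j
    have h1 := congrFun hfix (ι j)
    rw [ap_emb_coord, hx, Pi.smul_apply] at h1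
    rw [h1, Pi.smul_apply]
    exact congrArg _ (congrFun hx j)
  have hβ0 : β = 0 := by
    by_contra hne
    have hsplit : (Pi.single a β : Fin 2 → F) = β • Pi.single a 1 := by
      rw [← Pi.single_smul', smul_eq_mul, mul_one]
    rw [hsplit, ap_smul, smul_comm] at hwa
    have he : ap w (Pi.single a 1) = l • (Pi.single a 1 : Fin 2 → F) := smul_right_injective _ hne hwa
    obtain rfl | rfl : a = 0 ∨ a = 1 := by fin_cases a <;> simp
    · -- both basis vectors would go to multiples of the first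
      have h2 : ap w (Pi.single 0 1) = ap w (l • Pi.single 1 (1 : F)) := by rw [ap_smul, hw, he]
      have := congrFun (ap_injective w h2) 0
      simp at this
    · rw [hw] at he
      have := congrFun he 0
      simp at this
  have hu' : IsDiag u⁻¹ := by
    obtain ⟨rfl, rfl⟩ | ⟨rfl, rfl⟩ : (b = 0 ∧ b' = 1) ∨ (b = 1 ∧ b' = 0) := by
      fin_cases b <;> fin_cases b' <;> simp_all
    · exact hβ0
    · rw [hβ, (entries_two hF u⁻¹).1, neg_eq_zero, pow_eq_zero_iff (q_ne_zero hF)] at hβ0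
      exact hβ0
  simpa using hu'.inv hF

theorem IsDiag.ap_single (hF : Fintype.card F = q ^ 2) {u : SU 2 F q} (hu : IsDiag u) (j : Fin 2) :
    ap u (Pi.single j 1) = mat u j j • Pi.single j 1 := by
  have h1 := hu.one_zero hF
  have h0 : mat u 0 1 = 0 := hu
  funext i
  rw [Cfsg.Agent.Cores.Phan.ap_single]
  fin_cases i <;> fin_cases j <;> simp [h0, h1]

/-- A diagonal element normalises the other block. -/
theorem normalizes_of_diag (hF : Fintype.card F = q ^ 2) {θ : SU 3 F q →* G} (ι κ : Fin 2 ↪ Fin 3)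
    (b' : Fin 2) (hi : ∀ j, ι j ≠ κ b') (hoff : ∀ i, (∀ j, ι j ≠ i) → i = κ b') {u : SU 2 F q}
    (hu : IsDiag u) (c : SU 2 F q) :
    θ (emb hF κ u) * θ (emb hF ι c) * (θ (emb hF κ u))⁻¹ ∈ (θ.comp (emb hF ι)).range := by
  obtain ⟨c', hc'⟩ := exists_emb_eq hF ι (g := emb hF κ u * emb hF ι c * (emb hF κ u)⁻¹) (fun i h => by
    rw [hoff i h]
    have e1 : ap (emb hF κ u⁻¹) (Pi.single (κ b') 1) = mat u⁻¹ b' b' • (Pi.single (κ b') 1 : Fin 3 → F) := by
      rw [← inj_mulVec_single, ap_emb_on, (hu.inv hF).ap_single hF, mulVec_smul]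
    have e2 : ap (emb hF ι c) (Pi.single (κ b') (1 : F)) = Pi.single (κ b') 1 :=
      ap_emb_off hF ι c fun j => Pi.single_eq_of_ne (hi j) _
    rw [← map_inv, ap_mul, ap_mul, e1, ap_smul, e2, ← e1, ← ap_mul, ← map_mul, mul_inv_cancel,
      map_one, ap_one])
  exact ⟨c', by rw [MonoidHom.comp_apply, hc', map_mul, map_mul, map_inv]⟩

theorem PairMap.diag_right (hF : Fintype.card F = q ^ 2) {θ : SU 3 F q →* G} {A B : Subgroup G}
    (h : PairMap hF θ A B) {u : SU 2 F q}
    (hn : ∀ c ∈ A, θ (emb hF tR u) * c * (θ (emb hF tR u))⁻¹ ∈ A) : IsDiag u :=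
  diag_of_normalizes hF h.ker_le tL tR 1 0 1 (by decide) (Fin.ext rfl)
    (fun j he => by have := congrArg Fin.val he; simp at this; omega)
    (fun j hj l he => by
      have := congrArg Fin.val he
      simp at this
      exact hj (Fin.ext (by simp; omega)))
    u fun c => by rw [h.left]; exact hn _ (h.left ▸ ⟨c, rfl⟩)

theorem PairMap.diag_left (hF : Fintype.card F = q ^ 2) {θ : SU 3 F q →* G} {A B : Subgroup G}
    (h : PairMap hF θ A B) {u : SU 2 F q}
    (hn : ∀ c ∈ B, θ (emb hF tL u) * c * (θ (emb hF tL u))⁻¹ ∈ B) : IsDiag u :=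
  diag_of_normalizes hF h.ker_le tR tL 0 1 0 (by decide) (Fin.ext rfl)
    (fun j he => by have := congrArg Fin.val he; simp at this)
    (fun j hj l he => by
      have := congrArg Fin.val he
      simp at this
      exact hj (Fin.ext (by simp; omega)))
    u fun c => by rw [h.right]; exact hn _ (h.right ▸ ⟨c, rfl⟩)

theorem PairMap.normalizes_left (hF : Fintype.card F = q ^ 2) {θ : SU 3 F q →* G}
    {A B : Subgroup G} (h : PairMap hF θ A B) {u : SU 2 F q} (hu : IsDiag u) :
    ∀ c ∈ B, θ (emb hF tL u) * c * (θ (emb hF tL u))⁻¹ ∈ B := by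
  intro c hc
  rw [← h.right] at hc ⊢
  obtain ⟨c', rfl⟩ := hc
  refine normalizes_of_diag hF tR tL 0 (fun j he => by have := congrArg Fin.val he; simp at this)
    (fun i hi => ?_) hu c'
  fin_cases i
  · rfl
  · exact absurd rfl (hi 0)
  · exact absurd rfl (hi 1)

theorem norm_triple {ν : F} (hν : ν * ν ^ q = 1) (ν' : F) (hν' : ν' * ν' ^ q = 1) :
    ∀ i, (![ν, ν', 1] : Fin 3 → F) i * (![ν, ν', 1] : Fin 3 → F) i ^ q = 1 := by
  intro i
  fin_cases i <;> simp [hν, hν']

/-- Conjugation of the right block by the torus of the left one. -/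
theorem conj_torus (hF : Fintype.card F = q ^ 2) {ν : F} (hν : ν * ν ^ q = 1) :
    ∃ d : SU 2 F q, IsDiag d ∧ ∀ u : SU 2 F q,
      emb hF tL d * emb hF tR u * (emb hF tL d)⁻¹ =
        emb hF tR (semi hF ![ν, 1] (norm_pair hν) (RingEquiv.refl F) u) := by
  have hν' : ν⁻¹ * ν⁻¹ ^ q = 1 := by rw [inv_pow, ← mul_inv, hν, inv_one]
  have hν0 := ne_zero_of_norm hν
  have hn2 : ∀ i, (![ν⁻¹, ν] : Fin 2 → F) i * (![ν⁻¹, ν] : Fin 2 → F) i ^ q = 1 := by
    intro i; fin_cases i
    · exact hν'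
    · exact hν
  have hp : Preserves q (Matrix.diagonal (![ν⁻¹, ν] : Fin 2 → F)) := by
    rw [preserves_iff_transpose_mul hF, Matrix.diagonal_transpose,
      Matrix.diagonal_map (f := fun x : F => x ^ q) (zero_pow (q_ne_zero hF)),
      Matrix.diagonal_mul_diagonal]
    convert Matrix.diagonal_one
    exact funext hn2 |> fun h => congrFun h _
  have hd : (Matrix.diagonal (![ν⁻¹, ν] : Fin 2 → F)).det = 1 := by
    simp [Matrix.det_diagonal, hν0]
  refine ⟨toSU hp hd, Matrix.diagonal_apply_ne _ (by decide), fun u => ?_⟩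
  have hm : mat (emb hF tL (toSU hp hd)) = Matrix.diagonal (![ν⁻¹, ν, 1] : Fin 3 → F) := by
    ext i j
    rw [mat_emb]
    by_cases h : (∀ a, tL a ≠ i) ∨ ∀ a, tL a ≠ j
    · rw [embMat_apply_off tL _ h]
      by_cases hij : i = j
      · subst hij
        have hi : i = 2 := by
          rcases h with h | h <;> fin_cases i <;>
            first | rfl | exact absurd rfl (h 0) | exact absurd rfl (h 1)
        subst hi; simp
      · simp [hij]
    · push Not at h
      obtain ⟨⟨a, rfl⟩, ⟨b, rfl⟩⟩ := h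
      rw [embMat_apply_on]
      show Matrix.diagonal (![ν⁻¹, ν] : Fin 2 → F) a b = _
      have f0 : tL 0 = 0 := rfl
      have f1 : tL 1 = 1 := rfl
      fin_cases a <;> fin_cases b <;> simp [f0, f1]
  rw [semi_refl_of_eq hF ![ν⁻¹, ν, 1] (norm_triple hν' ν hν) _ hm, semi_emb]
  congr 1
  refine ext_mat ?_
  rw [mat_semi, mat_semi]
  ext i j
  have e0 : tR 0 = 1 := rfl
  have e1 : tR 1 = 2 := rfl
  fin_cases i <;> fin_cases j <;> simp [semiMat_apply, e0, e1]

/-- The comparison of two parametrisations of a middle member preserves the diagonal torus. -/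
theorem torus_middle (hF : Fintype.card F = q ^ 2) {θ θ' : SU 3 F q →* G} {A B C : Subgroup G}
    (h : PairMap hF θ A B) (h' : PairMap hF θ' B C) (hAC : ∀ x ∈ A, ∀ y ∈ C, x * y = y * x)
    (α : SU 2 F q ≃* SU 2 F q) (hα : ∀ u, θ (emb hF tR (α u)) = θ' (emb hF tL u))
    {u : SU 2 F q} (hu : IsDiag u) : IsDiag (α u) := by
  obtain ⟨ν, hν, hν2⟩ := exists_norm_one_sq_ne (F := F) hF
  obtain ⟨d, -, hd⟩ := conj_torus hF hν
  obtain ⟨u', hu'⟩ : ∃ u', u' = α.symm (semi hF ![ν, 1] (norm_pair hν) (RingEquiv.refl F) (α u)) :=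
    ⟨_, rfl⟩
  set δ := θ (emb hF tL d) with hδ
  have hδA : δ ∈ A := h.left ▸ ⟨d, rfl⟩
  have heq : θ' (emb hF tL u') = δ * θ' (emb hF tL u) * δ⁻¹ := by
    rw [← hα u', hu', MulEquiv.apply_symm_apply, ← hd, map_mul, map_mul, map_inv, hα]
  have hu'' : IsDiag u' := by
    refine h'.diag_left hF fun c hc => ?_
    rw [heq]
    have hn := h'.normalizes_left hF hu c hc
    set z := θ' (emb hF tL u) with hz
    have e1 : δ * z * δ⁻¹ * c * (δ * z * δ⁻¹)⁻¹ = δ * (z * c * z⁻¹) * δ⁻¹ := by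
      have ec : δ⁻¹ * c = c * δ⁻¹ := by
        rw [eq_mul_inv_iff_mul_eq, mul_assoc, ← hAC δ hδA c hc, inv_mul_cancel_left]
      calc δ * z * δ⁻¹ * c * (δ * z * δ⁻¹)⁻¹ = δ * z * (δ⁻¹ * c) * (δ * z * δ⁻¹)⁻¹ := by group
        _ = δ * z * (c * δ⁻¹) * (δ * z * δ⁻¹)⁻¹ := by rw [ec]
        _ = δ * (z * c * z⁻¹) * δ⁻¹ := by group
    rw [e1, hAC δ hδA _ hn, mul_inv_cancel_right]
    exact hn
  refine isDiag_of_commute_semi hF hν hν2 ?_
  have := ((hu.commute hF hu'').map α.toMonoidHom)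
  simp only [MulEquiv.coe_toMonoidHom] at this
  rwa [hu', MulEquiv.apply_symm_apply] at this

theorem suBlock_eq_range (hF : Fintype.card F = q ^ 2) (ι : Fin 2 ↪ Fin 3) :
    suBlock 3 F q (Set.range ι) = (emb hF ι).range := by
  apply le_antisymm
  · rw [suBlock, Subgroup.closure_le]
    intro g hg
    obtain ⟨g', hg'⟩ := exists_emb_eq hF ι (g := g) (fun i hi => by
      obtain ⟨h1, h2⟩ := hg i (fun ⟨j, hj⟩ => hi j hj)
      funext l
      rw [ap_single]
      by_cases hl : l = i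
      · subst hl
        rw [Pi.single_eq_same]
        exact h1
      · rw [Pi.single_eq_of_ne hl]
        exact (h2 l hl).2)
    exact ⟨g', hg'⟩
  · rintro _ ⟨g, rfl⟩
    refine Subgroup.subset_closure fun i hi => ?_
    have hi' : ∀ j, ι j ≠ i := fun j hj => hi ⟨j, hj⟩
    refine ⟨?_, fun l hl => ⟨?_, ?_⟩⟩
    · show mat (emb hF ι g) i i = 1
      rw [mat_emb, embMat_apply_off ι _ (Or.inl hi'), Matrix.one_apply_eq]
    · show mat (emb hF ι g) i l = 0
      rw [mat_emb, embMat_apply_off ι _ (Or.inl hi'), Matrix.one_apply_ne (Ne.symm hl)]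
    · show mat (emb hF ι g) l i = 0
      rw [mat_emb, embMat_apply_off ι _ (Or.inr hi'), Matrix.one_apply_ne hl]

theorem range_tL : Set.range tL = ({0, 1} : Set (Fin 3)) := by
  ext i
  simp only [Set.mem_range, Set.mem_insert_iff, Set.mem_singleton_iff]
  constructor
  · rintro ⟨j, rfl⟩; fin_cases j <;> simp [seg]
  · rintro (rfl | rfl)
    · exact ⟨0, rfl⟩
    · exact ⟨1, rfl⟩

theorem range_tR : Set.range tR = ({1, 2} : Set (Fin 3)) := by
  ext i
  simp only [Set.mem_range, Set.mem_insert_iff, Set.mem_singleton_iff]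
  constructor
  · rintro ⟨j, rfl⟩
    fin_cases j
    · exact Or.inl rfl
    · exact Or.inr rfl
  · rintro (rfl | rfl)
    · exact ⟨0, rfl⟩
    · exact ⟨1, rfl⟩

/-- A standard pair gives a map from `SU₃`. -/
theorem exists_pairMap (hF : Fintype.card F = q ^ 2) {V A B : Subgroup G}
    (h : IsStandardUnitaryPair V A B F q) :
    ∃ θ : SU 3 F q →* G, θ.range = V ∧ PairMap hF θ A B := by
  rcases h with ⟨ψ, hA, hB⟩ | ⟨ψ, hA, hB⟩
  · refine ⟨V.subtype.comp ψ.toMonoidHom, ?_, ⟨?_, ?_, ?_⟩⟩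
    · ext x
      exact ⟨fun ⟨a, ha⟩ => ha ▸ (ψ a).2,
        fun hx => ⟨ψ.symm ⟨x, hx⟩, congrArg Subtype.val (ψ.apply_symm_apply ⟨x, hx⟩)⟩⟩
    · rw [MonoidHom.range_comp, ← suBlock_eq_range, range_tL, hA]
    · rw [MonoidHom.range_comp, ← suBlock_eq_range, range_tR, hB]
    · intro x hx
      have : ψ x = 1 := Subtype.ext hx
      rw [(MulEquiv.map_eq_one_iff ψ).1 this]
      exact Subgroup.one_mem _
  · refine ⟨V.subtype.comp (ψ.toMonoidHom.comp (QuotientGroup.mk' (Subgroup.center (SU 3 F q)))),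
      ?_, ⟨?_, ?_, ?_⟩⟩
    · ext x
      refine ⟨fun ⟨a, ha⟩ => ha ▸ (ψ (QuotientGroup.mk a)).2, fun hx => ?_⟩
      obtain ⟨a, ha⟩ := QuotientGroup.mk_surjective (ψ.symm ⟨x, hx⟩)
      refine ⟨a, ?_⟩
      show ((ψ (QuotientGroup.mk a) : V) : G) = x
      rw [ha, ψ.apply_symm_apply]
    · rw [MonoidHom.range_comp, ← suBlock_eq_range, range_tL, hA]
    · rw [MonoidHom.range_comp, ← suBlock_eq_range, range_tR, hB]
    · intro x hx
      have : ψ (QuotientGroup.mk x) = 1 := Subtype.ext hx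
      exact (QuotientGroup.eq_one_iff x).1 ((MulEquiv.map_eq_one_iff ψ).1 this)

end Cfsg.Agent.Cores.Phan
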