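import Mathlib
import Cfsg.Agent.Linear.Generation
import Cfsg.Agent.Linear.Order
import Cfsg.Agent.H56.AutPSL
import Cfsg.Agent.Unitary.AschField
import Cfsg.Agent.Unitary.Rank2
import Cfsg.Agent.Cores.Phan.Pair

/-!
Automorphisms of `SU₂` preserving the diagonal torus are diagonal-semilinear.
-/

set_option autoImplicit false
set_option linter.unusedSectionVars false

namespace Cfsg.Agent.Cores.Phan

open Cfsg Cfsg.Agent.Unitary Matrix

variable {F : Type*} [Field F] [Fintype F] {q : ℕ}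

/-- `SU₂` as a conjugate of `SL₂` over the fixed field. -/
theorem exists_frame_equiv (hF : Fintype.card F = q ^ 2) :
    ∃ (P : GL (Fin 2) F) (e : SpecialLinearGroup (Fin 2) (fixK hF) ≃* SU 2 F q),
      ∀ g : SpecialLinearGroup (Fin 2) (fixK hF), mat (e g) = (P : Matrix (Fin 2) (Fin 2) F) *
        (g : Matrix (Fin 2) (Fin 2) (fixK hF)).map (fixK hF).subtype *
        ((P⁻¹ : GL (Fin 2) F) : Matrix (Fin 2) (Fin 2) F) := by
  classical
  have : Fintype (fixK hF) := Fintype.ofFinite _
  have hK : Fintype.card (fixK hF) = q := by rw [← Nat.card_eq_fintype_card, card_fixK hF]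
  set ι := (fixK hF).subtype with hιdef
  have hι : ∀ x, ι x ^ q = ι x := fun x => (mem_fixK hF).1 x.2
  obtain ⟨δ, hδ0, hδ⟩ := exists_skew hF
  obtain ⟨u, -, hu0, hu⟩ := exists_isotropic hF (nondeg_top (n := 2) hF)
    (by rw [finrank_top, Module.finrank_fin_fun])
  obtain ⟨w, -, hw, hwu⟩ := exists_partner hF (nondeg_top hF) Submodule.mem_top hu0 hu
  let v := -δ • w
  have hv : hermForm 2 F q v v = 0 := by rw [herm_self_smul, hw, mul_zero]
  have hvu : hermForm 2 F q v u = -δ := by rw [herm_smul_left, hwu, mul_one]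
  have huv : hermForm 2 F q u v = δ := by rw [← herm_swap hF v u, hvu, neg_pow_q hF, hδ, neg_neg]
  let P : Matrix (Fin 2) (Fin 2) F := Matrix.of fun i j => ![u i, v i] j
  have hP : ∀ y, P *ᵥ y = y 0 • u + y 1 • v := by
    intro y
    ext i
    simp [P, Matrix.mulVec, dotProduct, Fin.sum_univ_two, mul_comm]
  have hform : ∀ y z, hermForm 2 F q (P *ᵥ y) (P *ᵥ z) = δ * (y 0 * z 1 ^ q - y 1 * z 0 ^ q) := by
    intro y z
    simp only [hP, herm_add_left, herm_add_right hF, herm_smul_left, herm_smul_right, hu, hv, huv,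
      hvu]
    ring
  have hPu : IsUnit P := by
    rw [← Matrix.mulVec_injective_iff_isUnit]
    intro y z h
    have h' := fun i => congrArg (fun x => hermForm 2 F q x (P *ᵥ Pi.single i 1)) h
    simp only [hform] at h'
    have h0 := h' 0
    have h1 := h' 1
    simp [q_ne_zero hF, hδ0] at h0 h1
    ext i
    fin_cases i
    · exact h1
    · exact h0
  obtain ⟨PU, hPU⟩ := hPu
  let B (g : SpecialLinearGroup (Fin 2) (fixK hF)) : Matrix (Fin 2) (Fin 2) F :=
    (g : Matrix (Fin 2) (Fin 2) (fixK hF)).map ι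
  have hB : ∀ g i j, (B g i j) ^ q = B g i j := fun g i j => hι _
  have hdB : ∀ g, (B g).det = 1 := fun g => by
    have := (ι.map_det (g : Matrix (Fin 2) (Fin 2) (fixK hF))).symm
    rw [g.det_coe, map_one] at this
    exact this
  have hpres : ∀ g, Preserves q ((PU : Matrix (Fin 2) (Fin 2) F) * B g *
      ((PU⁻¹ : GL (Fin 2) F) : Matrix (Fin 2) (Fin 2) F)) := by
    intro g x z
    have hd : B g 0 0 * B g 1 1 - B g 0 1 * B g 1 0 = 1 := by
      rw [← Matrix.det_fin_two]
      exact hdB g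
    obtain ⟨y, rfl⟩ : ∃ y, x = P *ᵥ y := ⟨((PU⁻¹ : GL (Fin 2) F) : Matrix (Fin 2) (Fin 2) F) *ᵥ x, by
      rw [← hPU, mulVec_mulVec, Units.mul_inv, one_mulVec]⟩
    obtain ⟨y', rfl⟩ : ∃ y, z = P *ᵥ y := ⟨((PU⁻¹ : GL (Fin 2) F) : Matrix (Fin 2) (Fin 2) F) *ᵥ z, by
      rw [← hPU, mulVec_mulVec, Units.mul_inv, one_mulVec]⟩
    rw [← hPU, mulVec_mulVec, mulVec_mulVec, Units.inv_mul_cancel_right, ← mulVec_mulVec,
      ← mulVec_mulVec, hPU, hform, hform]
    simp only [Matrix.mulVec, dotProduct, Fin.sum_univ_two, add_pow_q hF, mul_pow, hB]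
    linear_combination (δ * (y 0 * y' 1 ^ q - y 1 * y' 0 ^ q)) * hd
  let f : SpecialLinearGroup (Fin 2) (fixK hF) →* SU 2 F q :=
    { toFun := fun g => toSU (hpres g) (by rw [Matrix.det_units_conj]; exact hdB g)
      map_one' := ext_mat (by
        show (PU : Matrix (Fin 2) (Fin 2) F) * B 1 * _ = 1
        simp [B])
      map_mul' := fun g g' => ext_mat (by
        show (PU : Matrix (Fin 2) (Fin 2) F) * B (g * g') * _ =
          (PU : Matrix (Fin 2) (Fin 2) F) * B g * _ * ((PU : Matrix (Fin 2) (Fin 2) F) * B g' * _)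
        simp only [B, Matrix.SpecialLinearGroup.coe_mul, Matrix.map_mul]
        simp only [Matrix.mul_assoc]
        rw [← Matrix.mul_assoc ((PU⁻¹ : GL (Fin 2) F) : Matrix (Fin 2) (Fin 2) F),
          Units.inv_mul, Matrix.one_mul]) }
  have hinj : Function.Injective f := by
    intro g g' h
    have h1 : (PU : Matrix (Fin 2) (Fin 2) F) * B g * _ = (PU : Matrix (Fin 2) (Fin 2) F) * B g' * _ :=
      congrArg (fun A : SU 2 F q => mat A) h
    rw [Units.mul_left_inj, Units.mul_right_inj] at h1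
    refine Subtype.ext (Matrix.ext fun i j => ι.injective (congrFun (congrFun h1 i) j))
  have hcard : Nat.card (SpecialLinearGroup (Fin 2) (fixK hF)) = Nat.card (SU 2 F q) := by
    obtain ⟨e⟩ := exists_su_two_equiv (K := fixK hF) hF hK
    exact Nat.card_congr e.symm.toEquiv
  exact ⟨PU, MulEquiv.ofBijective f ((Nat.bijective_iff_injective_and_card f).2 ⟨hinj, hcard⟩),
    fun g => rfl⟩

/-- Every automorphism of `SL₂` over a finite field is semilinear. -/
theorem exists_semiSL_eq {K : Type*} [Field K] [Finite K]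
    (α : SpecialLinearGroup (Fin 2) K ≃* SpecialLinearGroup (Fin 2) K) :
    ∃ (g : GL (Fin 2) K) (σ : K ≃+* K), ∀ s, α s = H56.semiSL g σ s := by
  classical
  have : Fintype K := Fintype.ofFinite K
  obtain ⟨g, σ, hg | ⟨h3, -⟩⟩ := H56.exists_decomp le_rfl (H56.autOf α)
  swap; · omega
  refine ⟨g, σ, ?_⟩
  set S := H56.semiSL g σ with hS
  have hz : ∀ s, (S s)⁻¹ * α s ∈ Subgroup.center (SpecialLinearGroup (Fin 2) K) := by
    intro s
    have := DFunLike.congr_fun hg (H56.toP s)
    rw [H56.autOf_toP, H56.semiAut_toP] at this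
    exact (QuotientGroup.eq (s := Subgroup.center _)).1 this.symm
  let z : SpecialLinearGroup (Fin 2) K →* SpecialLinearGroup (Fin 2) K :=
    { toFun := fun s => (S s)⁻¹ * α s
      map_one' := by simp
      map_mul' := fun s t => by
        have hc := Subgroup.mem_center_iff.1 (hz s) (S t)⁻¹
        simp only [map_mul, _root_.mul_inv_rev, mul_assoc] at hc ⊢
        rw [← mul_assoc ((S s)⁻¹) (α s), ← mul_assoc (S t)⁻¹ ((S s)⁻¹ * α s)]
        rw [show (S t)⁻¹ * ((S s)⁻¹ * α s) = (S s)⁻¹ * α s * (S t)⁻¹ by rw [hc, mul_assoc]]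
        simp only [mul_assoc] }
  have hker : z.ker = ⊤ := by
    refine Cfsg.Agent.Linear.eq_top_of_transvection_mem fun i j hij c => ?_
    obtain ⟨p, hp⟩ := CharP.exists K
    have hpp : p.Prime := CharP.char_is_prime K p
    obtain ⟨r, hr2, hr⟩ := Matrix.SpecialLinearGroup.mem_center_iff.1
      (hz (SpecialLinearGroup.transvection hij c))
    rw [Fintype.card_fin] at hr2
    have hpow : ∀ m : ℕ, ((SpecialLinearGroup.transvection hij c : SpecialLinearGroup (Fin 2) K) : Matrix (Fin 2) (Fin 2) K) ^ m =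
        Matrix.transvection i j ((m : K) * c) := by
      intro m
      induction m with
      | zero => simp
      | succ m ih =>
        rw [pow_succ, ih]
        show Matrix.transvection i j _ * Matrix.transvection i j c = _
        rw [Matrix.transvection_mul_transvection_same _ _ hij, Nat.cast_succ, add_mul, one_mul]
    have hp1 : z (SpecialLinearGroup.transvection hij c) ^ p = 1 := by
      rw [← map_pow, show (SpecialLinearGroup.transvection hij c : SpecialLinearGroup (Fin 2) K) ^ p = 1 from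
        Subtype.ext (by rw [Matrix.SpecialLinearGroup.coe_pow, hpow]; simp), map_one]
    have hrp : r ^ p = 1 := by
      have h1 := congrArg (fun x : SpecialLinearGroup (Fin 2) K => (x : Matrix (Fin 2) (Fin 2) K) 0 0) hp1
      simp only [Matrix.SpecialLinearGroup.coe_pow, Matrix.SpecialLinearGroup.coe_one] at h1
      change ((((S (SpecialLinearGroup.transvection hij c))⁻¹ * α (SpecialLinearGroup.transvection hij c) :
        SpecialLinearGroup (Fin 2) K) : Matrix (Fin 2) (Fin 2) K) ^ p) 0 0 = _ at h1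
      rw [← hr, Matrix.scalar_apply, Matrix.diagonal_pow] at h1
      simpa using h1
    have hr1 : r = 1 := by
      rcases hpp.eq_two_or_odd' with rfl | ⟨m, rfl⟩
      · have : (2 : K) = 0 := CharP.cast_eq_zero K 2
        refine sub_eq_zero.1 (mul_self_eq_zero.1 ?_)
        linear_combination hr2 - (r - 1) * this
      · rwa [pow_succ, pow_mul, hr2, one_pow, one_mul] at hrp
    rw [MonoidHom.mem_ker]
    refine Subtype.ext ?_
    show (((S _)⁻¹ * α _ : SpecialLinearGroup (Fin 2) K) : Matrix (Fin 2) (Fin 2) K) = 1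
    rw [← hr, hr1, map_one]
  intro s
  have : z s = 1 := MonoidHom.mem_ker.1 (by rw [hker]; trivial)
  exact (eq_of_inv_mul_eq_one this).symm

/-- Extend an automorphism of the fixed field. -/
theorem exists_extend (hF : Fintype.card F = q ^ 2) (σ : fixK hF ≃+* fixK hF) :
    ∃ τ : F ≃+* F, ∀ x : fixK hF, τ (x : F) = (σ x : F) := by
  obtain ⟨p, f, hp, -, hc, -⟩ := exists_char_pow hF
  have : Fact p.Prime := ⟨hp⟩
  have : CharP (fixK hF) p := (fixK hF).subtype.charP Subtype.val_injective p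
  obtain ⟨j, hj⟩ := Unitary.Asch.exists_pow_char p σ
  refine ⟨iterateFrobeniusEquiv F p j, fun x => ?_⟩
  rw [iterateFrobeniusEquiv_def, hj]
  rfl

/-- Automorphisms of `SU₂` are semilinear. -/
theorem exists_conj_form (hF : Fintype.card F = q ^ 2) (α : SU 2 F q ≃* SU 2 F q) :
    ∃ (M : GL (Fin 2) F) (τ : F ≃+* F), ∀ u, mat (α u) * (M : Matrix (Fin 2) (Fin 2) F) =
      (M : Matrix (Fin 2) (Fin 2) F) * (mat u).map τ := by
  obtain ⟨P, e, he⟩ := exists_frame_equiv hF
  obtain ⟨g, σ, hg⟩ := exists_semiSL_eq ((e.trans α).trans e.symm)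
  obtain ⟨τ, hτ⟩ := exists_extend hF σ
  set gF : GL (Fin 2) F := Units.map ((fixK hF).subtype.mapMatrix).toMonoidHom g with hgF
  set τM : GL (Fin 2) F →* GL (Fin 2) F := H56.glMap τ
  refine ⟨P * gF * (τM P)⁻¹, τ, fun u => ?_⟩
  obtain ⟨s, rfl⟩ : ∃ s, u = e s := ⟨e.symm u, (e.apply_symm_apply u).symm⟩
  have h1 : α (e s) = e (H56.semiSL g σ s) := by
    rw [← hg s]
    exact (e.apply_symm_apply _).symm
  have hB : ((H56.smat s).map σ).map (fixK hF).subtype =
      ((H56.smat s).map (fixK hF).subtype).map τ := by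
    ext i j
    exact (hτ _).symm
  rw [h1, he, he, show ((H56.semiSL g σ s : SpecialLinearGroup (Fin 2) (fixK hF)) : Matrix (Fin 2) (Fin 2) (fixK hF)) =
    H56.smat (H56.semiSL g σ s) from rfl, H56.smat_semiSL]
  simp only [Matrix.map_mul, Units.val_mul, ← map_inv]
  rw [hB]
  rw [show ((g : Matrix (Fin 2) (Fin 2) (fixK hF)).map (fixK hF).subtype) = (gF : Matrix (Fin 2) (Fin 2) F) from rfl,
    show ((g⁻¹ : GL (Fin 2) (fixK hF)) : Matrix (Fin 2) (Fin 2) (fixK hF)).map (fixK hF).subtype =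
      ((gF⁻¹ : GL (Fin 2) F) : Matrix (Fin 2) (Fin 2) F) from by rw [hgF, ← map_inv]; rfl,
    show (P : Matrix (Fin 2) (Fin 2) F).map τ = (τM P : Matrix (Fin 2) (Fin 2) F) from rfl,
    show ((P⁻¹ : GL (Fin 2) F) : Matrix (Fin 2) (Fin 2) F).map τ = (τM P⁻¹ : Matrix (Fin 2) (Fin 2) F) from rfl]
  simp only [map_inv, Matrix.mul_assoc, Units.inv_mul_cancel_left]

/-- An automorphism preserving the diagonal torus is diagonal-semilinear. -/
theorem exists_semi_eq (hF : Fintype.card F = q ^ 2) (α : SU 2 F q ≃* SU 2 F q)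
    (hα : ∀ u, IsDiag u → IsDiag (α u)) :
    ∃ (ν : F) (hν : ν * ν ^ q = 1) (σ : F ≃+* F),
      ∀ u, α u = semi hF ![ν, 1] (norm_pair hν) σ u := by
  obtain ⟨M, τ, hM⟩ := exists_conj_form hF α
  set N := (M : Matrix (Fin 2) (Fin 2) F) with hN
  have e : ∀ u, ∀ i j, mat (α u) i 0 * N 0 j + mat (α u) i 1 * N 1 j =
      N i 0 * τ (mat u 0 j) + N i 1 * τ (mat u 1 j) := by
    intro u i j
    have := congrFun (congrFun (hM u) i) j
    simpa [Matrix.mul_apply, Fin.sum_univ_two] using this
  have hdet : N 0 0 * N 1 1 - N 0 1 * N 1 0 ≠ 0 := by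
    rw [← Matrix.det_fin_two]
    exact (M.isUnit.map (Matrix.detMonoidHom)).ne_zero
  -- the torus forces a monomial matrix
  obtain ⟨x, hx, hx2⟩ := exists_norm_one_sq_ne (F := F) hF
  obtain ⟨d, hd, hd0, hd1⟩ : ∃ d : SU 2 F q, IsDiag d ∧ mat d 0 0 = x ∧ mat d 1 1 = x⁻¹ := by
    have hxq : x ^ q = x⁻¹ := eq_inv_of_mul_eq_one_right hx
    have hxi : x⁻¹ ^ q = x := by rw [inv_pow, hxq, inv_inv]
    have hp : Preserves q (Matrix.diagonal (![x, x⁻¹] : Fin 2 → F)) := by
      rw [preserves_iff_transpose_mul hF, Matrix.diagonal_transpose,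
        Matrix.diagonal_map (f := fun y : F => y ^ q) (zero_pow (q_ne_zero hF)),
        Matrix.diagonal_mul_diagonal, ← Matrix.diagonal_one]
      congr 1
      funext i
      fin_cases i <;> simp [hxq, hxi, ne_zero_of_norm hx]
    exact ⟨toSU hp (by simp [Matrix.det_diagonal, ne_zero_of_norm hx]),
      Matrix.diagonal_apply_ne _ (by decide), Matrix.diagonal_apply_eq _ _,
      Matrix.diagonal_apply_eq _ _⟩
  have hne : τ x ≠ τ x⁻¹ := fun h => hx2 (by
    nth_rw 2 [τ.injective h]
    exact mul_inv_cancel₀ (ne_zero_of_norm hx))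
  have a01 : mat (α d) 0 1 = 0 := hα d hd
  have a10 := IsDiag.one_zero hF (hα d hd)
  have d01 : mat d 0 1 = 0 := hd
  have d10 := hd.one_zero hF
  have hzero : ∀ i, N i 0 = 0 ∨ N i 1 = 0 := by
    intro i
    rcases em (N i 0 = 0) with h0 | h0
    · exact Or.inl h0
    refine Or.inr (by_contra fun h1 => hne ?_)
    have p0 := e d i 0
    have p1 := e d i 1
    obtain rfl | rfl : i = 0 ∨ i = 1 := by fin_cases i <;> simp
    all_goals
      simp only [a01, a10, d01, d10, hd0, hd1, map_zero, zero_mul, mul_zero, add_zero, zero_add] at p0 p1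
      rw [mul_comm] at p0 p1
      exact (mul_left_cancel₀ h0 p0).symm.trans (mul_left_cancel₀ h1 p1)
  obtain ⟨ν, σ, hσ⟩ : ∃ (ν : F) (σ : F ≃+* F), ∀ u,
      mat (α u) 0 0 = σ (mat u 0 0) ∧ mat (α u) 0 1 = ν * σ (mat u 0 1) := by
    rcases hzero 0 with h00 | h01
    · have h01 : N 0 1 ≠ 0 := fun h => hdet (by rw [h00, h, zero_mul, zero_mul, sub_zero])
      have h10 : N 1 0 ≠ 0 := fun h => hdet (by rw [h00, h, zero_mul, mul_zero, sub_zero])
      have h11 : N 1 1 = 0 := (hzero 1).resolve_left h10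
      refine ⟨-(N 0 1 / N 1 0), (frob hF).trans τ, fun u => ?_⟩
      have p0 := e u 0 0
      have p1 := e u 0 1
      simp only [h00, h11, mul_zero, zero_mul, add_zero, zero_add] at p0 p1
      rw [(entries_two hF u).1] at p0
      rw [(entries_two hF u).2] at p1
      simp only [RingEquiv.trans_apply, frob_apply]
      refine ⟨mul_right_cancel₀ h01 (p1.trans (mul_comm _ _)), ?_⟩
      rw [map_neg] at p0
      field_simp
      linear_combination p0
    · have h00 : N 0 0 ≠ 0 := fun h => hdet (by rw [h01, h, zero_mul, zero_mul, sub_zero])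
      have h11 : N 1 1 ≠ 0 := fun h => hdet (by rw [h01, h, zero_mul, mul_zero, sub_zero])
      have h10 : N 1 0 = 0 := (hzero 1).resolve_right h11
      refine ⟨N 0 0 / N 1 1, τ, fun u => ?_⟩
      have p0 := e u 0 0
      have p1 := e u 0 1
      simp only [h01, h10, mul_zero, zero_mul, add_zero, zero_add] at p0 p1
      refine ⟨mul_right_cancel₀ h00 (p0.trans (mul_comm _ _)), ?_⟩
      field_simp
      linear_combination p1
  -- the scalar has norm one
  obtain ⟨w, hw⟩ := exists_swap (F := F) (q := q) hF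
  have hw01 : mat w 0 1 = 1 := by rw [← ap_single, hw, Pi.single_eq_same]
  have hν : ν * ν ^ q = 1 := by
    have := norm_row_two hF (α w)
    rw [(hσ w).1, (hσ w).2, hw01, map_one, mul_one] at this
    have hw00 : mat w 0 0 = 0 := by
      have h := norm_row_two hF w
      rw [hw01, one_pow, mul_one] at h
      have h' : mat w 0 0 * mat w 0 0 ^ q = 0 := by linear_combination h
      rcases mul_eq_zero.1 h' with h'' | h''
      · exact h''
      · exact (pow_q_eq_zero_iff hF).1 h''
    rw [hw00, map_zero, zero_mul, zero_add] at this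
    exact this
  refine ⟨ν, hν, σ, fun u => ?_⟩
  obtain ⟨a0, a1⟩ := hσ u
  obtain ⟨b0, b1⟩ := entries_two hF (α u)
  obtain ⟨c0, c1⟩ := entries_two hF u
  have hνq : ν ^ q = ν⁻¹ := eq_inv_of_mul_eq_one_right hν
  refine ext_mat (Matrix.ext fun i j => ?_)
  rw [mat_semi, semiMat_apply]
  fin_cases i <;> fin_cases j <;>
    simp [a0, a1, b0, b1, c0, c1, mul_pow, hνq, ne_zero_of_norm hν, mul_comm]

end Cfsg.Agent.Cores.Phan
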