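import Mathlib
import Cfsg.Agent.Cores.Phan.Step

/-!
The universal completion of an amalgam of `SU₂`'s and `SU₃`'s along a path is an image of a special
unitary group.
-/

set_option autoImplicit false
set_option linter.unusedSectionVars false

namespace Cfsg.Agent.Cores.Phan

open Cfsg Cfsg.Agent.Unitary

variable {F : Type*} [Field F] [Fintype F] {m n q : ℕ} {G : Type*} [Group G]

/-- A compatible family of blocks: distant ones commute, adjacent ones extend to `SU₃`. -/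
structure Amalgam (hF : Fintype.card F = q ^ 2) (n : ℕ) (φ : ℕ → SU 2 F q →* G) : Prop where
  comm : ∀ i j, i + 2 ≤ j → j < n → ∀ a b, Commute (φ i a) (φ j b)
  triple : ∀ i, i + 1 < n → ∃ Ψ : SU 3 F q →* G,
    Ψ.comp (emb hF (seg 0 2 3 (by omega))) = φ i ∧
    Ψ.comp (emb hF (seg 1 2 3 (by omega))) = φ (i + 1)

/-- A homomorphism on `SU_m` restricting to the first blocks. -/
def Extends (hF : Fintype.card F = q ^ 2) (φ : ℕ → SU 2 F q →* G) (Φ : SU m F q →* G) : Prop :=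
  ∀ i, ∀ hi : i + 2 ≤ m, Φ.comp (emb hF (seg i 2 m hi)) = φ i

variable {φ : ℕ → SU 2 F q →* G}

theorem Amalgam.exists_three (hF : Fintype.card F = q ^ 2) (hφ : Amalgam hF n φ) (hn : 2 ≤ n) :
    ∃ Φ : SU 3 F q →* G, Extends hF φ Φ := by
  obtain ⟨Ψ, h0, h1⟩ := hφ.triple 0 (by omega)
  refine ⟨Ψ, fun i hi => ?_⟩
  obtain rfl | rfl : i = 0 ∨ i = 1 := by omega
  · exact h0
  · exact h1

theorem Amalgam.exists_succ (hF : Fintype.card F = q ^ 2) (hq : 3 ≤ q) (hφ : Amalgam hF n φ)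
    (hm : 3 ≤ m) (hmn : m ≤ n) (hbig : 4 ≤ q ∨ 4 ≤ m) {Φ : SU m F q →* G}
    (hΦ : Extends hF φ Φ) : ∃ Φ' : SU (m + 1) F q →* G, Extends hF φ Φ' := by
  obtain ⟨Ψ, h0, h1⟩ := hφ.triple (m - 2) (by omega)
  rw [show m - 2 + 1 = m - 1 by omega] at h1
  have hcomm : ∀ (a : SU (m - 1) F q) (u : SU 2 F q),
      Commute (Φ (emb hF (seg 0 (m - 1) m (by omega)) a)) (Ψ (emb hF (seg 1 2 3 (by omega)) u)) := by
    intro a u
    have ha : a ∈ pairGen hF (m - 1) := by rw [pairGen_eq_top hF hq (by omega)]; trivial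
    suffices hle : pairGen hF (m - 1) ≤ (Subgroup.centralizer
        {Ψ (emb hF (seg 1 2 3 (by omega)) u)}).comap (Φ.comp (emb hF (seg 0 (m - 1) m (by omega))))
      from (Subgroup.mem_centralizer_singleton_iff.1 (hle ha))
    refine iSup₂_le fun i hi => ?_
    rintro _ ⟨c, rfl⟩
    rw [Subgroup.mem_comap, MonoidHom.comp_apply, emb_emb,
      seg_trans i 2 0 (m - 1) m hi (by omega) (by omega), seg_congr (Nat.zero_add i) _ (by omega),
      Subgroup.mem_centralizer_singleton_iff]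
    rw [show Φ (emb hF (seg i 2 m (by omega)) c) = φ i c from DFunLike.congr_fun (hΦ i (by omega)) c,
      show Ψ (emb hF (seg 1 2 3 (by omega)) u) = φ (m - 1) u from DFunLike.congr_fun h1 u]
    exact hφ.comm i (m - 1) (by omega) (by omega) c u
  obtain ⟨Φ', hA, hU⟩ := exists_step hF hq hm hbig Φ Ψ
    (by rw [h0]; exact (hΦ (m - 2) (by omega)).symm) hcomm
  refine ⟨Φ', fun i hi => ?_⟩
  by_cases him : i + 2 ≤ m
  · refine MonoidHom.ext fun c => ?_
    rw [← hΦ i him]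
    show Φ' (emb hF (seg i 2 (m + 1) hi) c) = Φ (emb hF (seg i 2 m him) c)
    rw [← hA, MonoidHom.comp_apply, emb_emb, seg_trans i 2 0 m (m + 1) him (by omega) (by omega),
      seg_congr (Nat.zero_add i) _ hi]
  · obtain rfl : i = m - 1 := by omega
    rw [hU, h1]

/-- The homomorphism on `SU_(n+1)`, starting from any homomorphism on `SU_b`. -/
theorem Amalgam.exists_hom (hF : Fintype.card F = q ^ 2) (hq : 3 ≤ q) (hφ : Amalgam hF n φ)
    {b : ℕ} (hb : 3 ≤ b) (hbn : b ≤ n + 1) (hbig : 4 ≤ q ∨ 4 ≤ b) {Φ : SU b F q →* G}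
    (hΦ : Extends hF φ Φ) : ∃ Φ' : SU (n + 1) F q →* G, Extends hF φ Φ' := by
  suffices h : ∀ m, b ≤ m → m ≤ n + 1 → ∃ Φ' : SU m F q →* G, Extends hF φ Φ' from h _ hbn le_rfl
  intro m hbm
  induction m, hbm using Nat.le_induction with
  | base => exact fun _ => ⟨Φ, hΦ⟩
  | succ m hbm ih =>
    intro hmn
    obtain ⟨Φ', hΦ'⟩ := ih (by omega)
    exact hφ.exists_succ hF hq (by omega) (by omega) (hbig.imp id (by omega)) hΦ'

/-- The image contains every block. -/
theorem Extends.range_ge (hF : Fintype.card F = q ^ 2) {Φ : SU m F q →* G} (hΦ : Extends hF φ Φ)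
    {i : ℕ} (hi : i + 2 ≤ m) : (φ i).range ≤ Φ.range := by
  rw [← hΦ i hi]
  rintro _ ⟨a, rfl⟩
  exact ⟨_, rfl⟩

end Cfsg.Agent.Cores.Phan
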