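import Mathlib
import Cfsg.Agent.Cores.Phan.Completion
import Cfsg.Agent.Cores.Phan.AutTwo

/-!
A weak Phan system along a path gives an amalgam of blocks.
-/

set_option autoImplicit false
set_option linter.unusedSectionVars false

namespace Cfsg.Agent.Cores.Phan

open Cfsg Cfsg.Agent.Unitary Matrix

variable {F : Type*} [Field F] [Fintype F] {n q : ℕ} {G : Type*} [Group G]

theorem norm_left {ν : F} (hν : ν * ν ^ q = 1) :
    ∀ i, (![ν, 1, 1] : Fin 3 → F) i * (![ν, 1, 1] : Fin 3 → F) i ^ q = 1 := by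
  intro i
  fin_cases i <;> simp [hν]

theorem range_comp_of_surjective {A B : Type*} [Group A] [Group B] (f : B →* G) {g : A →* B}
    (hg : Function.Surjective g) : (f.comp g).range = f.range := by
  rw [MonoidHom.range_comp, MonoidHom.range_eq_top.2 hg, MonoidHom.range_eq_map]

/-- Changing the parametrisation of the second pair to fit the first. -/
theorem exists_adjusted (hF : Fintype.card F = q ^ 2) {θ θ' : SU 3 F q →* G} {A B C : Subgroup G}
    (h : PairMap hF θ A B) (h' : PairMap hF θ' B C) (hAC : ∀ x ∈ A, ∀ y ∈ C, x * y = y * x) :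
    ∃ θ'' : SU 3 F q →* G, PairMap hF θ'' B C ∧ θ''.range = θ'.range ∧
      θ''.comp (emb hF tL) = θ.comp (emb hF tR) := by
  set f := θ.comp (emb hF tR) with hf
  set g := θ'.comp (emb hF tL) with hg
  have hfi : Function.Injective f := injective_comp_emb hF h.ker_le tR
  have hgi : Function.Injective g := injective_comp_emb hF h'.ker_le tL
  have hrange : g.range = f.range := h'.left.trans h.right.symm
  let α : SU 2 F q ≃* SU 2 F q := ((MonoidHom.ofInjective hgi).trans
    (MulEquiv.subgroupCongr hrange)).trans (MonoidHom.ofInjective hfi).symm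
  have hα : ∀ u, f (α u) = g u := by
    intro u
    show f ((MonoidHom.ofInjective hfi).symm (MulEquiv.subgroupCongr hrange
      (MonoidHom.ofInjective hgi u))) = g u
    rw [MonoidHom.apply_ofInjective_symm hfi]
    rfl
  have hd : ∀ u, IsDiag u → IsDiag (α u) := fun u hu => torus_middle hF h h' hAC α hα hu
  have hd' : ∀ u, IsDiag u → IsDiag (α.symm u) := by
    intro u hu
    have hmaps : Set.MapsTo α {x | IsDiag x} {x | IsDiag x} := hd
    obtain ⟨x, hx, hxu⟩ := (((Set.toFinite {x : SU 2 F q | IsDiag x}).injOn_iff_bijOn_of_mapsTo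
      hmaps).1 α.injective.injOn).surjOn hu
    rw [← hxu, MulEquiv.symm_apply_apply]
    exact hx
  obtain ⟨ν, hν, σ, hσ⟩ := exists_semi_eq hF α.symm hd'
  have hsurj : Function.Surjective (semi hF ![ν, 1, 1] (norm_left hν) σ) :=
    semi_surjective hF _ _ _
  have hL : ∀ u, semi hF ![ν, 1, 1] (norm_left hν) σ (emb hF tL u) = emb hF tL (α.symm u) := by
    intro u
    rw [hσ, semi_emb]
    congr 1
    refine ext_mat ?_
    rw [mat_semi, mat_semi]
    congr 1
    funext i
    fin_cases i <;> rfl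
  refine ⟨θ'.comp (semi hF ![ν, 1, 1] (norm_left hν) σ), ⟨?_, ?_, ?_⟩,
    range_comp_of_surjective θ' hsurj, MonoidHom.ext fun u => ?_⟩
  · rw [show (θ'.comp (semi hF ![ν, 1, 1] (norm_left hν) σ)).comp (emb hF tL) =
        g.comp α.symm.toMonoidHom from MonoidHom.ext fun u => congrArg θ' (hL u),
      range_comp_of_surjective g α.symm.surjective]
    exact h'.left
  · rw [show (θ'.comp (semi hF ![ν, 1, 1] (norm_left hν) σ)).comp (emb hF tR) =
        (θ'.comp (emb hF tR)).comp (semi hF (![ν, 1, 1] ∘ tR) (fun i => norm_left hν (tR i)) σ)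
        from MonoidHom.ext fun u => congrArg θ' (semi_emb hF tR _ (norm_left hν) σ u),
      range_comp_of_surjective _ (semi_surjective hF _ _ _)]
    exact h'.right
  · intro x hx
    have hc := h'.ker_le (MonoidHom.mem_ker.2 (show θ' (semi hF ![ν, 1, 1] (norm_left hν) σ x) = 1
      from hx))
    rw [Subgroup.mem_center_iff] at hc ⊢
    intro y
    apply semi_injective hF ![ν, 1, 1] (norm_left hν) σ
    rw [map_mul, map_mul]
    exact hc _
  · show θ' (semi hF ![ν, 1, 1] (norm_left hν) σ (emb hF tL u)) = f u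
    rw [hL, ← show f (α (α.symm u)) = f u by rw [MulEquiv.apply_symm_apply], hα]
    rfl

/-- A weak Phan system gives an amalgam. -/
theorem exists_amalgam (hF : Fintype.card F = q ^ 2) (hn : 2 ≤ n) (U : ℕ → Subgroup G)
    (V : ℕ → Subgroup G)
    (hpair : ∀ i, i + 1 < n → IsStandardUnitaryPair (V i) (U i) (U (i + 1)) F q)
    (hcomm : ∀ i j, i + 2 ≤ j → j < n → ∀ x ∈ U i, ∀ y ∈ U j, x * y = y * x) :
    ∃ φ : ℕ → SU 2 F q →* G, Amalgam hF n φ ∧ (∀ i, i < n → (φ i).range = U i) ∧
      ∀ i, i + 1 < n → ∃ θ : SU 3 F q →* G, θ.range = V i ∧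
        θ.comp (emb hF tL) = φ i ∧ θ.comp (emb hF tR) = φ (i + 1) ∧ θ.ker ≤ Subgroup.center _ := by
  classical
  have hchain : ∀ m, m < n → ∃ θ : ℕ → SU 3 F q →* G, ∀ i, i < m →
      PairMap hF (θ i) (U i) (U (i + 1)) ∧ (θ i).range = V i ∧
      (i + 1 < m → (θ i).comp (emb hF tR) = (θ (i + 1)).comp (emb hF tL)) := by
    intro m
    induction m with
    | zero => exact fun _ => ⟨fun _ => 1, fun i hi => absurd hi (Nat.not_lt_zero i)⟩
    | succ m ih =>
      intro hm
      obtain ⟨θ, hθ⟩ := ih (by omega)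
      obtain ⟨θm, hθr, hθm⟩ := exists_pairMap hF (hpair m hm)
      obtain ⟨ψ, hψ, hψr, hψe⟩ : ∃ ψ, PairMap hF ψ (U m) (U (m + 1)) ∧ ψ.range = V m ∧
          (0 < m → (θ (m - 1)).comp (emb hF tR) = ψ.comp (emb hF tL)) := by
        rcases Nat.eq_zero_or_pos m with rfl | hpos
        · exact ⟨θm, hθm, hθr, fun h => absurd h (lt_irrefl 0)⟩
        · obtain ⟨k, rfl⟩ : ∃ k, m = k + 1 := ⟨m - 1, by omega⟩
          obtain ⟨ψ, h1, h2, h3⟩ := exists_adjusted hF (hθ k (by omega)).1 hθm
            (hcomm k (k + 1 + 1) (by omega) hm)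
          exact ⟨ψ, h1, h2.trans hθr, fun _ => h3.symm⟩
      refine ⟨Function.update θ m ψ, fun i hi => ?_⟩
      rcases Nat.lt_succ_iff_lt_or_eq.1 hi with hlt | rfl
      · rw [Function.update_of_ne (by omega)]
        refine ⟨(hθ i hlt).1, (hθ i hlt).2.1, fun h => ?_⟩
        rcases Nat.lt_succ_iff_lt_or_eq.1 h with hlt' | rfl
        · rw [Function.update_of_ne (by omega)]
          exact (hθ i hlt).2.2 hlt'
        · rw [Function.update_self]
          exact hψe (by omega)
      · rw [Function.update_self]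
        exact ⟨hψ, hψr, fun h => absurd h (by omega)⟩
  obtain ⟨θ, hθ⟩ := hchain (n - 1) (by omega)
  obtain ⟨φ, hφdef⟩ : ∃ φ : ℕ → SU 2 F q →* G, ∀ i, φ i =
      if i + 1 < n then (θ i).comp (emb hF tL) else (θ (n - 2)).comp (emb hF tR) := ⟨_, fun _ => rfl⟩
  have hL : ∀ i, i + 1 < n → φ i = (θ i).comp (emb hF tL) := fun i h => by rw [hφdef, if_pos h]
  have hR : ∀ i, i + 1 < n → φ (i + 1) = (θ i).comp (emb hF tR) := by
    intro i h
    rw [hφdef]
    split_ifs with h'
    · exact ((hθ i (by omega)).2.2 (by omega)).symm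
    · rw [show i = n - 2 by omega]
  have hrange : ∀ i, i < n → (φ i).range = U i := by
    intro i hi
    by_cases h : i + 1 < n
    · rw [hL i h]
      exact (hθ i (by omega)).1.left
    · obtain ⟨k, rfl⟩ : ∃ k, i = k + 1 := ⟨i - 1, by omega⟩
      rw [hR k hi]
      exact (hθ k (by omega)).1.right
  refine ⟨φ, ⟨fun i j hij hj a b => ?_, fun i hi => ⟨θ i, (hL i hi).symm, (hR i hi).symm⟩⟩, hrange,
    fun i hi => ⟨θ i, (hθ i (by omega)).2.1, (hL i hi).symm, (hR i hi).symm,
      (hθ i (by omega)).1.ker_le⟩⟩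
  exact hcomm i j hij hj _ (hrange i (by omega) ▸ ⟨a, rfl⟩) _ (hrange j hj ▸ ⟨b, rfl⟩)

/-- The pairs lie in the subgroup generated by the blocks. -/
theorem pair_le (hF : Fintype.card F = q ^ 2) (hq : 3 ≤ q) {θ : SU 3 F q →* G} {A B : Subgroup G}
    (hA : (θ.comp (emb hF tL)).range = A) (hB : (θ.comp (emb hF tR)).range = B) :
    θ.range ≤ A ⊔ B := by
  rw [range_eq_iSup hF hq (by omega) θ]
  refine iSup₂_le fun i hi => ?_
  obtain rfl | rfl : i = 0 ∨ i = 1 := by omega
  · exact hA.le.trans le_sup_left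
  · exact hB.le.trans le_sup_right

/-- Recognition from a weak Phan system, given a starting homomorphism. -/
theorem surjective_of_amalgam (hF : Fintype.card F = q ^ 2) (hq : 3 ≤ q)
    (U : ℕ → Subgroup G) {φ : ℕ → SU 2 F q →* G}
    (hrange : ∀ i, i < n → (φ i).range = U i) {Φ : SU (n + 1) F q →* G} (hΦ : Extends hF φ Φ)
    (hgen : ∀ H : Subgroup G, (∀ i, i < n → U i ≤ H) → H = ⊤) : Function.Surjective Φ :=
  MonoidHom.range_eq_top.1 (hgen _ fun i hi => (hrange i hi).symm.le.trans
    (hΦ.range_ge hF (by omega)))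

end Cfsg.Agent.Cores.Phan
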