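import Mathlib
import Cfsg.Agent.Cores.Phan.AutTwo

/-!
Lifting maps from `SU₂(3)` through central extensions with kernel of exponent four.
-/

set_option autoImplicit false
set_option linter.unusedSectionVars false

namespace Cfsg.Agent.Cores.Phan

open Cfsg Cfsg.Agent.Unitary Matrix

section Braid

variable {G : Type*} [Group G]

/-- The twenty-four words. -/
def braidSet (a b : G) : Set G :=
  {x | ∃ i : Fin 3, ∃ r ∈ [1, b, b * b, b * a, b * a * a, b * b * a, b * b * a * a,
    b * a * a * b], x = a ^ (i : ℕ) * r}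

theorem ncard_braidSet_le (a b : G) : (braidSet a b).ncard ≤ 24 ∧ (braidSet a b).Finite := by
  classical
  have h : braidSet a b ⊆ ↑((Finset.univ ×ˢ ([1, b, b * b, b * a, b * a * a, b * b * a,
      b * b * a * a, b * a * a * b] : List G).toFinset).image
        fun p : Fin 3 × G => a ^ (p.1 : ℕ) * p.2) := by
    rintro x ⟨i, r, hr, rfl⟩
    simp only [Finset.coe_image, Set.mem_image, Finset.mem_coe, Finset.mem_product,
      Finset.mem_univ, true_and, List.mem_toFinset]
    exact ⟨(i, r), hr, rfl⟩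
  refine ⟨(Set.ncard_le_ncard h (Finset.finite_toSet _)).trans ?_,
    Set.Finite.subset (Finset.finite_toSet _) h⟩
  rw [Set.ncard_coe_finset]
  refine Finset.card_image_le.trans ?_
  rw [Finset.card_product, Finset.card_univ, Fintype.card_fin]
  have := List.toFinset_card_le ([1, b, b * b, b * a, b * a * a, b * b * a,
      b * b * a * a, b * a * a * b] : List G)
  simp only [List.length_cons, List.length_nil] at this
  omega

/-- A braid pair of elements of order three generates a group of order at most twenty-four. -/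
theorem card_closure_le {a b : G} (ha : a ^ 3 = 1) (hb : b ^ 3 = 1)
    (hab : a * b * a = b * a * b) :
    Nat.card (Subgroup.closure ({a, b} : Set G)) ≤ 24 ∧
      Finite (Subgroup.closure ({a, b} : Set G)) := by
  have ha' : a * a = a⁻¹ := eq_inv_of_mul_eq_one_left (by rw [← pow_three', ha])
  have hb' : b * b = b⁻¹ := eq_inv_of_mul_eq_one_left (by rw [← pow_three', hb])
  have hpow : ∀ m : ℕ, a ^ m = a ^ (m % 3) := fun m => pow_eq_pow_mod m ha
  have mk : ∀ (m : ℕ) (r : G), r ∈ [1, b, b * b, b * a, b * a * a, b * b * a, b * b * a * a,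
      b * a * a * b] → a ^ m * r ∈ braidSet a b :=
    fun m r hr => ⟨⟨m % 3, Nat.mod_lt _ (by norm_num)⟩, r, hr, by rw [hpow m]⟩
  -- the relations
  have r2 : b * a * b = a * (b * a) := by rw [← hab, mul_assoc]
  have r6 : b * b * a * b = a * (b * a * a) := by
    calc b * b * a * b = b * (b * a * b) := by group
      _ = b * (a * b * a) := by rw [hab]
      _ = (b * a * b) * a := by group
      _ = (a * b * a) * a := by rw [hab]
      _ = a * (b * a * a) := by group
  have e1 : b * a * b⁻¹ = a⁻¹ * b * a := by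
    rw [mul_inv_eq_iff_eq_mul, mul_assoc, mul_assoc, eq_inv_mul_iff_mul_eq, ← mul_assoc,
      hab, mul_assoc]
  have r7 : b * b * a * a * b = a * (b * b * a * a) := by
    rw [mul_assoc (b * b) a a, ha', hb']
    have : (a * b * a)⁻¹ * (b * a * b) = 1 := by rw [hab, inv_mul_cancel]
    calc b⁻¹ * a⁻¹ * b = (a * ((a * b * a)⁻¹ * (b * a * b)) * (b⁻¹ * a⁻¹)) := by group
      _ = a * (b⁻¹ * a⁻¹) := by rw [this, mul_one]
  have r8 : b * a * a * b * a = a * (b * a * a * b) := by
    rw [mul_assoc b a a, ha']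
    have h1 : (b * a⁻¹ * b) * a * (b * a⁻¹ * b)⁻¹ = a := by
      calc (b * a⁻¹ * b) * a * (b * a⁻¹ * b)⁻¹ = b * a⁻¹ * (b * a * b⁻¹) * a * b⁻¹ := by group
        _ = b * a⁻¹ * (a⁻¹ * b * a) * a * b⁻¹ := by rw [e1]
        _ = b * (a * a)⁻¹ * b * (a * a) * b⁻¹ := by group
        _ = b * (a * b * a⁻¹) * b⁻¹ := by rw [ha']; group
        _ = b * (b⁻¹ * a * b) * b⁻¹ := by
          congr 2
          rw [mul_inv_eq_iff_eq_mul, mul_assoc, mul_assoc, eq_inv_mul_iff_mul_eq, ← mul_assoc,
            ← mul_assoc]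
          exact hab.symm
        _ = a := by group
    rwa [mul_inv_eq_iff_eq_mul] at h1
  have r9 : b * a * a * b * b = a * a * (b * b * a) := by
    rw [mul_assoc b a a, mul_assoc (b * (a * a)) b b, ha', hb']
    have h1 := congrArg (·⁻¹) e1
    simp only [_root_.mul_inv_rev, inv_inv, ← mul_assoc] at h1
    rw [h1, ← mul_assoc]
  have hmul : ∀ x ∈ braidSet a b, x * a ∈ braidSet a b ∧ x * b ∈ braidSet a b := by
    rintro x ⟨i, r, hr, rfl⟩
    simp only [mul_assoc _ r]
    simp only [List.mem_cons, List.not_mem_nil, or_false] at hr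
    rcases hr with rfl | rfl | rfl | rfl | rfl | rfl | rfl | rfl
    · refine ⟨?_, mk _ _ (by simp)⟩
      rw [one_mul, ← pow_succ, ← mul_one (a ^ ((i : ℕ) + 1))]
      exact mk _ _ (by simp)
    · exact ⟨mk _ _ (by simp), mk _ _ (by simp)⟩
    · refine ⟨mk _ _ (by simp), ?_⟩
      rw [← pow_three', hb]
      exact mk _ _ (by simp)
    · refine ⟨mk _ _ (by simp), ?_⟩
      rw [r2, ← mul_assoc, ← pow_succ]
      exact mk _ _ (by simp)
    · refine ⟨?_, mk _ _ (by simp)⟩
      rw [mul_assoc (b * a), mul_assoc b, ← mul_assoc a, ← pow_three', ha, mul_one]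
      exact mk _ _ (by simp)
    · refine ⟨mk _ _ (by simp), ?_⟩
      rw [r6, ← mul_assoc, ← pow_succ]
      exact mk _ _ (by simp)
    · constructor
      · rw [mul_assoc (b * b * a), mul_assoc (b * b), ← mul_assoc a, ← pow_three', ha, mul_one]
        exact mk _ _ (by simp)
      · rw [r7, ← mul_assoc, ← pow_succ]
        exact mk _ _ (by simp)
    · constructor
      · rw [r8, ← mul_assoc, ← pow_succ]
        exact mk _ _ (by simp)
      · rw [r9, ← mul_assoc, ← mul_assoc (a ^ (i : ℕ)), ← pow_succ, ← pow_succ]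
        exact mk _ _ (by simp)
  have hsub : (Subgroup.closure ({a, b} : Set G) : Set G) ⊆ braidSet a b := by
    intro x hx
    induction hx using Subgroup.closure_induction_right with
    | one =>
      rw [show (1 : G) = a ^ 0 * 1 by simp]
      exact mk _ _ (by simp)
    | mul_right x _ y hy ih =>
      rcases hy with rfl | rfl
      · exact (hmul x ih).1
      · exact (hmul x ih).2
    | mul_inv_cancel x _ y hy ih =>
      rcases hy with rfl | rfl
      · rw [← ha', ← mul_assoc]; exact (hmul _ (hmul x ih).1).1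
      · rw [← hb', ← mul_assoc]; exact (hmul _ (hmul x ih).2).2
  obtain ⟨h1, h2⟩ := ncard_braidSet_le a b
  exact ⟨le_trans (le_of_eq (Nat.card_coe_set_eq _)) ((Set.ncard_le_ncard hsub h2).trans h1),
    (h2.subset hsub).to_subtype⟩

end Braid

variable {F : Type*} [Field F] [Fintype F]

/-- `SU₂(3)` is generated by a braid pair of elements of order three. -/
theorem exists_braid_gens (hF : Fintype.card F = 3 ^ 2) :
    ∃ a b : SU 2 F 3, a ^ 3 = 1 ∧ b ^ 3 = 1 ∧ a * b * a = b * a * b ∧
      Subgroup.closure ({a, b} : Set (SU 2 F 3)) = ⊤ ∧ Nat.card (SU 2 F 3) = 24 := by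
  classical
  obtain ⟨P, e, -⟩ := exists_frame_equiv hF
  have : Fintype (fixK hF) := Fintype.ofFinite _
  have hK : Fintype.card (fixK hF) = 3 := by rw [← Nat.card_eq_fintype_card, card_fixK hF]
  have h3 : (3 : fixK hF) = 0 := by
    have := FiniteField.cast_card_eq_zero (fixK hF)
    rw [hK] at this
    exact_mod_cast this
  let T := fun (i j : Fin 2) (hij : i ≠ j) (c : fixK hF) =>
    (SpecialLinearGroup.transvection hij c : SpecialLinearGroup (Fin 2) (fixK hF))
  set a := T 0 1 (by decide) 1 with hadef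
  set b := T 1 0 (by decide) (-1) with hbdef
  have hTT : ∀ i j (hij : i ≠ j) (c d : fixK hF), T i j hij c * T i j hij d = T i j hij (c + d) :=
    fun i j hij c d => Subtype.ext (Matrix.transvection_mul_transvection_same _ _ hij c d)
  have hT0 : ∀ i j (hij : i ≠ j), T i j hij 0 = 1 := fun i j hij =>
    Subtype.ext (Matrix.transvection_zero _ _)
  have ha : a ^ 3 = 1 := by
    rw [pow_three, hTT, hTT, show (1 : fixK hF) + (1 + 1) = 0 by linear_combination h3, hT0]
  have hb : b ^ 3 = 1 := by
    rw [pow_three, hTT, hTT, show (-1 : fixK hF) + (-1 + -1) = 0 by linear_combination -h3, hT0]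
  have hab : a * b * a = b * a * b := by
    refine Subtype.ext ?_
    show Matrix.transvection 0 1 1 * Matrix.transvection 1 0 (-1) * Matrix.transvection 0 1 1 =
      Matrix.transvection 1 0 (-1) * Matrix.transvection 0 1 1 *
        Matrix.transvection (1 : Fin 2) 0 (-1 : fixK hF)
    ext i j
    fin_cases i <;> fin_cases j <;>
      simp [Matrix.transvection, Matrix.mul_apply, Matrix.single_apply]
  have hgen : Subgroup.closure ({a, b} : Set (SpecialLinearGroup (Fin 2) (fixK hF))) = ⊤ := by
    refine Cfsg.Agent.Linear.eq_top_of_transvection_mem fun i j hij c => ?_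
    have hc : c = 0 ∨ c = 1 ∨ c = -1 := by
      have h := FiniteField.pow_card c
      rw [hK] at h
      have : c * (c - 1) * (c + 1) = 0 := by linear_combination h
      rcases mul_eq_zero.1 this with h' | h'
      · rcases mul_eq_zero.1 h' with h'' | h''
        · exact Or.inl h''
        · exact Or.inr (Or.inl (sub_eq_zero.1 h''))
      · exact Or.inr (Or.inr (eq_neg_of_add_eq_zero_left h'))
    show T i j hij c ∈ _
    rcases hc with rfl | hc
    · rw [hT0]; exact one_mem _
    have ma : a ∈ Subgroup.closure ({a, b} : Set (SpecialLinearGroup (Fin 2) (fixK hF))) :=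
      Subgroup.subset_closure (by simp)
    have mb : b ∈ Subgroup.closure ({a, b} : Set (SpecialLinearGroup (Fin 2) (fixK hF))) :=
      Subgroup.subset_closure (by simp)
    obtain ⟨rfl, rfl⟩ | ⟨rfl, rfl⟩ : (i = 0 ∧ j = 1) ∨ (i = 1 ∧ j = 0) := by
      fin_cases i <;> fin_cases j <;> simp_all
    · rcases hc with rfl | rfl
      · exact ma
      · have : T 0 1 hij (-1) = a * a := by
          rw [hTT, show (-1 : fixK hF) = 1 + 1 by linear_combination -h3]
        exact this ▸ mul_mem ma ma
    · rcases hc with rfl | rfl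
      · have : T 1 0 hij 1 = b * b := by
          rw [hTT]
          congr 1
          linear_combination h3
        exact this ▸ mul_mem mb mb
      · exact mb
  refine ⟨e a, e b, by rw [← map_pow, ha, map_one], by rw [← map_pow, hb, map_one],
    by rw [← map_mul, ← map_mul, hab, map_mul, map_mul], ?_, ?_⟩
  · have := congrArg (Subgroup.map e.toMonoidHom) hgen
    rw [MonoidHom.map_closure, Set.image_pair, Subgroup.map_top_of_surjective _ e.surjective] at this
    exact this
  · rw [← Nat.card_congr e.toEquiv, Cfsg.Agent.Linear.card_SL_two, hK]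
    norm_num

/-- A map killing fourth powers is trivial. -/
theorem eq_one_of_pow_four (hF : Fintype.card F = 3 ^ 2) {M : Type*} [Monoid M]
    (ρ : SU 2 F 3 →* M) (h4 : ∀ x, ρ x ^ 4 = 1) (x : SU 2 F 3) : ρ x = 1 := by
  obtain ⟨a, b, ha, hb, -, hgen, -⟩ := exists_braid_gens hF
  have h1 : ∀ y : SU 2 F 3, y ^ 3 = 1 → ρ y = 1 := fun y hy => by
    have h := h4 y
    rwa [pow_succ, ← map_pow, hy, map_one, one_mul] at h
  have hx : x ∈ ρ.ker := by
    suffices Subgroup.closure ({a, b} : Set (SU 2 F 3)) ≤ ρ.ker from this (hgen ▸ Subgroup.mem_top x)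
    rw [Subgroup.closure_le]
    rintro y (rfl | rfl)
    · exact MonoidHom.mem_ker.2 (h1 _ ha)
    · exact MonoidHom.mem_ker.2 (h1 _ hb)
  exact MonoidHom.mem_ker.1 hx

section Lift

variable {E G : Type*} [Group E] [Group G] {π : E →* G}

/-- Lifts are unique. -/
theorem lift_unique (hF : Fintype.card F = 3 ^ 2) (hc : π.ker ≤ Subgroup.center E)
    (h4 : ∀ z ∈ π.ker, z ^ 4 = 1) {ψ ψ' : SU 2 F 3 →* E} (h : π.comp ψ = π.comp ψ') : ψ = ψ' := by
  have hm : ∀ x, ψ x * (ψ' x)⁻¹ ∈ π.ker := fun x => by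
    rw [MonoidHom.mem_ker, map_mul, map_inv, show π (ψ x) = π (ψ' x) from DFunLike.congr_fun h x,
      mul_inv_cancel]
  let d : SU 2 F 3 →* E :=
    { toFun := fun x => ψ x * (ψ' x)⁻¹
      map_one' := by simp
      map_mul' := fun x y => by
        have hy := Subgroup.mem_center_iff.1 (hc (hm y)) ((ψ' x)⁻¹)
        rw [map_mul, map_mul, _root_.mul_inv_rev, mul_assoc, mul_assoc, ← mul_assoc (ψ y), ← hy] }
  exact MonoidHom.ext fun x => mul_inv_eq_one.1 (eq_one_of_pow_four hF d (fun y => h4 _ (hm y)) x)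

/-- Lifts exist. -/
theorem exists_lift (hF : Fintype.card F = 3 ^ 2) (hc : π.ker ≤ Subgroup.center E)
    (h4 : ∀ z ∈ π.ker, z ^ 4 = 1) {φ : SU 2 F 3 →* G} (hinj : Function.Injective φ)
    (hle : φ.range ≤ π.range) : ∃ ψ : SU 2 F 3 →* E, π.comp ψ = φ := by
  obtain ⟨a, b, ha, hb, hab, hgen, hcard⟩ := exists_braid_gens hF
  have lift3 : ∀ y : SU 2 F 3, y ^ 3 = 1 → ∃ y' : E, π y' = φ y ∧ y' ^ 3 = 1 := by
    intro y hy
    obtain ⟨x, hx⟩ := hle ⟨y, rfl⟩
    have hx3 : x ^ 3 ∈ π.ker := by rw [MonoidHom.mem_ker, map_pow, hx, ← map_pow, hy, map_one]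
    refine ⟨x ^ 4, ?_, ?_⟩
    · rw [map_pow, hx, ← map_pow, pow_succ, hy, one_mul]
    · rw [← pow_mul, mul_comm, pow_mul]
      exact h4 _ hx3
  obtain ⟨a', ha1, ha'⟩ := lift3 a ha
  obtain ⟨b', hb1, hb'⟩ := lift3 b hb
  obtain ⟨z, hz⟩ : ∃ z, z = a' * b' * a' * (b' * a' * b')⁻¹ := ⟨_, rfl⟩
  have hzk : z ∈ π.ker := by
    rw [MonoidHom.mem_ker, hz, map_mul, map_inv, map_mul, map_mul, map_mul, map_mul, ha1, hb1,
      ← map_mul, ← map_mul, ← map_mul, ← map_mul, hab, mul_inv_cancel]
  have hzc : ∀ g, g * z = z * g := fun g => Subgroup.mem_center_iff.1 (hc hzk) g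
  have hz1 : z = 1 := by
    have h1 : a' * b' * a' * (a' * b')⁻¹ = z * b' := by
      rw [hz]; group
    have h2 : (z * b') ^ 3 = 1 := by rw [← h1, conj_pow, ha', mul_one, mul_inv_cancel]
    rw [(Commute.symm (hzc b')).mul_pow, hb', mul_one] at h2
    have := h4 z hzk
    rwa [pow_succ, h2, one_mul] at this
  have hab' : a' * b' * a' = b' * a' * b' := mul_inv_eq_one.1 (hz ▸ hz1)
  obtain ⟨hO, hfin⟩ := card_closure_le ha' hb' hab'
  set O := Subgroup.closure ({a', b'} : Set E) with hOdef
  have hmap : O.map π = φ.range := by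
    rw [hOdef, MonoidHom.map_closure, Set.image_pair, ha1, hb1, ← Set.image_pair,
      ← MonoidHom.map_closure, hgen, ← MonoidHom.range_eq_map]
  let p : O →* φ.range := (π.comp O.subtype).codRestrict φ.range
    (fun x => hmap ▸ ⟨x, x.2, rfl⟩)
  have hsurj : Function.Surjective p := by
    rintro ⟨y, hy⟩
    obtain ⟨x, hx, hxy⟩ := hmap.symm ▸ hy
    exact ⟨⟨x, hx⟩, Subtype.ext hxy⟩
  have hbij : Function.Bijective p := by
    refine hsurj.bijective_of_nat_card_le ?_
    rw [← Nat.card_congr (MonoidHom.ofInjective hinj).toEquiv, hcard]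
    exact hO
  let P := MulEquiv.ofBijective p hbij
  refine ⟨O.subtype.comp (P.symm.toMonoidHom.comp (MonoidHom.ofInjective hinj).toMonoidHom),
    MonoidHom.ext fun x => ?_⟩
  have h := P.apply_symm_apply (MonoidHom.ofInjective hinj x)
  exact congrArg Subtype.val h

end Lift

end Cfsg.Agent.Cores.Phan
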