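import Mathlib
import Cfsg.Agent.Cores.Phan.Lift

/-!
Diagonal elements, common eigenbases and diagonal blocks in small unitary groups of odd characteristic.
-/

set_option autoImplicit false
set_option linter.unusedSectionVars false

namespace Cfsg.Agent.Cores.Phan

open Cfsg Cfsg.Agent.Unitary Matrix

variable {F : Type*} [Field F] [Fintype F] {k m q : ℕ}

/-- The diagonal elements commute with diagonal-semilinear maps by their ratios only. -/
theorem semi_congr (hF : Fintype.card F = q ^ 2) {ν ν' : Fin m → F}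
    (hν : ∀ i, ν i * ν i ^ q = 1) (hν' : ∀ i, ν' i * ν' i ^ q = 1) (σ : F ≃+* F)
    (h : ∀ i j, ν i * ν' j = ν' i * ν j) : semi hF ν hν σ = semi hF ν' hν' σ := by
  refine MonoidHom.ext fun g => ext_mat (Matrix.ext fun i j => ?_)
  rw [mat_semi, mat_semi, semiMat_apply, semiMat_apply]
  have h1 := ne_zero_of_norm (hν j)
  have h2 := ne_zero_of_norm (hν' j)
  field_simp
  linear_combination (σ (mat g i j)) * h i j

/-- Embedded diagonal elements are diagonal. -/
theorem mat_emb_diagonal (hF : Fintype.card F = q ^ 2) (ι : Fin k ↪ Fin m) (d : SU k F q)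
    {ν : Fin k → F} (hd : mat d = Matrix.diagonal ν) {ν' : Fin m → F} (hon : ∀ a, ν' (ι a) = ν a)
    (hoff : ∀ i, (∀ a, ι a ≠ i) → ν' i = 1) : mat (emb hF ι d) = Matrix.diagonal ν' := by
  ext i j
  rw [mat_emb]
  by_cases h : (∀ a, ι a ≠ i) ∨ ∀ a, ι a ≠ j
  · rw [embMat_apply_off ι _ h]
    by_cases hij : i = j
    · subst hij
      rw [Matrix.one_apply_eq, Matrix.diagonal_apply_eq, hoff i (h.elim id id)]
    · rw [Matrix.one_apply_ne hij, Matrix.diagonal_apply_ne _ hij]
  · push Not at h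
    obtain ⟨⟨a, rfl⟩, ⟨b, rfl⟩⟩ := h
    rw [embMat_apply_on, hd]
    by_cases hab : a = b
    · subst hab; rw [Matrix.diagonal_apply_eq, Matrix.diagonal_apply_eq, hon]
    · rw [Matrix.diagonal_apply_ne _ hab,
        Matrix.diagonal_apply_ne _ fun h => hab (ι.injective h)]

/-- Conjugating a block by a diagonal element. -/
theorem conj_diag_emb (hF : Fintype.card F = q ^ 2) (ι : Fin 2 ↪ Fin m) {z : SU m F q}
    {ν : Fin m → F} (hν : ∀ i, ν i * ν i ^ q = 1) (hz : mat z = Matrix.diagonal ν) {c : F}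
    (hc : c * c ^ q = 1) (hratio : ν (ι 0) = c * ν (ι 1)) (u : SU 2 F q) :
    z * emb hF ι u * z⁻¹ = emb hF ι (semi hF ![c, 1] (norm_pair hc) (RingEquiv.refl F) u) := by
  rw [semi_refl_of_eq hF ν hν _ hz, semi_emb]
  congr 2
  refine semi_congr hF _ _ _ fun i j => ?_
  fin_cases i <;> fin_cases j <;> simp [hratio] <;> ring

/-- Diagonal elements of `SU₂`. -/
theorem exists_torus (hF : Fintype.card F = q ^ 2) {ν : F} (hν : ν * ν ^ q = 1) :
    ∃ d : SU 2 F q, mat d = Matrix.diagonal ![ν⁻¹, ν] := by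
  have hν' : ν⁻¹ * ν⁻¹ ^ q = 1 := by rw [inv_pow, ← mul_inv, hν, inv_one]
  have hp : Preserves q (Matrix.diagonal (![ν⁻¹, ν] : Fin 2 → F)) := by
    rw [preserves_iff_transpose_mul hF, Matrix.diagonal_transpose,
      Matrix.diagonal_map (f := fun x : F => x ^ q) (zero_pow (q_ne_zero hF)),
      Matrix.diagonal_mul_diagonal, ← Matrix.diagonal_one]
    congr 1
    funext i
    fin_cases i
    · exact hν'
    · exact hν
  have hd : (Matrix.diagonal (![ν⁻¹, ν] : Fin 2 → F)).det = 1 := by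
    simp [Matrix.det_diagonal, ne_zero_of_norm hν]
  exact ⟨toSU hp hd, rfl⟩

/-- The central involution of `SU₂`. -/
theorem exists_negOne (hF : Fintype.card F = q ^ 2) : ∃ d : SU 2 F q, mat d = -1 := by
  have h1 : (-1 : F) * (-1) ^ q = 1 := by rw [neg_pow_q hF, one_pow, neg_mul_neg, one_mul]
  obtain ⟨d, hd⟩ := exists_torus hF h1
  refine ⟨d, hd.trans ?_⟩
  ext i j
  fin_cases i <;> fin_cases j <;> simp

section Split

variable {n : ℕ}

/-- An invariant non-degenerate space splits under an involution. -/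
theorem exists_eigen_sub (hF : Fintype.card F = q ^ 2) (h2 : (2 : F) ≠ 0) {z : SU n F q}
    (hz : z * z = 1) {W : Submodule F (Fin n → F)} (hW : Nondeg q W) (hne : W ≠ ⊥)
    (hinv : ∀ x ∈ W, ap z x ∈ W) :
    ∃ s : Bool, ∃ W' ≤ W, W' ≠ ⊥ ∧ Nondeg q W' ∧
      (∀ x, x ∈ W' ↔ x ∈ W ∧ ap z x = (if s then (-1 : F) else 1) • x) := by
  classical
  let E : Bool → Submodule F (Fin n → F) := fun s =>
    { carrier := {x | x ∈ W ∧ ap z x = (if s then (-1 : F) else 1) • x}
      zero_mem' := ⟨W.zero_mem, by simp [ap_def]⟩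
      add_mem' := fun {x y} hx hy => ⟨W.add_mem hx.1 hy.1, by rw [ap_add, hx.2, hy.2, smul_add]⟩
      smul_mem' := fun c x hx => ⟨W.smul_mem c hx.1, by rw [ap_smul, hx.2, smul_comm]⟩ }
  have hmem : ∀ s x, x ∈ E s ↔ x ∈ W ∧ ap z x = (if s then (-1 : F) else 1) • x := fun s x => Iff.rfl
  have hzz : ∀ x, ap z (ap z x) = x := fun x => by rw [← ap_mul, hz, ap_one]
  have hplus : ∀ x ∈ W, x + ap z x ∈ E false := fun x hx =>
    ⟨W.add_mem hx (hinv x hx), by simp [ap_add, hzz, add_comm]⟩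
  have hminus : ∀ x ∈ W, x - ap z x ∈ E true := fun x hx => by
    refine ⟨W.sub_mem hx (hinv x hx), ?_⟩
    show ap z (x - ap z x) = _
    rw [sub_eq_add_neg, ap_add, show -ap z x = (-1 : F) • ap z x by simp, ap_smul, hzz]
    simp [sub_eq_add_neg, add_comm]
  have hnd : ∀ s, Nondeg q (E s) := by
    intro s u hu horth
    refine hW u hu.1 fun v hv => ?_
    have hopp : ∀ w ∈ E (!s), hermForm n F q u w = 0 := by
      intro w hw
      have h := herm_ap z u w
      rw [hu.2, hw.2, herm_smul_left, herm_smul_right] at h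
      cases s
      · simp only [Bool.not_false, if_true, Bool.false_eq_true, if_false, one_mul,
          neg_pow_q hF, one_pow, neg_mul, one_mul] at h
        have : (2 : F) * hermForm n F q u w = 0 := by linear_combination -h
        exact (mul_eq_zero.1 this).resolve_left h2
      · simp only [Bool.not_true, Bool.false_eq_true, if_false, if_true, one_pow, one_mul,
          neg_mul] at h
        have : (2 : F) * hermForm n F q u w = 0 := by linear_combination -h
        exact (mul_eq_zero.1 this).resolve_left h2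
    have ha : hermForm n F q u (v + ap z v) = 0 := by
      cases s
      · exact horth _ (hplus v hv)
      · exact hopp _ (hplus v hv)
    have hb : hermForm n F q u (v - ap z v) = 0 := by
      cases s
      · exact hopp _ (hminus v hv)
      · exact horth _ (hminus v hv)
    rw [herm_add_right hF] at ha
    rw [herm_sub_right hF] at hb
    have : (2 : F) * hermForm n F q u v = 0 := by linear_combination ha + hb
    exact (mul_eq_zero.1 this).resolve_left h2
  obtain ⟨x, hx, hx0⟩ := W.exists_mem_ne_zero_of_ne_bot hne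
  obtain ⟨s, hs⟩ : ∃ s, E s ≠ ⊥ := by
    by_contra hcon
    push Not at hcon
    have h1 := hplus x hx
    have h3 := hminus x hx
    rw [hcon, Submodule.mem_bot] at h1 h3
    refine hx0 ((smul_eq_zero.1 (show (2 : F) • x = 0 from ?_)).resolve_left h2)
    rw [show (2 : F) • x = (x + ap z x) + (x - ap z x) by rw [two_smul]; abel, h1, h3, add_zero]
  exact ⟨s, E s, fun x hx => hx.1, hs, hnd s, hmem s⟩

/-- A common eigenvector of norm one of three commuting involutions. -/
theorem exists_eigen_unit (hF : Fintype.card F = q ^ 2) (h2 : (2 : F) ≠ 0) {z : Fin 3 → SU n F q}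
    (hz : ∀ a, z a * z a = 1) (hc : ∀ a b, Commute (z a) (z b)) {W : Submodule F (Fin n → F)}
    (hW : Nondeg q W) (hne : W ≠ ⊥) (hinv : ∀ a, ∀ x ∈ W, ap (z a) x ∈ W) :
    ∃ x ∈ W, hermForm n F q x x = 1 ∧
      ∀ a, ∃ s : Bool, ap (z a) x = (if s then (-1 : F) else 1) • x := by
  have step : ∀ a (W : Submodule F (Fin n → F)), Nondeg q W → W ≠ ⊥ →
      (∀ b, ∀ x ∈ W, ap (z b) x ∈ W) → ∃ W' ≤ W, Nondeg q W' ∧ W' ≠ ⊥ ∧
        (∀ b, ∀ x ∈ W', ap (z b) x ∈ W') ∧
        ∃ s : Bool, ∀ x ∈ W', ap (z a) x = (if s then (-1 : F) else 1) • x := by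
    intro a W hW hne hinv
    obtain ⟨s, W', hle, hne', hnd, hmem⟩ := exists_eigen_sub hF h2 (hz a) hW hne (hinv a)
    refine ⟨W', hle, hnd, hne', fun b x hx => (hmem _).2 ⟨hinv b x (hle hx), ?_⟩, s,
      fun x hx => ((hmem x).1 hx).2⟩
    rw [← ap_mul, (hc a b).eq, ap_mul, ((hmem x).1 hx).2, ap_smul]
  obtain ⟨W0, h0, a0, b0, c0, s0, e0⟩ := step 0 W hW hne hinv
  obtain ⟨W1, h1, a1, b1, c1, s1, e1⟩ := step 1 W0 a0 b0 c0
  obtain ⟨W2, h2', a2, b2, -, s2, e2⟩ := step 2 W1 a1 b1 c1
  obtain ⟨x, hx, hx1⟩ := exists_norm_one hF a2 b2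
  refine ⟨x, h0 (h1 (h2' hx)), hx1, fun a => ?_⟩
  fin_cases a
  · exact ⟨s0, e0 x (h1 (h2' hx))⟩
  · exact ⟨s1, e1 x (h2' hx)⟩
  · exact ⟨s2, e2 x hx⟩

/-- Three commuting involutions have a common orthonormal eigenbasis. -/
theorem exists_eigen_basis (hF : Fintype.card F = q ^ 2) (h2 : (2 : F) ≠ 0) {z : Fin 3 → SU n F q}
    (hz : ∀ a, z a * z a = 1) (hc : ∀ a b, Commute (z a) (z b)) :
    ∃ f : Fin n → Fin n → F, ON q f ∧ ∃ s : Fin 3 → Fin n → Bool,
      ∀ a i, ap (z a) (f i) = (if s a i then (-1 : F) else 1) • f i := by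
  suffices H : ∀ m, m ≤ n → ∃ f : Fin m → Fin n → F, ON q f ∧
      ∀ a i, ∃ s : Bool, ap (z a) (f i) = (if s then (-1 : F) else 1) • f i by
    obtain ⟨f, hf, hs⟩ := H n le_rfl
    choose s hs using hs
    exact ⟨f, hf, s, hs⟩
  intro m
  induction m with
  | zero => exact fun _ => ⟨Fin.elim0, fun i => i.elim0, fun _ i => i.elim0⟩
  | succ m ih =>
    intro hm
    obtain ⟨f, hf, hs⟩ := ih (by omega)
    obtain ⟨hWn, hWd⟩ := nondeg_perp_of_ON hF hf
    rw [Fintype.card_fin] at hWd
    have hinv : ∀ a, ∀ x ∈ Unitary.perp q (Set.range f), ap (z a) x ∈ Unitary.perp q (Set.range f) := by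
      intro a x hx
      rintro _ ⟨i, rfl⟩
      obtain ⟨s, hsi⟩ := hs a i
      have e1 : f i = ap (z a) ((if s then (-1 : F) else 1) • f i) := by
        rw [← hsi, ← ap_mul, hz, ap_one]
      rw [e1, herm_ap, herm_smul_right, hx _ ⟨i, rfl⟩, mul_zero]
    obtain ⟨x, hx, hx1, hxe⟩ := exists_eigen_unit hF h2 hz hc hWn
      (ne_bot_of_finrank (by omega)) hinv
    refine ⟨Fin.cons x f, hf.cons hF hx1 fun i => (herm_eq_zero_symm hF).1 (hx _ ⟨i, rfl⟩),
      fun a i => ?_⟩
    refine Fin.cases ?_ (fun j => ?_) i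
    · simpa using hxe a
    · simpa using hs a j

/-- Simultaneous diagonalisation inside `SU`. -/
theorem exists_conj_diag (hF : Fintype.card F = q ^ 2) {l : ℕ} {f : Fin (l + 1) → Fin (l + 1) → F}
    (hf : ON q f) {z : Fin 3 → SU (l + 1) F q} {c : Fin 3 → Fin (l + 1) → F}
    (hs : ∀ a i, ap (z a) (f i) = c a i • f i) :
    ∃ g : SU (l + 1) F q, ∀ a, mat (g * z a * g⁻¹) = Matrix.diagonal (c a) := by
  obtain ⟨g, hg⟩ := exists_SU_map_ON hF (f := fun i : Fin l => f i.castSucc)
    (f' := fun i : Fin l => (Pi.single i.castSucc (1 : F) : Fin (l + 1) → F))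
    (fun i j => by rw [hf]; simp) (fun i j => by rw [herm_single_single hF]; simp) (by simp)
  refine ⟨g, fun a => ?_⟩
  have heig : ∀ i, ap g (f i) = (ap g (f i) i) • Pi.single i 1 ∧ ap g (f i) i ≠ 0 := by
    intro i
    refine Fin.lastCases ?_ (fun j => ?_) i
    · have hperp : ∀ j : Fin l, ap g (f (Fin.last l)) j.castSucc = 0 := fun j => by
        have h := herm_ap g (f (Fin.last l)) (f j.castSucc)
        rw [hg j, hf, if_neg (Fin.castSucc_lt_last j).ne'] at h
        rwa [herm_single_right hF, one_pow, mul_one] at h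
      have hsingle : ap g (f (Fin.last l)) =
          ap g (f (Fin.last l)) (Fin.last l) • Pi.single (Fin.last l) 1 := by
        funext x
        refine Fin.lastCases ?_ (fun j => ?_) x
        · simp
        · simp [hperp j]
      refine ⟨hsingle, fun h0 => ?_⟩
      have h1 := herm_ap g (f (Fin.last l)) (f (Fin.last l))
      rw [hf, if_pos rfl] at h1
      rw [hsingle, h0, zero_smul, herm_zero_left] at h1
      exact zero_ne_one h1
    · rw [hg j]
      simp
  ext i j
  rw [← ap_single]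
  obtain ⟨hj, hj0⟩ := heig j
  have he : ap (g * z a * g⁻¹) (Pi.single j 1) = c a j • Pi.single j 1 := by
    refine smul_right_injective _ hj0 ?_
    show (ap g (f j) j) • ap (g * z a * g⁻¹) (Pi.single j 1) = _
    rw [← ap_smul, ← hj, ap_mul, ap_mul, ap_inv_ap, hs, ap_smul]
    show _ = ap g (f j) j • (c a j • Pi.single j (1 : F))
    rw [smul_comm]
    exact congrArg _ hj
  rw [he]
  by_cases hij : i = j
  · subst hij; simp
  · simp [hij]

end Split

/-- The diagonal block of a homomorphism which respects a splitting of the coordinates. -/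
def blockHom {A : Type*} [Monoid A] (ι : Fin 2 ↪ Fin m) (ψ : A →* SU m F q)
    (h : ∀ x a i, (∀ b, ι b ≠ i) → mat (ψ x) (ι a) i = 0 ∧ mat (ψ x) i (ι a) = 0) :
    A →* Matrix (Fin 2) (Fin 2) F where
  toFun x := Matrix.of fun a b => mat (ψ x) (ι a) (ι b)
  map_one' := by
    ext a b
    by_cases hab : a = b
    · subst hab; simp [mat]
    · simp [mat, hab, fun h' => hab (ι.injective h')]
  map_mul' x y := by
    ext a b
    rw [map_mul, Matrix.of_apply, mat_mul, Matrix.mul_apply, Matrix.mul_apply]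
    rw [← Finset.sum_subset (Finset.subset_univ (Finset.univ.map ι))]
    · rw [Finset.sum_map]; rfl
    · intro l _ hl
      rw [(h x a l fun b hb => hl (Finset.mem_map.2 ⟨b, Finset.mem_univ _, hb⟩)).1, zero_mul]

theorem blockHom_apply {A : Type*} [Monoid A] (ι : Fin 2 ↪ Fin m) (ψ : A →* SU m F q)
    (h : ∀ x a i, (∀ b, ι b ≠ i) → mat (ψ x) (ι a) i = 0 ∧ mat (ψ x) i (ι a) = 0) (x : A)
    (a b : Fin 2) : blockHom ι ψ h x a b = mat (ψ x) (ι a) (ι b) := rfl

theorem blockHom_unitary (hF : Fintype.card F = q ^ 2) {A : Type*} [Monoid A] (ι : Fin 2 ↪ Fin m)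
    (ψ : A →* SU m F q)
    (h : ∀ x a i, (∀ b, ι b ≠ i) → mat (ψ x) (ι a) i = 0 ∧ mat (ψ x) i (ι a) = 0) (x : A) :
    (blockHom ι ψ h x)ᵀ * (blockHom ι ψ h x).map (fun y => y ^ q) = 1 := by
  have hp := (preserves_iff_transpose_mul hF).1 (ψ x).2
  ext a b
  have hab := congrFun (congrFun hp (ι a)) (ι b)
  rw [Matrix.mul_apply] at hab ⊢
  rw [← Finset.sum_subset (Finset.subset_univ (Finset.univ.map ι))] at hab
  · rw [Finset.sum_map] at hab
    refine hab.trans ?_
    by_cases e : a = b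
    · subst e; simp
    · simp [e, fun h' => e (ι.injective h')]
  · intro l _ hl
    exact mul_eq_zero_of_left
      (h x a l fun b hb => hl (Finset.mem_map.2 ⟨b, Finset.mem_univ _, hb⟩)).2 _

end Cfsg.Agent.Cores.Phan
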