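import Mathlib
import Cfsg.Agent.Cores.Phan.BlockTools

/-!
Three blocks of `SU₂(3)` in `SU₄(3)` with the relations of a Phan system are the standard ones, up
to an endomorphism.
-/

set_option autoImplicit false
set_option linter.unusedSectionVars false

namespace Cfsg.Agent.Cores.Phan

open Cfsg Cfsg.Agent.Unitary Matrix

variable {F : Type*} [Field F] [Fintype F]

theorem norm_neg_one {q : ℕ} (hF : Fintype.card F = q ^ 2) : (-1 : F) * (-1) ^ q = 1 := by
  rw [neg_pow_q hF, one_pow, neg_mul_neg, one_mul]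

theorem three_facts (hF : Fintype.card F = 3 ^ 2) :
    (3 : F) = 0 ∧ (2 : F) ≠ 0 ∧ (-1 : F) ≠ 1 ∧
      ∃ ν : F, ν * ν = -1 ∧ ν * ν ^ 3 = 1 := by
  have h3 : ((3 : ℕ) : F) = 0 := natCast_q_eq_zero hF
  have h3' : (3 : F) = 0 := by exact_mod_cast h3
  have h2 : (2 : F) ≠ 0 := fun h => one_ne_zero (show (1 : F) = 0 by linear_combination h3' - h)
  refine ⟨h3', h2, fun h => h2 (by linear_combination -h), ?_⟩
  obtain ⟨ν, hν, hν2⟩ := exists_norm_one_sq_ne (F := F) hF
  refine ⟨ν, ?_, hν⟩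
  have : (ν * ν - 1) * (ν * ν + 1) = 0 := by linear_combination hν
  exact eq_neg_of_add_eq_zero_left ((mul_eq_zero.1 this).resolve_left (sub_ne_zero.2 hν2))

/-- The diagonal semilinear map of ratio `c`, fixing scalars. -/
abbrev ratioMap {q : ℕ} (hF : Fintype.card F = q ^ 2) {c : F} (hc : c * c ^ q = 1) :
    SU 2 F q →* SU 2 F q :=
  semi hF ![c, 1] (norm_pair hc) (RingEquiv.refl F)

/-- The relations between the three maps. -/
structure Triangle {E : Type*} [Group E] (hF : Fintype.card F = 3 ^ 2)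
    (ψ : Fin 3 → SU 2 F 3 →* E) : Prop where
  inj : ∀ a, Function.Injective (ψ a)
  far : ∀ x y, Commute (ψ 0 x) (ψ 2 y)
  neg : ∀ d : SU 2 F 3, mat d = -1 → ∀ a b : Fin 3, ((a : ℕ) + 1 = b ∨ (b : ℕ) + 1 = a) →
    ∀ u, ψ a d * ψ b u * (ψ a d)⁻¹ = ψ b (ratioMap hF (norm_neg_one hF) u)
  torus : ∀ (ν : F) (hν : ν * ν ^ 3 = 1) (d : SU 2 F 3), mat d = Matrix.diagonal ![ν⁻¹, ν] →
    ∀ a b : Fin 3, (a : ℕ) + 1 = b → ∀ u, ψ a d * ψ b u * (ψ a d)⁻¹ = ψ b (ratioMap hF hν u)

theorem negOne_mul_self {n q : ℕ} {d : SU n F q} (hd : mat d = -1) : d * d = 1 :=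
  ext_mat (by rw [mat_mul, hd, neg_mul_neg, one_mul]; rfl)

theorem negOne_comm {n q : ℕ} {d : SU n F q} (hd : mat d = -1) (u : SU n F q) :
    d * u * d⁻¹ = u := by
  rw [mul_inv_eq_iff_eq_mul]
  exact ext_mat (by rw [mat_mul, mat_mul, hd, neg_one_mul, mul_neg_one])

theorem ratioMap_negOne {q : ℕ} (hF : Fintype.card F = q ^ 2) {c : F} (hc : c * c ^ q = 1)
    {d : SU 2 F q} (hd : mat d = -1) : ratioMap hF hc d = d := by
  refine ext_mat (Matrix.ext fun i j => ?_)
  rw [mat_semi, semiMat_apply, hd]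
  fin_cases i <;> fin_cases j <;> simp [ne_zero_of_norm hc]

theorem isDiag_iff_ratio (hF : Fintype.card F = 3 ^ 2) (u : SU 2 F 3) :
    IsDiag u ↔ ratioMap hF (norm_neg_one hF) u = u := by
  obtain ⟨-, h2, -, -⟩ := three_facts hF
  constructor
  · intro h
    have h1 := h.one_zero hF
    have h0 : mat u 0 1 = 0 := h
    refine ext_mat (Matrix.ext fun i j => ?_)
    rw [mat_semi, semiMat_apply]
    fin_cases i <;> fin_cases j <;> simp [h0, h1]
  · intro h
    have := congrFun (congrFun (congrArg (fun z => mat z) h) 0) 1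
    simp [mat_semi, semiMat_apply] at this
    exact (mul_eq_zero.1 (show (2 : F) * mat u 0 1 = 0 by linear_combination -this)).resolve_left h2

section Blocks

variable {ι : Fin 2 ↪ Fin 4}

/-- A homomorphism commuting with one in which `-1` acts as `-1` is trivial. -/
theorem block_trivial_of_commute (hF : Fintype.card F = 3 ^ 2)
    (ρ ρ' : SU 2 F 3 →* Matrix (Fin 2) (Fin 2) F)
    (hu : ∀ x, (ρ x)ᵀ * (ρ x).map (fun y => y ^ 3) = 1)
    (hd : ∀ d, mat d = -1 → ρ' d = -1) (hc : ∀ x y, Commute (ρ x) (ρ' y)) (x : SU 2 F 3) :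
    ρ x = 1 := by
  obtain ⟨h3, h2, -, ν, hν, hνn⟩ := three_facts hF
  refine eq_one_of_pow_four hF ρ (fun y => ?_) x
  obtain ⟨i, hi⟩ := exists_torus hF hνn
  obtain ⟨w, hw⟩ := exists_swap (F := F) (q := 3) hF
  have hw01 : mat w 0 1 = 1 := by rw [← ap_single, hw, Pi.single_eq_same]
  have hw11 : mat w 1 1 = 0 := by rw [← ap_single, hw, Pi.single_eq_of_ne (by decide)]
  obtain ⟨e10, e11⟩ := entries_two hF w
  have hw00 : mat w 0 0 = 0 := (pow_q_eq_zero_iff hF).1 (e11.symm.trans hw11)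
  have hw10 : mat w 1 0 = -1 := by rw [e10, hw01, one_pow]
  have hν0 : ν ≠ 0 := ne_zero_of_norm hνn
  have hνi : ν⁻¹ = -ν := inv_eq_of_mul_eq_one_right (by linear_combination -hν)
  obtain ⟨n, hn⟩ := exists_negOne (F := F) hF
  have mi : mat (i * i) = -1 := by
    rw [mat_mul, hi]
    ext a b
    fin_cases a <;> fin_cases b <;> simp [hνi, hν]
  have mw : mat (w * w) = -1 := by
    rw [mat_mul]
    ext a b
    fin_cases a <;> fin_cases b <;>
      simp [Matrix.mul_apply, Fin.sum_univ_two, hw00, hw01, hw10, hw11]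
  have hanti : i * w = n * (w * i) := ext_mat (by
    rw [mat_mul, mat_mul, mat_mul, hn, hi]
    ext a b
    fin_cases a <;> fin_cases b <;>
      simp [Matrix.mul_apply, Fin.sum_univ_two, hw00, hw01, hw10, hw11, hνi])
  set I := ρ' i with hI
  set J := ρ' w with hJ
  have hII : I * I = -1 := by rw [← map_mul, hd _ mi]
  have hJJ : J * J = -1 := by rw [← map_mul, hd _ mw]
  have hIJ : I * J = -(J * I) := by rw [← map_mul, hanti, map_mul, map_mul, hd n hn, neg_one_mul]
  set M := ρ y with hM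
  have cI : M * I = I * M := (hc y i).eq
  have cJ : M * J = J * M := (hc y w).eq
  -- `M` is scalar
  have tr0 : ∀ {I J : Matrix (Fin 2) (Fin 2) F}, I * J = -(J * I) → J * J = -1 →
      I 0 0 + I 1 1 = 0 := by
    intro I J hIJ hJJ
    have h1 : J * I * J = I := by
      rw [mul_assoc, hIJ, mul_neg, ← mul_assoc, hJJ, neg_one_mul, neg_neg]
    have h2' : (J * I * J).trace = -I.trace := by
      rw [Matrix.trace_mul_comm, ← mul_assoc, hJJ, neg_one_mul, Matrix.trace_neg]
    rw [h1, Matrix.trace_fin_two] at h2'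
    exact (mul_eq_zero.1 (show (2 : F) * (I 0 0 + I 1 1) = 0 by linear_combination h2')).resolve_left h2
  have t1 := tr0 hIJ hJJ
  have t2 := tr0 (show J * I = -(I * J) by rw [hIJ, neg_neg]) hII
  obtain ⟨t, ht⟩ : ∃ t : F, t + t = M 0 0 + M 1 1 :=
    ⟨(M 0 0 + M 1 1) / 2, by field_simp; ring⟩
  set M0 := M - t • (1 : Matrix (Fin 2) (Fin 2) F) with hM0
  have t0 : M0 0 0 + M0 1 1 = 0 := by simp [hM0]; linear_combination -ht
  have polar : ∀ {A : Matrix (Fin 2) (Fin 2) F}, A 0 0 + A 1 1 = 0 → A * A = -1 →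
      M0 * A = A * M0 → ∃ c : F, M0 = c • A := by
    intro A hA hAA hcomm
    have hk : ∃ r : F, M0 * A + A * M0 = r • (1 : Matrix (Fin 2) (Fin 2) F) := by
      refine ⟨2 * M0 0 0 * A 0 0 + M0 0 1 * A 1 0 + M0 1 0 * A 0 1, ?_⟩
      have a11 : A 1 1 = -A 0 0 := by linear_combination hA
      have m11 : M0 1 1 = -M0 0 0 := by linear_combination t0
      ext a b
      fin_cases a <;> fin_cases b <;>
        simp [Matrix.mul_apply, Fin.sum_univ_two, a11, m11] <;> ring
    obtain ⟨r, hr⟩ := hk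
    rw [← hcomm, ← two_smul F] at hr
    refine ⟨-(r / 2), ?_⟩
    have h1 := congrArg (· * A) hr
    simp only [Matrix.smul_mul, mul_assoc, hAA, mul_neg_one, one_mul, smul_neg] at h1
    rw [neg_smul, eq_comm, neg_eq_iff_eq_neg, div_eq_inv_mul, mul_smul, ← h1, smul_neg, smul_smul,
      inv_mul_cancel₀ h2, one_smul]
  have c0I : M0 * I = I * M0 := by simp [hM0, sub_mul, mul_sub, cI]
  have c0J : M0 * J = J * M0 := by simp [hM0, sub_mul, mul_sub, cJ]
  obtain ⟨c, hcI⟩ := polar t1 hII c0I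
  have hc0 : c = 0 := by
    have h := c0J
    rw [hcI, Matrix.smul_mul, Matrix.mul_smul, hIJ, smul_neg] at h
    have h' : ((2 : F) * c) • (J * I) = 0 := by
      rw [mul_smul, two_smul]
      nth_rw 1 [← h]
      exact neg_add_cancel _
    rcases smul_eq_zero.1 h' with h'' | h''
    · exact (mul_eq_zero.1 h'').resolve_left h2
    · have : (J * J) * (I * I) = 0 := by
        rw [mul_assoc, ← mul_assoc J I I, h'', zero_mul, mul_zero]
      rw [hJJ, hII, neg_mul_neg, one_mul] at this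
      exact absurd this one_ne_zero
  rw [hc0, zero_smul, hM0, sub_eq_zero] at hcI
  have hu' := hu y
  rw [← hM, hcI] at hu'
  have h00 := congrFun (congrFun hu' 0) 0
  simp [Matrix.mul_apply, Fin.sum_univ_two] at h00
  rw [hcI, smul_pow, one_pow, show t ^ 4 = 1 by linear_combination h00, one_smul]

/-- A homomorphism trivial on `-1` and commuting with a ratio is trivial. -/
theorem block_trivial_of_ratio (hF : Fintype.card F = 3 ^ 2)
    (ρ : SU 2 F 3 →* Matrix (Fin 2) (Fin 2) F)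
    (hu : ∀ x, (ρ x)ᵀ * (ρ x).map (fun y => y ^ 3) = 1)
    (hd : ∀ d, mat d = -1 → ρ d = 1) {D : Matrix (Fin 2) (Fin 2) F}
    (hD : D = Matrix.diagonal ![-1, 1] ∨ D = Matrix.diagonal ![1, -1])
    (hr : ∀ x, ρ (ratioMap hF (norm_neg_one hF) x) = D * ρ x * D) (x : SU 2 F 3) : ρ x = 1 := by
  obtain ⟨h3, h2, hne, ν, hν, hνn⟩ := three_facts hF
  have hdet : ∀ y, (ρ y).det = 1 := by
    intro y
    refine eq_one_of_pow_four hF (Matrix.detMonoidHom.comp ρ) (fun z => ?_) y
    have h := congrArg Matrix.det (hu z)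
    rw [Matrix.det_mul, Matrix.det_transpose, Matrix.det_one,
      show ((ρ z).map fun y => y ^ 3).det = (ρ z).det ^ 3 from
        ((frob hF).map_det (ρ z)).symm] at h
    show (ρ z).det ^ 4 = 1
    linear_combination h
  obtain ⟨e, hDe⟩ : ∃ e : F, e * e = 1 ∧ D = Matrix.diagonal ![-e, e] := by
    rcases hD with rfl | rfl
    · exact ⟨1, one_mul 1, rfl⟩
    · exact ⟨-1, by ring, by rw [neg_neg]⟩
  obtain ⟨he, rfl⟩ := hDe
  obtain ⟨i, hi⟩ := exists_torus hF hνn
  have hinv : i⁻¹ * i = 1 := inv_mul_cancel i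
  have hν0 : ν ≠ 0 := ne_zero_of_norm hνn
  have hνi : ν⁻¹ = -ν := inv_eq_of_mul_eq_one_right (by linear_combination -hν)
  have hconj : ∀ y, ratioMap hF (norm_neg_one hF) y = i * y * i⁻¹ := by
    intro y
    rw [semi_refl_of_eq hF ![ν⁻¹, ν] (fun a => ?_) y hi]
    · refine DFunLike.congr_fun (semi_congr hF _ _ _ fun a b => ?_) y
      fin_cases a <;> fin_cases b <;> simp [hνi] <;> linear_combination
    · fin_cases a
      · show ν⁻¹ * ν⁻¹ ^ 3 = 1
        rw [inv_pow, ← mul_inv, hνn, inv_one]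
      · exact hνn
  set D := Matrix.diagonal (![-e, e] : Fin 2 → F) with hDdef
  have hDD : D * D = 1 := by
    rw [hDdef, Matrix.diagonal_mul_diagonal, ← Matrix.diagonal_one]
    congr 1
    funext a
    fin_cases a <;> simp [he]
  have hE : ∀ y, D * ρ i * ρ y = ρ y * (D * ρ i) := by
    intro y
    have h := hr y
    rw [hconj, map_mul, map_mul] at h
    calc D * ρ i * ρ y = D * (ρ i * ρ y * ρ i⁻¹) * ρ i := by
          rw [mul_assoc D (ρ i * ρ y * ρ i⁻¹), mul_assoc _ (ρ i⁻¹), ← map_mul ρ i⁻¹ i, hinv, map_one,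
            mul_one, mul_assoc]
      _ = D * D * ρ y * (D * ρ i) := by rw [h]; simp only [mul_assoc]
      _ = ρ y * (D * ρ i) := by rw [hDD, one_mul]
  have hDi : D * ρ i = ρ i * D := by
    have h := hr i
    rw [hconj, mul_inv_cancel_right] at h
    nth_rw 1 [h]
    simp only [← mul_assoc, hDD, one_mul]
  have hρii : ρ i * ρ i = 1 := by
    rw [← map_mul]
    refine hd _ ?_
    rw [mat_mul, hi]
    ext a b
    fin_cases a <;> fin_cases b <;> simp [hνi, hν]
  have hi01 : ρ i 0 1 = 0 := by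
    have h := congrFun (congrFun hDi 0) 1
    simp [hDdef, Matrix.diagonal_mul, Matrix.mul_diagonal] at h
    have : (2 : F) * e * ρ i 0 1 = 0 := by linear_combination -h
    exact (mul_eq_zero.1 this).resolve_left
      (mul_ne_zero h2 fun h0 => zero_ne_one (by rw [h0, zero_mul] at he; exact he))
  have hi10 : ρ i 1 0 = 0 := by
    have h := congrFun (congrFun hDi 1) 0
    simp [hDdef, Matrix.diagonal_mul, Matrix.mul_diagonal] at h
    have : (2 : F) * e * ρ i 1 0 = 0 := by linear_combination h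
    exact (mul_eq_zero.1 this).resolve_left
      (mul_ne_zero h2 fun h0 => zero_ne_one (by rw [h0, zero_mul] at he; exact he))
  by_cases hsc : -ρ i 0 0 = ρ i 1 1
  · exfalso
    have hd1 := hdet i
    rw [Matrix.det_fin_two, hi01, zero_mul, sub_zero, ← hsc] at hd1
    have hsq := congrFun (congrFun hρii 0) 0
    simp [Matrix.mul_apply, Fin.sum_univ_two, hi01] at hsq
    exact h2 (by linear_combination -hd1 - hsq)
  · have hdiag : ∀ y, ρ y 0 1 = 0 ∧ ρ y 1 0 = 0 := by
      intro y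
      have hne' : e * (-ρ i 0 0 - ρ i 1 1) ≠ 0 := mul_ne_zero
        (fun h0 => zero_ne_one (by rw [h0, zero_mul] at he; exact he)) (sub_ne_zero.2 hsc)
      have h01 := congrFun (congrFun (hE y) 0) 1
      have h10 := congrFun (congrFun (hE y) 1) 0
      simp [hDdef, Matrix.mul_apply, Fin.sum_univ_two, Matrix.diagonal, hi01, hi10] at h01 h10
      constructor
      · exact (mul_eq_zero.1 (show e * (-ρ i 0 0 - ρ i 1 1) * ρ y 0 1 = 0 by
          linear_combination h01)).resolve_left hne'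
      · exact (mul_eq_zero.1 (show e * (-ρ i 0 0 - ρ i 1 1) * ρ y 1 0 = 0 by
          linear_combination -h10)).resolve_left hne'
    refine eq_one_of_pow_four hF ρ (fun y => ?_) x
    obtain ⟨y01, y10⟩ := hdiag y
    have hy : ρ y = Matrix.diagonal ![ρ y 0 0, ρ y 1 1] := by
      ext a b
      fin_cases a <;> fin_cases b <;> simp [y01, y10]
    have hu' := hu y
    have h00 := congrFun (congrFun hu' 0) 0
    have h11 := congrFun (congrFun hu' 1) 1
    simp [Matrix.mul_apply, Fin.sum_univ_two, y01, y10] at h00 h11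
    rw [hy, Matrix.diagonal_pow, ← Matrix.diagonal_one]
    congr 1
    funext a
    fin_cases a
    · show ρ y 0 0 ^ 4 = 1
      linear_combination h00
    · show ρ y 1 1 ^ 4 = 1
      linear_combination h11

end Blocks

end Cfsg.Agent.Cores.Phan
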