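import Mathlib
import Cfsg.Agent.Cores.Phan.ThreeBase
import Cfsg.Agent.Unitary.Isotropic

/-!
Subgroups `SU₂(q)` of `SU₃(q)` are blocks; blocks with commuting cyclic tori of order `q + 1` are
orthogonal.
-/

set_option autoImplicit false
set_option linter.unusedSectionVars false

namespace Cfsg.Agent.Cores.Phan

open Cfsg Cfsg.Agent.Unitary Matrix

variable {F : Type*} [Field F] [Fintype F] {n q : ℕ}

/-- Expansion in an orthonormal basis. -/
theorem on_expand (hF : Fintype.card F = q ^ 2) {f : Fin n → Fin n → F} (hf : ON q f)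
    (x : Fin n → F) : ∑ i, hermForm n F q x (f i) • f i = x := by
  refine hf.proj_eq_self hF ?_
  have : Submodule.span F (Set.range f) = ⊤ := by
    refine Submodule.eq_top_of_finrank_eq ?_
    rw [hf.finrank_span, Module.finrank_fin_fun, Fintype.card_fin]
  rw [this]
  trivial

/-- An element of `SU₂` of order dividing `q + 1`, but not two, has two orthogonal eigenvectors. -/
theorem exists_eigen_two (hF : Fintype.card F = q ^ 2) {g : SU 2 F q} (hg : g ^ (q + 1) = 1)
    (hg2 : g * g ≠ 1) :
    ∃ (f : Fin 2 → Fin 2 → F) (l : F), ON q f ∧ l * l ≠ 1 ∧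
      ap g (f 0) = l • f 0 ∧ ap g (f 1) = l⁻¹ • f 1 := by
  classical
  have hpow : mat g ^ (q + 1) = 1 := by
    rw [show mat g ^ (q + 1) = mat (g ^ (q + 1)) from rfl, hg]
    rfl
  -- an eigenvalue
  obtain ⟨l, v, hv0, hv⟩ : ∃ (l : F) (v : Fin 2 → F), v ≠ 0 ∧ ap g v = l • v := by
    have hpoly : ∏ a : F, (Polynomial.X - Polynomial.C a) =
        Polynomial.X ^ Fintype.card F - Polynomial.X := by
      have h1 : 1 < Fintype.card F := Fintype.one_lt_card
      have := Polynomial.prod_multiset_X_sub_C_of_monic_of_roots_card_eq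
        (p := (Polynomial.X ^ Fintype.card F - Polynomial.X : Polynomial F))
        (Polynomial.monic_X_pow_sub (by rw [Polynomial.degree_X]; exact_mod_cast h1))
        (by rw [FiniteField.roots_X_pow_card_sub_X,
          FiniteField.X_pow_card_sub_X_natDegree_eq F h1]; rfl)
      rw [FiniteField.roots_X_pow_card_sub_X] at this
      exact this
    have hz : (Polynomial.aeval (mat g)) (∏ a : F, (Polynomial.X - Polynomial.C a)) = 0 := by
      rw [hpoly, map_sub, map_pow, Polynomial.aeval_X, hF]
      have : q ^ 2 = (q + 1) * (q - 1) + 1 := by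
        obtain ⟨m, rfl⟩ : ∃ m, q = m + 1 := ⟨q - 1, by have := two_le_q hF; omega⟩
        simp only [Nat.add_sub_cancel]
        ring
      rw [this, pow_succ, pow_mul, hpow, one_pow, one_mul, sub_self]
    have hdet : ∏ a : F, ((Polynomial.aeval (mat g)) (Polynomial.X - Polynomial.C a)).det = 0 := by
      have := map_prod (Matrix.detMonoidHom.comp
        (Polynomial.aeval (R := F) (mat g)).toRingHom.toMonoidHom)
        (fun a : F => (Polynomial.X - Polynomial.C a)) Finset.univ
      refine this.symm.trans ?_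
      show ((Polynomial.aeval (mat g)) _).det = 0
      rw [hz, Matrix.det_zero]
    obtain ⟨a, -, ha⟩ := Finset.prod_eq_zero_iff.1 hdet
    obtain ⟨v, hv0, hv⟩ := Matrix.exists_mulVec_eq_zero_iff.2 ha
    refine ⟨a, v, hv0, ?_⟩
    rw [map_sub, Polynomial.aeval_X, Polynomial.aeval_C, Matrix.sub_mulVec, sub_eq_zero] at hv
    rw [ap_def, hv, Algebra.algebraMap_eq_smul_one, Matrix.smul_mulVec, Matrix.one_mulVec]
  have hl : l ^ (q + 1) = 1 := by
    have : ∀ m : ℕ, ap (g ^ m) v = l ^ m • v := by
      intro m
      induction m with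
      | zero => simp [ap_one]
      | succ m ih => rw [pow_succ', ap_mul, ih, ap_smul, hv, smul_smul, pow_succ]
    have h := this (q + 1)
    rw [hg, ap_one] at h
    exact smul_left_injective F hv0 (h.symm.trans (one_smul F v).symm)
  have hl0 : l ≠ 0 := fun h0 => by simp [h0] at hl
  have hd : (mat g).det = 1 := (g : SpecialLinearGroup (Fin 2) F).2
  -- the eigenvalue of the quotient
  have hother : ∀ (w : Fin 2 → F) (a b : F), LinearIndependent F ![v, w] →
      ap g w = a • v + b • w → l * b = 1 := by
    intro w a b hind hw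
    let P : Matrix (Fin 2) (Fin 2) F := Matrix.of fun i j => (![v, w] : Fin 2 → Fin 2 → F) j i
    have hP : P.det ≠ 0 := by
      intro h0
      obtain ⟨y, hy0, hy⟩ := Matrix.exists_mulVec_eq_zero_iff.2 h0
      refine hy0 (funext fun i => Fintype.linearIndependent_iff.1 hind y ?_ i)
      refine Eq.trans ?_ hy
      ext i
      simp [P, Matrix.mulVec, dotProduct, Fin.sum_univ_two, mul_comm]
    have hgP : mat g * P = P * !![l, a; 0, b] := by
      have hv' := congrFun hv
      have hw' := congrFun hw
      ext i j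
      fin_cases j
      · simpa [P, Matrix.mul_apply, Fin.sum_univ_two, ap_def, Matrix.mulVec, dotProduct, mul_comm]
          using hv' i
      · simpa [P, Matrix.mul_apply, Fin.sum_univ_two, ap_def, Matrix.mulVec, dotProduct, mul_comm]
          using hw' i
    have h := congrArg Matrix.det hgP
    rw [Matrix.det_mul, Matrix.det_mul, hd, one_mul, Matrix.det_fin_two_of, mul_zero, sub_zero] at h
    exact (mul_eq_left₀ hP).1 h.symm
  by_cases hiso : hermForm 2 F q v v = 0
  · exfalso
    obtain ⟨w, -, hw, hwv⟩ := exists_partner hF (nondeg_top hF) Submodule.mem_top hv0 hiso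
    have hind : LinearIndependent F ![v, w] := indep_pair hF hiso
      (by rw [← herm_swap hF w v, hwv, one_pow]; exact one_ne_zero)
    obtain ⟨a, b, hab⟩ : ∃ a b : F, ap g w = a • v + b • w := by
      have htop : Submodule.span F (Set.range ![v, w]) = ⊤ := by
        refine Submodule.eq_top_of_finrank_eq ?_
        rw [finrank_span_eq_card hind, Module.finrank_fin_fun, Fintype.card_fin]
      obtain ⟨c, hc⟩ := (Submodule.mem_span_range_iff_exists_fun F).1
        (htop ▸ Submodule.mem_top (x := ap g w))
      refine ⟨c 0, c 1, ?_⟩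
      rw [← hc, Fin.sum_univ_two]
      rfl
    have hb := hother w a b hind hab
    have h := herm_ap g w v
    rw [hwv, hv, hab, herm_smul_right, herm_add_left, herm_smul_left, herm_smul_left, hiso, hwv] at h
    -- so the eigenvalue is its own inverse
    have hbl : b = l := by
      have hlq : l * l ^ q = 1 := by rw [← pow_succ', hl]
      have : b * l ^ q = 1 := by linear_combination h
      exact mul_right_cancel₀ (pow_ne_zero q hl0) (this.trans hlq.symm)
    rw [hbl] at hb hab
    have hm : ∀ m : ℕ, ap (g ^ (m + 1)) w = (((m + 1 : ℕ) : F) * a * l ^ m) • v + l ^ (m + 1) • w := by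
      intro m
      induction m with
      | zero => simp [hab]
      | succ m ih =>
        rw [pow_succ' g (m + 1), ap_mul, ih, ap_add, ap_smul, ap_smul, hv, hab]
        rw [smul_add, smul_smul, smul_smul, smul_smul, ← add_assoc, ← add_smul]
        push_cast
        congr 2 <;> ring
    have h1 := hm q
    rw [hg, ap_one, hl, one_smul, Nat.cast_add, natCast_q_eq_zero hF, Nat.cast_one, zero_add,
      one_mul] at h1
    have ha0 : a = 0 := by
      have h' := (add_eq_right.1 h1.symm)
      rcases smul_eq_zero.1 h' with h'' | h''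
      · exact (mul_eq_zero.1 h'').resolve_right (pow_ne_zero q hl0)
      · exact absurd h'' hv0
    rw [ha0, zero_smul, zero_add] at hab
    refine hg2 (ap_ext fun x => ?_)
    have htop : Submodule.span F (Set.range ![v, w]) = ⊤ := by
      refine Submodule.eq_top_of_finrank_eq ?_
      rw [finrank_span_eq_card hind, Module.finrank_fin_fun, Fintype.card_fin]
    obtain ⟨c, hc⟩ := (Submodule.mem_span_range_iff_exists_fun F).1
      (htop ▸ Submodule.mem_top (x := x))
    rw [← hc, ap_one, Fin.sum_univ_two, ap_mul, ap_add, ap_smul, ap_smul]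
    show ap g (c 0 • ap g v + c 1 • ap g w) = c 0 • v + c 1 • w
    rw [hv, hab, ap_add, ap_smul, ap_smul, ap_smul, ap_smul, hv, hab]
    simp only [smul_smul l l, hb, one_smul]
  · obtain ⟨k, hk⟩ := exists_norm_eq hF (a := (hermForm 2 F q v v)⁻¹)
      (by rw [inv_pow, herm_self_fixed hF])
    have he : hermForm 2 F q (k • v) (k • v) = 1 := by rw [herm_self_smul, hk, inv_mul_cancel₀ hiso]
    have hge : ap g (k • v) = l • (k • v) := by rw [ap_smul, hv, smul_comm]
    obtain ⟨w, hw, hwe⟩ := exists_unit_perp_one hF le_rfl he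
    have hon : ON q (![k • v, w] : Fin 2 → Fin 2 → F) :=
      on_pair hF he hw ((herm_eq_zero_symm hF).1 hwe)
    have h0 : hermForm 2 F q (ap g w) (k • v) = 0 := by
      have h := herm_ap g w (k • v)
      rw [hge, herm_smul_right, hwe] at h
      exact (mul_eq_zero.1 h).resolve_left (pow_ne_zero q hl0)
    obtain ⟨b, hb⟩ : ∃ b, ap g w = b • w := by
      refine ⟨hermForm 2 F q (ap g w) w, ?_⟩
      have h := on_expand hF hon (ap g w)
      rw [Fin.sum_univ_two] at h
      rw [Matrix.cons_val_zero, Matrix.cons_val_one, Matrix.cons_val_zero, h0, zero_smul, zero_add] at h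
      exact h.symm
    have hind : LinearIndependent F ![v, w] := by
      have := hon.linearIndependent
      rw [LinearIndependent.pair_iff] at this ⊢
      intro s t hst
      have hk0 : k ≠ 0 := fun h0 => hiso (inv_eq_zero.1 (by rw [← hk, h0, zero_mul]))
      obtain ⟨h1, h2⟩ := this (s / k) t (by rw [smul_smul, div_mul_cancel₀ _ hk0]; exact hst)
      exact ⟨(div_eq_zero_iff.1 h1).resolve_right hk0, h2⟩
    have hlb := hother w 0 b hind (by rw [hb, zero_smul, zero_add])
    have hbl : b = l⁻¹ := eq_inv_of_mul_eq_one_right hlb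
    refine ⟨![k • v, w], l, hon, fun hll => hg2 (ap_ext fun x => ?_), hge, by rw [← hbl]; exact hb⟩
    rw [← on_expand hF hon x, ap_one, Fin.sum_univ_two, ap_mul]
    simp only [Matrix.cons_val_zero, Matrix.cons_val_one, ap_add, ap_smul, hv, hb, hbl,
      inv_eq_of_mul_eq_one_right hll, smul_smul]
    have e : ∀ s : F, s * l * l = s := fun s => by rw [mul_assoc, hll, mul_one]
    simp only [e]

/-- An involution in characteristic two is a transvection. -/
theorem exists_centre (hF : Fintype.card F = q ^ 2) (h2 : (2 : F) = 0) {x : SU 3 F q}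
    (hx : x * x = 1) (hx1 : x ≠ 1) :
    ∃ p : Fin 3 → F, p ≠ 0 ∧ hermForm 3 F q p p = 0 ∧ (∀ v, ∃ c : F, ap x v = v + c • p) ∧
      ∀ v, ap x v = v ↔ hermForm 3 F q v p = 0 := by
  set N := (mat x - 1).mulVecLin with hN
  have hNv : ∀ v, N v = ap x v - v := fun v => by
    rw [hN, Matrix.mulVecLin_apply, Matrix.sub_mulVec, Matrix.one_mulVec]; rfl
  have htwo : ∀ v : Fin 3 → F, v + v = 0 := fun v => by rw [← two_smul F, h2, zero_smul]
  have hle : LinearMap.range N ≤ LinearMap.ker N := by
    rintro _ ⟨v, rfl⟩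
    rw [LinearMap.mem_ker, hNv, hNv, ap_def x (_ - _), Matrix.mulVec_sub, ← ap_def, ← ap_def,
      ← ap_mul, hx, ap_one,
      show v - ap x v - (ap x v - v) = (v + v) - (ap x v + ap x v) by abel, htwo, htwo, sub_zero]
  have hdim := LinearMap.finrank_range_add_finrank_ker N
  rw [Module.finrank_fin_fun] at hdim
  have hr := Submodule.finrank_mono hle
  have hne : LinearMap.range N ≠ ⊥ := by
    intro hbot
    refine hx1 (ap_ext fun v => ?_)
    have : N v ∈ LinearMap.range N := ⟨v, rfl⟩
    rw [hbot, Submodule.mem_bot, hNv, sub_eq_zero] at this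
    rw [this, ap_one]
  obtain ⟨p, hp, hp0⟩ := (LinearMap.range N).exists_mem_ne_zero_of_ne_bot hne
  have hspan : ∀ v, ∃ c : F, ap x v = v + c • p := by
    intro v
    have h1 : Module.finrank F (LinearMap.range N) = 1 := by
      have : 0 < Module.finrank F (LinearMap.range N) :=
        Nat.pos_of_ne_zero fun h0 => hne (Submodule.finrank_eq_zero.1 h0)
      omega
    obtain ⟨c, hc⟩ := exists_smul_eq_of_finrank_eq_one h1 (x := ⟨p, hp⟩)
      (fun h0 => hp0 (congrArg Subtype.val h0)) ⟨N v, v, rfl⟩
    refine ⟨c, ?_⟩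
    have h' : c • p = ap x v - v := (congrArg Subtype.val hc).trans (hNv v)
    rw [h', add_sub_cancel]
  have hperp : ∀ w, ap x w = w → hermForm 3 F q w p = 0 := by
    intro w hw
    obtain ⟨v, hv⟩ := hp
    have h := herm_ap x w v
    rw [hw] at h
    rw [← hv, hNv, herm_sub_right hF, h, sub_self]
  have hpp : hermForm 3 F q p p = 0 := by
    refine hperp p ?_
    have := hle hp
    rwa [LinearMap.mem_ker, hNv, sub_eq_zero] at this
  refine ⟨p, hp0, hpp, hspan, fun v => ⟨hperp v, fun hv => ?_⟩⟩
  obtain ⟨c, hc⟩ := hspan v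
  have hc0 : c = 0 := by
    by_contra hc0
    refine hp0 (eq_zero_of_forall_right hF fun z => ?_)
    obtain ⟨d, hd⟩ := hspan z
    have h := herm_ap x v z
    rw [hc, hd, herm_add_left, herm_add_right hF, herm_add_right hF, herm_smul_left,
      herm_smul_left, herm_smul_right, herm_smul_right, hv, hpp] at h
    exact (mul_eq_zero.1 (show c * hermForm 3 F q p z = 0 by linear_combination h)).resolve_left hc0
  rw [hc, hc0, zero_smul, add_zero]

/-- Orthogonal isotropic vectors of a three-space are proportional. -/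
theorem iso_orth_smul (hF : Fintype.card F = q ^ 2) {p r : Fin 3 → F} (hp0 : p ≠ 0)
    (hp : hermForm 3 F q p p = 0) (hr : hermForm 3 F q r r = 0)
    (hrp : hermForm 3 F q r p = 0) : ∃ c : F, r = c • p := by
  obtain ⟨w, -, hw, hwp⟩ := exists_partner hF (nondeg_top hF) Submodule.mem_top hp0 hp
  have hpw : hermForm 3 F q p w ≠ 0 := by rw [← herm_swap hF w p, hwp, one_pow]; exact one_ne_zero
  have hP := nondeg_pair hF hp hw hpw
  have hK := inf_perp_nondeg hF (nondeg_top hF) hP le_top
  have hd := inf_perp_finrank hF hP (W := (⊤ : Submodule F (Fin 3 → F))) le_top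
  rw [finrank_pair (indep_pair hF hp hpw), finrank_top, Module.finrank_fin_fun] at hd
  refine ⟨hermForm 3 F q r w, ?_⟩
  set t := r - hermForm 3 F q r w • p with ht
  have htp : hermForm 3 F q t p = 0 := by
    rw [ht, herm_sub_left, herm_smul_left, hrp, hp, mul_zero, sub_zero]
  have htw : hermForm 3 F q t w = 0 := by
    rw [ht, herm_sub_left, herm_smul_left, ← herm_swap hF w p, hwp, one_pow, mul_one, sub_self]
  have htt : hermForm 3 F q t t = 0 := by
    nth_rw 2 [ht]
    rw [herm_sub_right hF, herm_smul_right, htp, mul_zero, sub_zero, ht, herm_sub_left, hr,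
      herm_smul_left, (herm_eq_zero_symm hF).1 hrp, mul_zero, sub_zero]
  have htK : t ∈ (⊤ : Submodule F (Fin 3 → F)) ⊓
      Unitary.perp q (Submodule.span F ({p, w} : Set (Fin 3 → F)) : Set (Fin 3 → F)) := by
    refine ⟨Submodule.mem_top, ?_⟩
    rw [perp_span hF]
    exact mem_perp_pair.2 ⟨htp, htw⟩
  have hK1 : Module.finrank F ↥((⊤ : Submodule F (Fin 3 → F)) ⊓
      Unitary.perp q (Submodule.span F ({p, w} : Set (Fin 3 → F)) : Set (Fin 3 → F))) = 1 := by
    omega
  have ht0 : t = 0 := by
    refine hK t htK fun u hu => ?_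
    by_contra h
    have ht0 : t ≠ 0 := fun h0 => h (by rw [h0, herm_zero_left])
    obtain ⟨c, hc⟩ := exists_smul_eq_of_finrank_eq_one
      hK1 (x := ⟨t, htK⟩)
      (fun h0 => ht0 (congrArg Subtype.val h0)) ⟨u, hu⟩
    apply h
    rw [← show c • t = u from congrArg Subtype.val hc, herm_smul_right, htt, mul_zero]
  exact sub_eq_zero.1 ht0

/-- A subgroup `SU₂(q)` of `SU₃(q)` fixes a vector of norm one. -/
theorem exists_fixed_unit (hF : Fintype.card F = q ^ 2) (hq : 4 ≤ q) {φ : SU 2 F q →* SU 3 F q}
    (hφ : Function.Injective φ) :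
    ∃ e : Fin 3 → F, hermForm 3 F q e e = 1 ∧ ∀ u, ap (φ u) e = e := by
  classical
  obtain ⟨P, eK, -⟩ := exists_frame_equiv hF
  have hfin : Finite (fixK hF) := Subtype.finite
  by_cases h2 : (2 : F) = 0
  · let T := fun (i j : Fin 2) (hij : i ≠ j) (c : fixK hF) =>
      (SpecialLinearGroup.transvection hij c : SpecialLinearGroup (Fin 2) (fixK hF))
    have h2K : (2 : fixK hF) = 0 := Subtype.ext (by push_cast; exact h2)
    set ρ := φ.comp eK.toMonoidHom with hρdef
    have hρ : Function.Injective ρ := hφ.comp eK.injective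
    have hinv : ∀ i j (hij : i ≠ j) c, ρ (T i j hij c) * ρ (T i j hij c) = 1 := by
      intro i j hij c
      rw [← map_mul, show T i j hij c * T i j hij c = 1 from Subtype.ext ?_, map_one]
      show Matrix.transvection i j c * Matrix.transvection i j c = 1
      rw [Matrix.transvection_mul_transvection_same _ _ hij, ← two_mul, h2K, zero_mul,
        Matrix.transvection_zero]
    have hne : ∀ i j (hij : i ≠ j), ρ (T i j hij 1) ≠ 1 := by
      intro i j hij h
      have h' : T i j hij 1 = 1 := hρ (h.trans (map_one ρ).symm)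
      have := congrFun (congrFun (congrArg Subtype.val h') i) j
      simp [T, Matrix.SpecialLinearGroup.transvection_coe, hij] at this
    have hcomm : ∀ i j (hij : i ≠ j) (c : fixK hF), Commute (ρ (T i j hij 1)) (ρ (T i j hij c)) := by
      intro i j hij c
      refine (show Commute (T i j hij 1) (T i j hij c) from Subtype.ext ?_).map ρ
      show Matrix.transvection i j 1 * Matrix.transvection i j c =
        Matrix.transvection i j c * Matrix.transvection i j 1
      rw [Matrix.transvection_mul_transvection_same _ _ hij,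
        Matrix.transvection_mul_transvection_same _ _ hij, add_comm]
    -- a root group has one centre
    have hroot : ∀ i j (hij : i ≠ j), ∃ p : Fin 3 → F, p ≠ 0 ∧ hermForm 3 F q p p = 0 ∧
        (∀ v, ∃ c : F, ap (ρ (T i j hij 1)) v = v + c • p) ∧
        (∀ v, ap (ρ (T i j hij 1)) v = v ↔ hermForm 3 F q v p = 0) ∧
        ∀ c v, hermForm 3 F q v p = 0 → ap (ρ (T i j hij c)) v = v := by
      intro i j hij
      obtain ⟨p, hp0, hpp, hp, hfix⟩ := exists_centre hF h2 (hinv i j hij 1) (hne i j hij)
      refine ⟨p, hp0, hpp, hp, hfix, fun c v hv => ?_⟩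
      by_cases h1 : ρ (T i j hij c) = 1
      · rw [h1, ap_one]
      obtain ⟨r, hr0, hrr, hr, hrfix⟩ := exists_centre hF h2 (hinv i j hij c) h1
      suffices hdep : ∃ a : F, a ≠ 0 ∧ r = a • p by
        obtain ⟨a, -, rfl⟩ := hdep
        exact (hrfix v).2 (by rw [herm_smul_right, hv, mul_zero])
      set x := ρ (T i j hij 1)
      set y := ρ (T i j hij c)
      obtain ⟨z, hz⟩ : ∃ z, hermForm 3 F q z r ≠ 0 := by
        by_contra hcon
        push Not at hcon
        exact hr0 (eq_zero_of_forall_left hF hcon)
      obtain ⟨d, hd⟩ := hr z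
      obtain ⟨d', hd'⟩ := hr (ap x z)
      have hd0 : d ≠ 0 := fun h0 => hz ((hrfix z).1 (by rw [hd, h0, zero_smul, add_zero]))
      have hxy : ap x (ap y z) = ap y (ap x z) := by
        rw [← ap_mul, (hcomm i j hij c).eq, ap_mul]
      rw [hd, hd', ap_add, ap_smul, add_right_inj] at hxy
      obtain ⟨b, hb⟩ := hp r
      rw [hb] at hxy
      by_cases hb0 : b = 0
      · rw [hb0, zero_smul, add_zero] at hb
        obtain ⟨a, rfl⟩ := iso_orth_smul hF hp0 hpp hrr ((hfix r).1 hb)
        exact ⟨a, fun h0 => hr0 (by rw [h0, zero_smul]), rfl⟩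
      · have hne' : d' - d ≠ 0 := by
          intro h0
          rw [sub_eq_zero.1 h0, smul_add, add_eq_left, smul_smul, smul_eq_zero,
            or_iff_left hp0] at hxy
          exact (mul_ne_zero hd0 hb0) hxy
        refine ⟨(d * b) / (d' - d), div_ne_zero (mul_ne_zero hd0 hb0) hne', ?_⟩
        rw [div_eq_inv_mul, mul_smul, eq_inv_smul_iff₀ hne', sub_smul, ← hxy, smul_add, smul_smul]
        abel
    obtain ⟨p, hp0, hpp, hp, hpfix, hpall⟩ := hroot 0 1 (by decide)
    obtain ⟨r, hr0, hrr, hr, hrfix, hrall⟩ := hroot 1 0 (by decide)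
    have hpr : hermForm 3 F q p r ≠ 0 := by
      intro h0
      obtain ⟨a, rfl⟩ := iso_orth_smul hF hp0 hpp hrr ((herm_eq_zero_symm hF).1 h0)
      have hxy : ρ (T 0 1 (by decide) 1 * T 1 0 (by decide) 1) =
          ρ (T 1 0 (by decide) 1 * T 0 1 (by decide) 1) := by
        refine ap_ext fun v => ?_
        rw [map_mul, map_mul, ap_mul, ap_mul]
        obtain ⟨c, hc⟩ := hp v
        obtain ⟨d, hd⟩ := hr v
        rw [hc, hd, ap_add, ap_add, ap_smul, ap_smul, ap_smul, hc, hd,
          (hpfix p).2 hpp, (hrfix p).2 (by rw [herm_smul_right, hpp, mul_zero])]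
        abel
      have h' := congrFun (congrFun (congrArg Subtype.val (hρ hxy)) 0) 0
      simp [T, Matrix.SpecialLinearGroup.transvection_coe, Matrix.mul_apply, Fin.sum_univ_two] at h'
    have hP := nondeg_pair hF hpp hrr hpr
    have hK := inf_perp_nondeg hF (nondeg_top hF) hP le_top
    have hdK := inf_perp_finrank hF hP (W := (⊤ : Submodule F (Fin 3 → F))) le_top
    rw [finrank_pair (indep_pair hF hpp hpr), finrank_top, Module.finrank_fin_fun] at hdK
    obtain ⟨e, he, he1⟩ := exists_norm_one hF hK (ne_bot_of_finrank (by omega))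
    have he' := he.2
    rw [perp_span hF] at he'
    obtain ⟨hep, her⟩ := mem_perp_pair.1 he'
    refine ⟨e, he1, fun u => ?_⟩
    let S : Subgroup (SpecialLinearGroup (Fin 2) (fixK hF)) :=
      { carrier := {s | ap (ρ s) e = e}
        one_mem' := by simp [ap_one]
        mul_mem' := fun {s t} (hs : ap (ρ s) e = e) (ht : ap (ρ t) e = e) => by
          show ap (ρ (s * t)) e = e
          rw [map_mul, ap_mul, ht, hs]
        inv_mem' := fun {s} (hs : ap (ρ s) e = e) => by
          show ap (ρ s⁻¹) e = e
          conv_lhs => rw [← hs, map_inv]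
          rw [ap_inv_ap] }
    have hS : S = ⊤ := Cfsg.Agent.Linear.eq_top_of_transvection_mem fun i j hij c => by
      obtain ⟨rfl, rfl⟩ | ⟨rfl, rfl⟩ : (i = 0 ∧ j = 1) ∨ (i = 1 ∧ j = 0) := by
        fin_cases i <;> fin_cases j <;> simp_all
      · exact hpall c e hep
      · exact hrall c e her
    have : eK.symm u ∈ S := hS ▸ Subgroup.mem_top _
    have h' : ap (φ (eK (eK.symm u))) e = e := this
    rwa [eK.apply_symm_apply] at h'
  · obtain ⟨d, hd⟩ := exists_negOne (F := F) hF
    set z := φ d with hzdef
    have hzz : z * z = 1 := by rw [← map_mul, negOne_mul_self hd, map_one]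
    obtain ⟨f, hf, s, hs⟩ := exists_eigen_basis hF h2 (z := fun _ : Fin 3 => z) (fun _ => hzz)
      (fun _ _ => Commute.refl z)
    obtain ⟨g, hg⟩ := exists_conj_diag (l := 2) hF hf
      (c := fun a i => if s a i then (-1 : F) else 1) hs
    have hne1 : (-1 : F) ≠ 1 := fun h => h2 (by linear_combination -h)
    obtain ⟨i, hi, hrest⟩ : ∃ i, s 0 i = false ∧ ∀ j, j ≠ i → s 0 j = true := by
      have hpar : ∀ t : Fin 3 → Bool, xor (xor (t 0) (t 1)) (t 2) = false →
          (∃ i, t i = true) → ∃ i, t i = false ∧ ∀ j, j ≠ i → t j = true := by decide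
      refine hpar (s 0) ?_ ?_
      · have hdet : (mat (g * z * g⁻¹)).det = 1 :=
          (g * z * g⁻¹ : SpecialLinearGroup (Fin 3) F).2
        rw [hg 0, Matrix.det_diagonal, Fin.prod_univ_three] at hdet
        revert hdet
        cases s 0 0 <;> cases s 0 1 <;> cases s 0 2 <;> simp [hne1]
      · by_contra hcon
        push Not at hcon
        simp only [Bool.not_eq_true] at hcon
        have hz1 : z = 1 := ap_ext fun v => by
          rw [← on_expand hF hf v, ap_one]
          simp only [Fin.sum_univ_three, ap_add, ap_smul, hs 0, hcon, Bool.false_eq_true, if_false,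
            one_smul]
        have hd1 : d = 1 := hφ (hz1.trans (map_one φ).symm)
        rw [hd1] at hd
        have h00 := congrFun (congrFun hd 0) 0
        simp [mat] at h00
        exact hne1 h00.symm
    have hline : ∀ u, ap (φ u) (f i) = hermForm 3 F q (ap (φ u) (f i)) (f i) • f i := by
      intro u
      have hzu : ap z (ap (φ u) (f i)) = ap (φ u) (f i) := by
        rw [← ap_mul, ← map_mul, show d * u = u * d from mul_inv_eq_iff_eq_mul.1 (negOne_comm hd u),
          map_mul, ap_mul, hs 0, hi]
        simp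
      conv_lhs => rw [← on_expand hF hf (ap (φ u) (f i))]
      refine Finset.sum_eq_single i (fun j _ hj => ?_) (fun h => absurd (Finset.mem_univ i) h)
      have h := herm_ap z (ap (φ u) (f i)) (f j)
      rw [hzu, hs 0, hrest j hj, if_pos rfl, herm_smul_right, neg_pow_q hF, one_pow] at h
      have : hermForm 3 F q (ap (φ u) (f i)) (f j) = 0 :=
        (mul_eq_zero.1 (show (2 : F) * hermForm 3 F q (ap (φ u) (f i)) (f j) = 0 by
          linear_combination -h)).resolve_left h2
      rw [this, zero_smul]
    have hfi : hermForm 3 F q (f i) (f i) = 1 := by rw [hf]; exact if_pos rfl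
    let c : SU 2 F q →* F :=
      { toFun := fun u => hermForm 3 F q (ap (φ u) (f i)) (f i)
        map_one' := by rw [map_one, ap_one, hfi]
        map_mul' := fun u v => by
          rw [map_mul, ap_mul, hline v, ap_smul, hline u, herm_smul_left, herm_smul_left,
            herm_smul_left, hfi, mul_one, mul_one]
          ring }
    refine ⟨f i, hfi, fun u => ?_⟩
    have hK4 : 4 ≤ Nat.card (fixK hF) := by rw [card_fixK hF]; exact hq
    have hperf : commutator (SpecialLinearGroup (Fin 2) (fixK hF)) = ⊤ :=
      Cfsg.Agent.Linear.commutator_SL_eq_top_of_card (Or.inr hK4)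
    have hker := Abelianization.commutator_subset_ker (c.comp eK.toMonoidHom).toHomUnits
    rw [hperf] at hker
    have hu : (c.comp eK.toMonoidHom).toHomUnits (eK.symm u) = 1 :=
      MonoidHom.mem_ker.1 (hker (Subgroup.mem_top _))
    have hc : c (eK (eK.symm u)) = 1 := congrArg Units.val hu
    rw [eK.apply_symm_apply] at hc
    rw [hline u, show hermForm 3 F q (ap (φ u) (f i)) (f i) = 1 from hc, one_smul]

end Cfsg.Agent.Cores.Phan
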