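import Mathlib
import Cfsg.Agent.Cores.Phan.ThreeBase

/-!
Three blocks of `SU₂(3)` in `SU₄(3)`: the configuration.
-/

set_option autoImplicit false
set_option linter.unusedSectionVars false

namespace Cfsg.Agent.Cores.Phan

open Cfsg Cfsg.Agent.Unitary Matrix

variable {F : Type*} [Field F] [Fintype F]

/-- A sign. -/
def sgn (F : Type*) [Field F] (b : Bool) : F := if b then -1 else 1

theorem sgn_norm {q : ℕ} (hF : Fintype.card F = q ^ 2) (b : Bool) :
    sgn F b * sgn F b ^ q = 1 := by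
  cases b
  · simp [sgn]
  · exact norm_neg_one hF

theorem sgn_mul_self (b : Bool) : sgn F b * sgn F b = 1 := by cases b <;> simp [sgn]

theorem sgn_not (b : Bool) : sgn F (!b) = -sgn F b := by cases b <;> simp [sgn]

theorem sgn_xor (a b : Bool) : sgn F (xor a b) = sgn F a * sgn F b := by
  cases a <;> cases b <;> simp [sgn]

theorem sgn_injective (hne : (-1 : F) ≠ 1) : Function.Injective (sgn F) := by
  intro a b h
  cases a <;> cases b <;> simp [sgn] at h ⊢
  · exact hne h.symm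
  · exact hne h

theorem entry_zero {n q : ℕ} {z g : SU n F q} {c : Fin n → F} (hz : mat z = Matrix.diagonal c)
    (hc : Commute z g) {i j : Fin n} (hij : c i ≠ c j) : mat g i j = 0 := by
  have h := congrFun (congrFun (congrArg (fun z => mat z) hc.eq) i) j
  simp only [mat_mul, hz, Matrix.diagonal_mul, Matrix.mul_diagonal] at h
  exact (mul_eq_zero.1 (show (c i - c j) * mat g i j = 0 by linear_combination h)).resolve_left
    (sub_ne_zero.2 hij)

/-- Diagonal involutions equal up to a sign conjugate in the same way. -/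
theorem conj_eq_of_sign {n q : ℕ} (hF : Fintype.card F = q ^ 2) {z y : SU n F q} {c c' : Fin n → F}
    (hc : ∀ i, c i * c i ^ q = 1) (hc' : ∀ i, c' i * c' i ^ q = 1)
    (hz : mat z = Matrix.diagonal c) (hy : mat y = Matrix.diagonal c')
    (h : ∀ i j, c i * c' j = c' i * c j) (x : SU n F q) : z * x * z⁻¹ = y * x * y⁻¹ := by
  rw [semi_refl_of_eq hF c hc x hz, semi_refl_of_eq hF c' hc' x hy,
    semi_congr hF hc hc' (RingEquiv.refl F) h]

/-- A homomorphism trivial on the complementary block lies in the block. -/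
theorem exists_factor {q : ℕ} (hF : Fintype.card F = q ^ 2) (ι ι' : Fin 2 ↪ Fin 4)
    (hcov : ∀ i, (∀ b, ι b ≠ i) → ∃ a, ι' a = i) {A : Type*} [Group A] (ψ : A →* SU 4 F q)
    (h : ∀ x a i, (∀ b, ι' b ≠ i) → mat (ψ x) (ι' a) i = 0 ∧ mat (ψ x) i (ι' a) = 0)
    (htriv : ∀ x, blockHom ι' ψ h x = 1) : ∃ α : A →* SU 2 F q, (emb hF ι).comp α = ψ := by
  have hex : ∀ x, ∃ g, emb hF ι g = ψ x := by
    intro x
    refine exists_emb_eq hF ι fun i hi => ?_
    obtain ⟨a, rfl⟩ := hcov i hi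
    funext l
    rw [ap_single]
    by_cases hl : ∀ b, ι' b ≠ l
    · rw [(h x a l hl).2, Pi.single_eq_of_ne fun e => hl a e.symm]
    · push Not at hl
      obtain ⟨b, rfl⟩ := hl
      rw [← blockHom_apply ι' ψ h x b a, htriv]
      by_cases e : b = a
      · subst e; simp
      · simp [e]
  choose α hα using hex
  exact ⟨MonoidHom.mk' α fun x y => emb_injective hF ι (by rw [map_mul, hα, hα, hα, map_mul]),
    MonoidHom.ext hα⟩

theorem Triangle.map {E E' : Type*} [Group E] [Group E'] {hF : Fintype.card F = 3 ^ 2}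
    {ψ : Fin 3 → SU 2 F 3 →* E} (h : Triangle hF ψ) (f : E →* E') (hf : Function.Injective f) :
    Triangle hF fun a => f.comp (ψ a) where
  inj a := hf.comp (h.inj a)
  far x y := (h.far x y).map f
  neg d hd a b hab u := by
    simp only [MonoidHom.comp_apply, ← map_inv f, ← map_mul f]
    rw [h.neg d hd a b hab u]
  torus ν hν d hd a b hab u := by
    simp only [MonoidHom.comp_apply, ← map_inv f, ← map_mul f]
    rw [h.torus ν hν d hd a b hab u]

/-- Two automorphisms of the field of nine elements agreeing on a non-real norm one element. -/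
theorem ringEquiv_eq (hF : Fintype.card F = 3 ^ 2) {σ τ : F ≃+* F} {ν : F} (hν : ν * ν = -1)
    (h : σ ν = τ ν) : σ = τ := by
  obtain ⟨h3, h2, hne, -⟩ := three_facts hF
  obtain ⟨p, f, hp, hf, hc, hq⟩ := exists_char_pow hF
  obtain rfl : p = 3 := (Nat.prime_dvd_prime_iff_eq hp Nat.prime_three).1
    (hq ▸ dvd_pow_self p hf.ne')
  have : Fact (Nat.Prime 3) := ⟨hp⟩
  have two : ∀ ρ : F ≃+* F, (∀ x, ρ x = x) ∨ ∀ x, ρ x = x ^ 3 := by
    intro ρ
    obtain ⟨j, hj⟩ := Unitary.Asch.exists_pow_char 3 ρ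
    have : ∀ j, (∀ x : F, x ^ 3 ^ j = x) ∨ ∀ x : F, x ^ 3 ^ j = x ^ 3 := by
      intro j
      induction j with
      | zero => simp
      | succ j ih =>
        rcases ih with ih | ih
        · exact Or.inr fun x => by rw [pow_succ, pow_mul, ih]
        · exact Or.inl fun x => by rw [pow_succ, pow_mul, ih]; exact pow_q_q hF x
    exact (this j).imp (fun h x => (hj x).trans (h x)) (fun h x => (hj x).trans (h x))
  have hν3 : ν ^ 3 ≠ ν := fun e => hne (by
    have : ν * ν * ν = ν := by linear_combination e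
    rw [hν] at this
    exact (mul_eq_right₀ (fun h0 => by simp [h0] at hν)).1 this)
  rcases two σ with a | a <;> rcases two τ with b | b
  · exact RingEquiv.ext fun x => (a x).trans (b x).symm
  · exact absurd (((a ν).symm.trans h).trans (b ν)).symm hν3
  · exact absurd (((a ν).symm.trans h).trans (b ν)) hν3
  · exact RingEquiv.ext fun x => (a x).trans (b x).symm

/-- The outer pair of coordinates. -/
abbrev seg03 : Fin 2 ↪ Fin 4 := ⟨![0, 3], by decide⟩

theorem cover_block (i : Fin 4) :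
    ((∀ b, seg 0 2 4 (by omega) b ≠ i) → ∃ a, seg 2 2 4 (by omega) a = i) ∧
    ((∀ b, seg 1 2 4 (by omega) b ≠ i) → ∃ a, seg03 a = i) ∧
    ((∀ b, seg 2 2 4 (by omega) b ≠ i) → ∃ a, seg 0 2 4 (by omega) a = i) := by
  revert i
  decide

theorem seg_values : seg 0 2 4 (by omega) 0 = 0 ∧ seg 0 2 4 (by omega) 1 = 1 ∧
    seg 1 2 4 (by omega) 0 = 1 ∧ seg 1 2 4 (by omega) 1 = 2 ∧
    seg 2 2 4 (by omega) 0 = 2 ∧ seg 2 2 4 (by omega) 1 = 3 := by decide

theorem cover_sign :
    (∀ i a, (∀ b, seg 0 2 4 (by omega) b ≠ i) →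
      (![true, true, false, false] : Fin 4 → Bool) (seg 0 2 4 (by omega) a) ≠
        (![true, true, false, false] : Fin 4 → Bool) i) ∧
    (∀ i a, (∀ b, seg 2 2 4 (by omega) b ≠ i) →
      (![true, true, false, false] : Fin 4 → Bool) (seg 2 2 4 (by omega) a) ≠
        (![true, true, false, false] : Fin 4 → Bool) i) ∧
    (∀ i a, (∀ b, seg03 b ≠ i) →
      (![false, true, true, false] : Fin 4 → Bool) (seg03 a) ≠
        (![false, true, true, false] : Fin 4 → Bool) i) := by
  decide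

/-- The configuration with standard involutions. -/
theorem exists_std (hF : Fintype.card F = 3 ^ 2) {ψ : Fin 3 → SU 2 F 3 →* SU 4 F 3}
    (h : Triangle hF ψ) {d : SU 2 F 3} (hd : mat d = -1)
    (h0 : mat (ψ 0 d) = Matrix.diagonal (sgn F ∘ ![true, true, false, false]))
    (h1 : mat (ψ 1 d) = Matrix.diagonal (sgn F ∘ ![false, true, true, false]))
    (h2 : mat (ψ 2 d) = Matrix.diagonal (sgn F ∘ ![true, true, false, false]) ∨
      mat (ψ 2 d) = Matrix.diagonal (sgn F ∘ fun i => !(![true, true, false, false] i))) :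
    ∃ Φ : SU 4 F 3 →* SU 4 F 3, ∀ a : Fin 3,
      Φ.comp (emb hF (seg a 2 4 (by omega))) = ψ a := by
  obtain ⟨-, h2', hne, ν, hν, hνn⟩ := three_facts hF
  have sinj := sgn_injective (F := F) hne
  obtain ⟨cs0, cs2, cs1⟩ := cover_sign
  have hcen : ∀ a u, Commute (ψ a d) (ψ a u) := fun a u => by
    refine (show Commute d u from ?_).map (ψ a)
    exact mul_inv_eq_iff_eq_mul.1 (negOne_comm hd u)
  have zero : ∀ {z g : SU 4 F 3} {c : Fin 4 → Bool} (_ : mat z = Matrix.diagonal (sgn F ∘ c))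
      (_ : Commute z g) {i j : Fin 4} (_ : c i ≠ c j), mat g i j = 0 ∧ mat g j i = 0 := by
    intro z g c hz hc i j hij
    exact ⟨entry_zero hz hc fun e => hij (sinj e), entry_zero hz hc fun e => hij (sinj e).symm⟩
  -- the blocks
  have hA0 : ∀ x a i, (∀ b, seg 0 2 4 (by omega) b ≠ i) →
      mat (ψ 0 x) (seg 0 2 4 (by omega) a) i = 0 ∧ mat (ψ 0 x) i (seg 0 2 4 (by omega) a) = 0 :=
    fun x a i hi => zero h0 (hcen 0 x) (cs0 i a hi)
  have hA0' : ∀ x a i, (∀ b, seg 2 2 4 (by omega) b ≠ i) →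
      mat (ψ 0 x) (seg 2 2 4 (by omega) a) i = 0 ∧ mat (ψ 0 x) i (seg 2 2 4 (by omega) a) = 0 :=
    fun x a i hi => zero h0 (hcen 0 x) (cs2 i a hi)
  rcases h2 with h2 | h2
  · exfalso
    have hA2 : ∀ x a i, (∀ b, seg 0 2 4 (by omega) b ≠ i) →
        mat (ψ 2 x) (seg 0 2 4 (by omega) a) i = 0 ∧ mat (ψ 2 x) i (seg 0 2 4 (by omega) a) = 0 :=
      fun x a i hi => zero h2 (hcen 2 x) (cs0 i a hi)
    have neg1 : ∀ {a : Fin 3} (hA : ∀ x b i, (∀ c, seg 0 2 4 (by omega) c ≠ i) →
        mat (ψ a x) (seg 0 2 4 (by omega) b) i = 0 ∧ mat (ψ a x) i (seg 0 2 4 (by omega) b) = 0),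
        mat (ψ a d) = Matrix.diagonal (sgn F ∘ ![true, true, false, false]) →
        ∀ e, mat e = -1 → blockHom (seg 0 2 4 (by omega)) (ψ a) hA e = -1 := by
      intro a hA hz e he
      obtain rfl : e = d := ext_mat (he.trans hd.symm)
      ext i j
      rw [blockHom_apply, hz]
      fin_cases i <;> fin_cases j <;> simp [sgn, seg_values]
    have ht := block_trivial_of_commute hF (blockHom _ (ψ 0) hA0) (blockHom _ (ψ 2) hA2)
      (blockHom_unitary hF _ _ _) (neg1 hA2 h2) (fun x y => ?_) d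
    · rw [neg1 hA0 h0 d hd] at ht
      exact hne (by simpa using congrFun (congrFun ht 0) 0)
    · have hxy := congrArg (fun z => mat z) (h.far x y).eq
      ext i j
      have hij := congrFun (congrFun hxy (seg 0 2 4 (by omega) i)) (seg 0 2 4 (by omega) j)
      simp only [mat_mul, Matrix.mul_apply] at hij ⊢
      rw [← Finset.sum_subset (Finset.subset_univ (Finset.univ.map (seg 0 2 4 (by omega)))),
        Finset.sum_map] at hij
      · rw [← Finset.sum_subset (Finset.subset_univ (Finset.univ.map (seg 0 2 4 (by omega)))),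
          Finset.sum_map] at hij
        · exact hij
        · intro l _ hl
          exact mul_eq_zero_of_left
            (hA2 y i l fun b hb => hl (Finset.mem_map.2 ⟨b, Finset.mem_univ _, hb⟩)).1 _
      · intro l _ hl
        exact mul_eq_zero_of_left
          (hA0 x i l fun b hb => hl (Finset.mem_map.2 ⟨b, Finset.mem_univ _, hb⟩)).1 _
  have hnot : ∀ i j : Fin 4, (![true, true, false, false] : Fin 4 → Bool) i ≠
      (![true, true, false, false] : Fin 4 → Bool) j →
      (fun i => !(![true, true, false, false] : Fin 4 → Bool) i) i ≠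
        (fun i => !(![true, true, false, false] : Fin 4 → Bool) i) j :=
    fun i j hij e => hij (Bool.not_inj e)
  have hA2 : ∀ x a i, (∀ b, seg 0 2 4 (by omega) b ≠ i) →
      mat (ψ 2 x) (seg 0 2 4 (by omega) a) i = 0 ∧ mat (ψ 2 x) i (seg 0 2 4 (by omega) a) = 0 :=
    fun x a i hi => zero h2 (hcen 2 x) (hnot _ _ (cs0 i a hi))
  have hA2' : ∀ x a i, (∀ b, seg 2 2 4 (by omega) b ≠ i) →
      mat (ψ 2 x) (seg 2 2 4 (by omega) a) i = 0 ∧ mat (ψ 2 x) i (seg 2 2 4 (by omega) a) = 0 :=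
    fun x a i hi => zero h2 (hcen 2 x) (hnot _ _ (cs2 i a hi))
  have hA1 : ∀ x a i, (∀ b, seg03 b ≠ i) → mat (ψ 1 x) (seg03 a) i = 0 ∧ mat (ψ 1 x) i (seg03 a) = 0 :=
    fun x a i hi => zero h1 (hcen 1 x) (cs1 i a hi)
  have bcomm : ∀ (ι : Fin 2 ↪ Fin 4) (hP : ∀ x a i, (∀ b, ι b ≠ i) →
      mat (ψ 0 x) (ι a) i = 0 ∧ mat (ψ 0 x) i (ι a) = 0) (hQ : ∀ x a i, (∀ b, ι b ≠ i) →
      mat (ψ 2 x) (ι a) i = 0 ∧ mat (ψ 2 x) i (ι a) = 0) x y,
      Commute (blockHom ι (ψ 0) hP x) (blockHom ι (ψ 2) hQ y) := by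
    intro ι hP hQ x y
    have hxy := congrArg (fun z => mat z) (h.far x y).eq
    ext i j
    have hij := congrFun (congrFun hxy (ι i)) (ι j)
    simp only [mat_mul, Matrix.mul_apply] at hij ⊢
    rw [← Finset.sum_subset (Finset.subset_univ (Finset.univ.map ι)), Finset.sum_map] at hij
    · rw [← Finset.sum_subset (Finset.subset_univ (Finset.univ.map ι)), Finset.sum_map] at hij
      · exact hij
      · intro l _ hl
        exact mul_eq_zero_of_left
          (hQ y i l fun b hb => hl (Finset.mem_map.2 ⟨b, Finset.mem_univ _, hb⟩)).1 _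
    · intro l _ hl
      exact mul_eq_zero_of_left
        (hP x i l fun b hb => hl (Finset.mem_map.2 ⟨b, Finset.mem_univ _, hb⟩)).1 _
  obtain ⟨α0, hα0⟩ := exists_factor hF _ _ (fun i => (cover_block i).1) (ψ 0) hA0'
    (block_trivial_of_commute hF _ (blockHom _ (ψ 2) hA2') (blockHom_unitary hF _ _ _)
      (fun e he => by
        obtain rfl : e = d := ext_mat (he.trans hd.symm)
        ext i j
        rw [blockHom_apply, h2]
        fin_cases i <;> fin_cases j <;> simp [sgn, seg_values])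
      (bcomm _ hA0' hA2'))
  obtain ⟨α2, hα2⟩ := exists_factor hF _ _ (fun i => (cover_block i).2.2) (ψ 2) hA2
    (block_trivial_of_commute hF _ (blockHom _ (ψ 0) hA0) (blockHom_unitary hF _ _ _)
      (fun e he => by
        obtain rfl : e = d := ext_mat (he.trans hd.symm)
        ext i j
        rw [blockHom_apply, h0]
        fin_cases i <;> fin_cases j <;> simp [sgn, seg_values])
      (fun x y => (bcomm _ hA0 hA2 y x).symm))
  obtain ⟨α1, hα1⟩ := exists_factor hF _ _ (fun i => (cover_block i).2.1) (ψ 1) hA1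
    (block_trivial_of_ratio hF _ (blockHom_unitary hF _ _ _)
      (fun e he => by
        obtain rfl : e = d := ext_mat (he.trans hd.symm)
        ext i j
        rw [blockHom_apply, h1]
        fin_cases i <;> fin_cases j <;> simp [sgn])
      (Or.inl rfl) (fun x => by
        have hz := congrArg (fun z => mat z)
          (mul_inv_eq_iff_eq_mul.1 (h.neg d hd 0 1 (Or.inl rfl) x))
        ext i j
        rw [Matrix.mul_diagonal, Matrix.diagonal_mul, blockHom_apply, blockHom_apply]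
        have hij := congrFun (congrFun hz (seg03 i)) (seg03 j)
        simp only [mat_mul, h0, Matrix.diagonal_mul, Matrix.mul_diagonal] at hij
        fin_cases i <;> fin_cases j <;> simp [sgn] at hij ⊢
        all_goals first | linear_combination hij | linear_combination -hij))
  -- classification of the block maps
  have classify : ∀ (a : Fin 3) (b : Fin 3) (_ : (a : ℕ) + 1 = b ∨ (b : ℕ) + 1 = a)
      (ι : Fin 2 ↪ Fin 4) (c : Fin 4 → Bool) (_ : mat (ψ b d) = Matrix.diagonal (sgn F ∘ c))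
      (_ : c (ι 0) ≠ c (ι 1)) (α : SU 2 F 3 →* SU 2 F 3) (_ : (emb hF ι).comp α = ψ a),
      ∃ (μ : F) (hμ : μ * μ ^ 3 = 1) (σ : F ≃+* F), ∀ u, α u = semi hF ![μ, 1] (norm_pair hμ) σ u := by
    intro a b hab ι c hc hcne α hα
    have hinj : Function.Injective α := fun x y e => h.inj a (by
      rw [← hα, MonoidHom.comp_apply, MonoidHom.comp_apply, e])
    let A : SU 2 F 3 ≃* SU 2 F 3 :=
      MulEquiv.ofBijective α (Finite.injective_iff_bijective.1 hinj)
    refine exists_semi_eq hF A fun u hu => ?_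
    rw [isDiag_iff_ratio hF] at hu ⊢
    refine emb_injective hF ι ?_
    have h' := h.neg d hd b a hab.symm u
    rw [hu, ← hα] at h'
    rw [← conj_diag_emb hF ι (fun i => sgn_norm hF (c i)) hc (norm_neg_one hF) ?_ (A u)]
    · exact h'
    · show sgn F (c (ι 0)) = -1 * sgn F (c (ι 1))
      rw [neg_one_mul, ← sgn_not]
      exact congrArg _ (Bool.eq_not.2 hcne)
  obtain ⟨μ0, hμ0, σ0, hσ0⟩ := classify 0 1 (Or.inl rfl) _ _ h1 (by decide) α0 hα0
  obtain ⟨μ1, hμ1, σ1, hσ1⟩ := classify 1 0 (Or.inr rfl) _ _ h0 (by decide) α1 hα1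
  obtain ⟨μ2, hμ2, σ2, hσ2⟩ := classify 2 1 (Or.inr rfl) _ _ h1 (by decide) α2 hα2
  -- the field automorphisms agree
  obtain ⟨dν, hdν⟩ := exists_torus hF hνn
  obtain ⟨w, hw⟩ := exists_swap (F := F) (q := 3) hF
  have hw01 : mat w 0 1 = 1 := by rw [← ap_single, hw, Pi.single_eq_same]
  have hsν : ∀ σ : F ≃+* F, σ ν * σ ν ^ 3 = 1 := fun σ => by
    rw [← map_pow, ← map_mul, hνn, map_one]
  have agree : ∀ (a b : Fin 3) (_ : (a : ℕ) + 1 = b) (ι κ : Fin 2 ↪ Fin 4)
      (α β : SU 2 F 3 →* SU 2 F 3) (_ : (emb hF ι).comp α = ψ a) (_ : (emb hF κ).comp β = ψ b)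
      (μ μ' : F) (hμ : μ * μ ^ 3 = 1) (hμ' : μ' * μ' ^ 3 = 1) (σ τ : F ≃+* F)
      (_ : ∀ u, α u = semi hF ![μ, 1] (norm_pair hμ) σ u)
      (_ : ∀ u, β u = semi hF ![μ', 1] (norm_pair hμ') τ u)
      (_ : κ 0 = ι 1) (_ : ∀ i, ι i ≠ κ 1), σ = τ := by
    intro a b hab ι κ α β hα hβ μ μ' hμ hμ' σ τ hσ hτ hκ hκ'
    refine ringEquiv_eq hF hν ?_
    have h' := h.torus ν hνn dν hdν a b hab w
    rw [← hα, ← hβ, MonoidHom.comp_apply, MonoidHom.comp_apply, MonoidHom.comp_apply] at h'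
    have hm : mat (α dν) = Matrix.diagonal ![(σ ν)⁻¹, σ ν] := by
      rw [hσ, mat_semi]
      ext i j
      rw [semiMat_apply, hdν]
      fin_cases i <;> fin_cases j <;> simp [ne_zero_of_norm hμ, mul_comm, ← mul_assoc]
    classical
    obtain ⟨v, hv⟩ : ∃ v : Fin 4 → F, ∀ i, v i =
        if i = ι 0 then (σ ν)⁻¹ else if i = ι 1 then σ ν else 1 := ⟨_, fun _ => rfl⟩
    have hmd : mat (emb hF ι (α dν)) = Matrix.diagonal v := by
      refine mat_emb_diagonal hF ι _ hm (fun c => ?_) fun i hi => ?_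
      · rw [hv]
        fin_cases c <;> simp [ι.injective.eq_iff]
      · rw [hv, if_neg (Ne.symm (hi 0)), if_neg (Ne.symm (hi 1))]
    have hvn : ∀ i, v i * v i ^ 3 = 1 := by
      intro i
      rw [hv]
      split_ifs
      · rw [inv_pow, ← mul_inv, hsν, inv_one]
      · exact hsν σ
      · simp
    rw [conj_diag_emb hF κ hvn hmd (hsν σ) ?_] at h'
    · have h'' := congrFun (congrFun (congrArg (fun z => mat z) (emb_injective hF κ h')) 0) 1
      rw [hτ, hτ] at h''
      simp [mat_semi, semiMat_apply, hw01] at h''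
      exact (mul_left_cancel₀ (ne_zero_of_norm hμ') (by linear_combination h''))
    · have hι : ι 1 ≠ ι 0 := fun e => absurd (ι.injective e) (by decide)
      rw [hv, hv, hκ, if_neg hι, if_pos rfl, if_neg (fun e => hκ' 0 e.symm),
        if_neg (fun e => hκ' 1 e.symm), mul_one]
  obtain rfl : σ0 = σ1 := agree 0 1 rfl _ _ α0 α1 hα0 hα1 μ0 μ1 hμ0 hμ1 σ0 σ1 hσ0 hσ1
    (by decide) (by decide)
  obtain rfl : σ0 = σ2 := agree 1 2 rfl _ _ α1 α2 hα1 hα2 μ1 μ2 hμ1 hμ2 σ0 σ2 hσ1 hσ2
    (by decide) (by decide)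
  -- assemble
  have hv : ∀ i, (![μ0 * μ1 * μ2, μ1 * μ2, μ2, 1] : Fin 4 → F) i *
      (![μ0 * μ1 * μ2, μ1 * μ2, μ2, 1] : Fin 4 → F) i ^ 3 = 1 := by
    intro i
    fin_cases i
    · show μ0 * μ1 * μ2 * (μ0 * μ1 * μ2) ^ 3 = 1
      linear_combination (μ1 * μ2 * (μ1 * μ2) ^ 3) * hμ0 + (μ2 * μ2 ^ 3) * hμ1 + hμ2
    · show μ1 * μ2 * (μ1 * μ2) ^ 3 = 1
      linear_combination (μ2 * μ2 ^ 3) * hμ1 + hμ2
    · exact hμ2
    · simp
  refine ⟨semi hF _ hv σ0, fun a => MonoidHom.ext fun u => ?_⟩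
  rw [MonoidHom.comp_apply, semi_emb]
  fin_cases a
  · refine Eq.trans ?_ (DFunLike.congr_fun hα0 u)
    rw [MonoidHom.comp_apply, hσ0]
    congr 1
    exact DFunLike.congr_fun (semi_congr hF _ _ _ fun i j => by
      fin_cases i <;> fin_cases j <;> simp [seg_values] <;> ring) u
  · refine Eq.trans ?_ (DFunLike.congr_fun hα1 u)
    rw [MonoidHom.comp_apply, hσ1]
    congr 1
    exact DFunLike.congr_fun (semi_congr hF _ _ _ fun i j => by
      fin_cases i <;> fin_cases j <;> simp [seg_values] <;> ring) u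
  · refine Eq.trans ?_ (DFunLike.congr_fun hα2 u)
    rw [MonoidHom.comp_apply, hσ2]
    congr 1
    exact DFunLike.congr_fun (semi_congr hF _ _ _ fun i j => by
      fin_cases i <;> fin_cases j <;> simp [seg_values] <;> ring) u

end Cfsg.Agent.Cores.Phan
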