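import Mathlib
import Cfsg.Agent.Unitary.Simple
import Cfsg.Agent.Cores.Phan.ThreeStd
import Cfsg.Agent.Cores.Phan.Amalgam

/-!
The first step of a weak Phan system over the field of nine elements.
-/

set_option autoImplicit false
set_option linter.unusedSectionVars false

namespace Cfsg.Agent.Cores.Phan

open Cfsg Cfsg.Agent.Unitary Matrix

variable {F : Type*} [Field F] [Fintype F]

/-- The six patterns with two signs. -/
def six : Fin 6 → Fin 4 → Bool :=
  ![![true, true, false, false], ![true, false, true, false], ![true, false, false, true],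
    ![false, true, true, false], ![false, true, false, true], ![false, false, true, true]]

theorem exists_six : ∀ s : Fin 4 → Bool, xor (xor (xor (s 0) (s 1)) (s 2)) (s 3) = false →
    (∃ i j, s i ≠ s j) → ∃ k, s = six k := by
  decide

theorem six_perm : ∀ a b : Fin 6, six b ≠ six a → six b ≠ (fun i => !six a i) →
    ∃ π : Equiv.Perm (Fin 4), six a ∘ π = ![true, true, false, false] ∧
      six b ∘ π = ![false, true, true, false] := by
  decide

set_option synthInstance.maxSize 2000 in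
theorem six_third : ∀ a b c : Fin 6, six b ≠ six a → six b ≠ (fun i => !six a i) →
    six c ≠ six b → six c ≠ (fun i => !six b i) →
    six c ≠ (fun i => xor (six a i) (six b i)) →
    six c ≠ (fun i => !xor (six a i) (six b i)) → six c = six a ∨ six c = fun i => !six a i := by
  decide

/-- The three maps are standard up to an endomorphism. -/
theorem exists_hom_of_triangle (hF : Fintype.card F = 3 ^ 2) {ψ : Fin 3 → SU 2 F 3 →* SU 4 F 3}
    (h : Triangle hF ψ) :
    ∃ Φ : SU 4 F 3 →* SU 4 F 3, ∀ a : Fin 3,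
      Φ.comp (emb hF (seg a 2 4 (by omega))) = ψ a := by
  obtain ⟨-, h2, hne, -⟩ := three_facts hF
  obtain ⟨d, hd⟩ := exists_negOne (F := F) hF
  obtain ⟨w, hw⟩ := exists_swap (F := F) (q := 3) hF
  have hw01 : mat w 0 1 = 1 := by rw [← ap_single, hw, Pi.single_eq_same]
  have hwr : ratioMap hF (norm_neg_one hF) w ≠ w := fun e => by
    have : mat w 0 1 = 0 := (isDiag_iff_ratio hF w).2 e
    rw [hw01] at this
    exact one_ne_zero this
  have hzz : ∀ a, ψ a d * ψ a d = 1 := fun a => by rw [← map_mul, negOne_mul_self hd, map_one]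
  have hnb : ∀ a b : Fin 3, ((a : ℕ) + 1 = b ∨ (b : ℕ) + 1 = a) → Commute (ψ a d) (ψ b d) := by
    intro a b hab
    have := h.neg d hd a b hab d
    rw [ratioMap_negOne hF _ hd] at this
    exact mul_inv_eq_iff_eq_mul.1 this
  have hc : ∀ a b, Commute (ψ a d) (ψ b d) := by
    intro a b
    by_cases hab : a = b
    · subst hab; exact Commute.refl _
    by_cases h1 : (a : ℕ) + 1 = b ∨ (b : ℕ) + 1 = a
    · exact hnb a b h1
    obtain ⟨rfl, rfl⟩ | ⟨rfl, rfl⟩ : (a = 0 ∧ b = 2) ∨ (a = 2 ∧ b = 0) := by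
      revert a b; decide
    · exact h.far d d
    · exact (h.far d d).symm
  obtain ⟨f, hf, s, hs⟩ := exists_eigen_basis hF h2 (z := fun a => ψ a d) hzz hc
  obtain ⟨g, hg⟩ := exists_conj_diag (l := 3) hF hf (c := fun a i => sgn F (s a i)) hs
  -- facts about the signs
  have hnt : ∀ a b : Fin 3, ((a : ℕ) + 1 = b ∨ (b : ℕ) + 1 = a) →
      ψ a d * ψ b w * (ψ a d)⁻¹ ≠ ψ b w := fun a b hab e =>
    hwr (h.inj b ((h.neg d hd a b hab w).symm.trans e))
  have hsame : ∀ {z y : SU 4 F 3} {c c' : Fin 4 → Bool},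
      mat (g * z * g⁻¹) = Matrix.diagonal (sgn F ∘ c) →
      mat (g * y * g⁻¹) = Matrix.diagonal (sgn F ∘ c') → (c = c' ∨ c = fun i => !c' i) →
      ∀ x, z * x * z⁻¹ = y * x * y⁻¹ := by
    intro z y c c' hz hy hcc x
    have := conj_eq_of_sign hF (fun i => sgn_norm hF (c i)) (fun i => sgn_norm hF (c' i)) hz hy
      (fun i j => by
        rcases hcc with rfl | rfl
        · simp [mul_comm]
        · simp [sgn_not, mul_comm]) (g * x * g⁻¹)
    refine (MulAut.conj g).injective ?_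
    simp only [MulAut.conj_apply]
    calc g * (z * x * z⁻¹) * g⁻¹ = (g * z * g⁻¹) * (g * x * g⁻¹) * (g * z * g⁻¹)⁻¹ := by group
      _ = (g * y * g⁻¹) * (g * x * g⁻¹) * (g * y * g⁻¹)⁻¹ := this
      _ = g * (y * x * y⁻¹) * g⁻¹ := by group
  have hs6 : ∀ a, ∃ k, s a = six k := by
    intro a
    refine exists_six (s a) (sgn_injective (F := F) hne ?_) ?_
    · have hdet : (mat (g * ψ a d * g⁻¹)).det = 1 :=
        (g * ψ a d * g⁻¹ : SpecialLinearGroup (Fin 4) F).2
      rw [hg a, Matrix.det_diagonal, Fin.prod_univ_four] at hdet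
      rw [sgn_xor, sgn_xor, sgn_xor]
      exact hdet
    · by_contra hcon
      push Not at hcon
      obtain ⟨b, hb⟩ : ∃ b : Fin 3, (a : ℕ) + 1 = b ∨ (b : ℕ) + 1 = a := by
        revert a; intro a; fin_cases a <;> intros <;> first
          | exact ⟨1, Or.inl rfl⟩ | exact ⟨0, Or.inr rfl⟩ | exact ⟨1, Or.inr rfl⟩
      refine hnt a b hb ?_
      have h1 : mat (g * 1 * g⁻¹) = Matrix.diagonal (sgn F ∘ fun _ => false) := by
        rw [mul_one, mul_inv_cancel]
        exact Matrix.diagonal_one.symm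
      have := hsame (hg a) h1 ?_ (ψ b w)
      · simpa using this
      · cases h0 : s a 0
        · exact Or.inl (funext fun i => (hcon i 0).trans h0)
        · exact Or.inr (funext fun i => (hcon i 0).trans h0)
  obtain ⟨k0, hk0⟩ := hs6 0
  obtain ⟨k1, hk1⟩ := hs6 1
  obtain ⟨k2, hk2⟩ := hs6 2
  have hself : ∀ a x, ψ a d * ψ a x * (ψ a d)⁻¹ = ψ a x := fun a x => by
    rw [← map_mul, ← map_inv, ← map_mul, negOne_comm hd]
  have n10 : six k1 ≠ six k0 ∧ six k1 ≠ fun i => !six k0 i := by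
    constructor
    · intro e
      refine hnt 0 1 (Or.inl rfl) ?_
      rw [← hsame (hg 1) (hg 0) (Or.inl (by rw [hk0, hk1, e]))]
      exact hself 1 w
    · intro e
      refine hnt 0 1 (Or.inl rfl) ?_
      rw [← hsame (hg 1) (hg 0) (Or.inr (by rw [hk0, hk1, e]))]
      exact hself 1 w
  have n21 : six k2 ≠ six k1 ∧ six k2 ≠ fun i => !six k1 i := by
    constructor
    · intro e
      refine hnt 1 2 (Or.inl rfl) ?_
      rw [← hsame (hg 2) (hg 1) (Or.inl (by rw [hk1, hk2, e]))]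
      exact hself 2 w
    · intro e
      refine hnt 1 2 (Or.inl rfl) ?_
      rw [← hsame (hg 2) (hg 1) (Or.inr (by rw [hk1, hk2, e]))]
      exact hself 2 w
  have h01 : mat (g * (ψ 0 d * ψ 1 d) * g⁻¹) =
      Matrix.diagonal (sgn F ∘ fun i => xor (s 0 i) (s 1 i)) := by
    rw [show g * (ψ 0 d * ψ 1 d) * g⁻¹ = (g * ψ 0 d * g⁻¹) * (g * ψ 1 d * g⁻¹) by group, mat_mul,
      hg, hg, Matrix.diagonal_mul_diagonal]
    congr 1
    funext i
    exact (sgn_xor _ _).symm
  have hact : ψ 0 d * ψ 1 d * ψ 2 w * (ψ 0 d * ψ 1 d)⁻¹ ≠ ψ 2 w := by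
    intro e
    refine hnt 1 2 (Or.inl rfl) ?_
    have h02 : ψ 0 d * (ψ 1 d * ψ 2 w * (ψ 1 d)⁻¹) * (ψ 0 d)⁻¹ = ψ 1 d * ψ 2 w * (ψ 1 d)⁻¹ := by
      rw [h.neg d hd 1 2 (Or.inl rfl) w]
      exact mul_inv_eq_iff_eq_mul.2 (h.far d _).eq
    rw [← h02]
    calc ψ 0 d * (ψ 1 d * ψ 2 w * (ψ 1 d)⁻¹) * (ψ 0 d)⁻¹
        = ψ 0 d * ψ 1 d * ψ 2 w * (ψ 0 d * ψ 1 d)⁻¹ := by group
      _ = ψ 2 w := e
  have n2x : six k2 ≠ (fun i => xor (six k0 i) (six k1 i)) ∧
      six k2 ≠ fun i => !xor (six k0 i) (six k1 i) := by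
    constructor
    · intro e
      refine hact ?_
      rw [← hsame (hg 2) h01 (Or.inl (by rw [hk0, hk1, hk2, e]))]
      exact hself 2 w
    · intro e
      refine hact ?_
      rw [← hsame (hg 2) h01 (Or.inr (by rw [hk0, hk1, hk2, e]))]
      exact hself 2 w
  obtain ⟨π, hπ0, hπ1⟩ := six_perm k0 k1 n10.1 n10.2
  have h3 := six_third k0 k1 k2 n10.1 n10.2 n21.1 n21.2 n2x.1 n2x.2
  -- conjugate to standard position
  obtain ⟨g', hg'⟩ := exists_conj_diag (l := 3) hF (f := f ∘ π)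
    (fun i j => by simp only [Function.comp_apply]; rw [hf]; simp)
    (z := fun a => ψ a d) (c := fun a i => sgn F (s a (π i))) (fun a i => hs a (π i))
  obtain ⟨Φ, hΦ⟩ := exists_std hF (h.map (MulAut.conj g').toMonoidHom (MulAut.conj g').injective) hd
    (by
      show mat (g' * ψ 0 d * g'⁻¹) = _
      rw [hg' 0, hk0, ← hπ0]
      rfl)
    (by
      show mat (g' * ψ 1 d * g'⁻¹) = _
      rw [hg' 1, hk1, ← hπ1]
      rfl)
    (by
      show mat (g' * ψ 2 d * g'⁻¹) = _ ∨ mat (g' * ψ 2 d * g'⁻¹) = _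
      rw [hg' 2, hk2, ← hπ0]
      rcases h3 with h3 | h3
      · left; rw [h3]; rfl
      · right; rw [h3]; rfl)
  refine ⟨(MulAut.conj g').symm.toMonoidHom.comp Φ, fun a => ?_⟩
  rw [MonoidHom.comp_assoc, hΦ a]
  exact MonoidHom.ext fun u => (MulAut.conj g').symm_apply_apply _

/-- The base of the induction over the field of nine elements. -/
theorem exists_base_three (hF : Fintype.card F = 3 ^ 2) {n : ℕ} (hn : 3 ≤ n) {G : Type*} [Group G]
    {φ : ℕ → SU 2 F 3 →* G} (hφ : Amalgam hF n φ)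
    (hker : ∀ i, i + 1 < n → ∃ θ : SU 3 F 3 →* G,
      θ.comp (emb hF tL) = φ i ∧ θ.comp (emb hF tR) = φ (i + 1) ∧ θ.ker ≤ Subgroup.center _)
    (π : SU 4 F 3 →* G) (hπ : ∀ i, i < 3 → (φ i).range ≤ π.range) :
    ∃ Φ : SU 4 F 3 →* G, Extends hF φ Φ := by
  have hinj : ∀ a : Fin 3, Function.Injective (φ a) := by
    intro a
    rcases Nat.lt_or_ge a.1 2 with ha | ha
    · obtain ⟨θ, hL, -, hk⟩ := hker a (by omega)
      rw [← hL]
      exact injective_comp_emb hF hk tL
    · obtain ⟨θ, -, hR, hk⟩ := hker 1 (by omega)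
      rw [show (a : ℕ) = 1 + 1 by omega, ← hR]
      exact injective_comp_emb hF hk tR
  have hne : π.ker ≠ ⊤ := by
    intro htop
    obtain ⟨w, hw⟩ := exists_swap (F := F) (q := 3) hF
    obtain ⟨x, hx⟩ := hπ 0 (by omega) ⟨w, rfl⟩
    have hx1 : π x = 1 := MonoidHom.mem_ker.1 (htop ▸ Subgroup.mem_top x)
    have hw1 : w = 1 := hinj 0 (by
      show φ 0 w = φ 0 1
      rw [map_one, ← hx, hx1])
    rw [hw1, ap_one] at hw
    simpa using congrFun hw 0
  have hc : π.ker ≤ Subgroup.center (SU 4 F 3) :=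
    (normal_le_center_or_eq_top hF (Or.inl le_rfl) π.ker).resolve_right hne
  have h4 : ∀ z ∈ π.ker, z ^ 4 = 1 := by
    intro z hz
    obtain ⟨l, hl⟩ := eq_smul_of_mem_center hF (by omega) (hc hz)
    have hm := mat_of_ap_smul hl
    have hd : (mat z).det = 1 := (z : SpecialLinearGroup (Fin 4) F).2
    refine ext_mat ?_
    rw [hm] at hd
    rw [show mat (z ^ 4) = mat z ^ 4 from rfl, hm, smul_pow, one_pow]
    rw [Matrix.det_smul, Fintype.card_fin, Matrix.det_one, mul_one] at hd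
    rw [hd, one_smul]
    rfl
  have hex : ∀ a : Fin 3, ∃ ψ : SU 2 F 3 →* SU 4 F 3, π.comp ψ = φ a :=
    fun a => exists_lift hF hc h4 (hinj a) (hπ a a.2)
  choose ψ hψ using hex
  have hψ' : ∀ a u, π (ψ a u) = φ a u := fun a u => DFunLike.congr_fun (hψ a) u
  have lifted : ∀ (e : SU 4 F 3) (a : Fin 3) (S : SU 2 F 3 →* SU 2 F 3),
      (∀ u, π e * φ a u * (π e)⁻¹ = φ a (S u)) → ∀ u, e * ψ a u * e⁻¹ = ψ a (S u) := by
    intro e a S he
    exact DFunLike.congr_fun (lift_unique hF hc h4 (ψ := (MulAut.conj e).toMonoidHom.comp (ψ a))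
      (ψ' := (ψ a).comp S) (MonoidHom.ext fun u => by
        show π (e * ψ a u * e⁻¹) = π (ψ a (S u))
        rw [map_mul, map_mul, map_inv, hψ', hψ', he u]))
  have pairs : ∀ (ι κ : Fin 2 ↪ Fin 3) (i j : ℕ) (θ : SU 3 F 3 →* G),
      θ.comp (emb hF ι) = φ i → θ.comp (emb hF κ) = φ j →
      ∀ (d : SU 2 F 3) (v : Fin 3 → F) (_ : ∀ l, v l * v l ^ 3 = 1)
        (_ : mat (emb hF ι d) = Matrix.diagonal v) (c : F) (hcn : c * c ^ 3 = 1)
        (_ : v (κ 0) = c * v (κ 1)) (u : SU 2 F 3),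
        φ i d * φ j u * (φ i d)⁻¹ = φ j (ratioMap hF hcn u) := by
    intro ι κ i j θ hi hj d v hv hdv c hcn hrat u
    rw [← hi, ← hj]
    simp only [MonoidHom.comp_apply, ← map_inv θ, ← map_mul θ]
    rw [conj_diag_emb hF κ hv hdv hcn hrat]
  have htri : Triangle hF ψ := by
    refine ⟨fun a x y e => hinj a (by rw [← hψ', ← hψ', e]), fun x y => ?_, ?_, ?_⟩
    · have h' := lifted (ψ 0 x) 2 (MonoidHom.id _) (fun u => by
        rw [hψ']
        exact mul_inv_eq_iff_eq_mul.2 (hφ.comm 0 2 le_rfl (by omega) x u).eq) y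
      exact mul_inv_eq_iff_eq_mul.1 h'
    · intro d hd a b hab u
      refine lifted (ψ a d) b _ (fun u => ?_) u
      rw [hψ']
      have hd' : mat d = Matrix.diagonal ![(-1 : F), -1] := by
        rw [hd]; ext i j; fin_cases i <;> fin_cases j <;> simp
      have hn := norm_neg_one (q := 3) hF
      rcases hab with hab | hab
      · obtain ⟨θ, hL, hR, -⟩ := hker a (by omega)
        rw [hab] at hR
        refine pairs tL tR _ _ θ hL hR d ![-1, -1, 1] (fun l => ?_)
          (mat_emb_diagonal hF tL d hd' (fun i => ?_) fun i hi => ?_) (-1) hn ?_ u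
        · fin_cases l
          · exact hn
          · exact hn
          · simp
        · fin_cases i <;> rfl
        · fin_cases i <;> first | rfl | exact absurd rfl (hi 0) | exact absurd rfl (hi 1)
        · show (![-1, -1, 1] : Fin 3 → F) 1 = -1 * (![-1, -1, 1] : Fin 3 → F) 2
          simp
      · obtain ⟨θ, hL, hR, -⟩ := hker b (by omega)
        rw [hab] at hR
        refine pairs tR tL _ _ θ hR hL d ![1, -1, -1] (fun l => ?_)
          (mat_emb_diagonal hF tR d hd' (fun i => ?_) fun i hi => ?_) (-1) hn ?_ u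
        · fin_cases l
          · simp
          · exact hn
          · exact hn
        · fin_cases i <;> rfl
        · fin_cases i <;> first | rfl | exact absurd rfl (hi 0) | exact absurd rfl (hi 1)
        · show (![1, -1, -1] : Fin 3 → F) 0 = -1 * (![1, -1, -1] : Fin 3 → F) 1
          simp
    · intro ν hν d hd a b hab u
      refine lifted (ψ a d) b _ (fun u => ?_) u
      rw [hψ']
      obtain ⟨θ, hL, hR, -⟩ := hker a (by omega)
      rw [hab] at hR
      refine pairs tL tR _ _ θ hL hR d ![ν⁻¹, ν, 1] (fun l => ?_)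
        (mat_emb_diagonal hF tL d hd (fun i => ?_) fun i hi => ?_) ν hν ?_ u
      · fin_cases l
        · show ν⁻¹ * ν⁻¹ ^ 3 = 1
          rw [inv_pow, ← mul_inv, hν, inv_one]
        · exact hν
        · simp
      · fin_cases i <;> rfl
      · fin_cases i <;> first | rfl | exact absurd rfl (hi 0) | exact absurd rfl (hi 1)
      · show (![ν⁻¹, ν, 1] : Fin 3 → F) 1 = ν * (![ν⁻¹, ν, 1] : Fin 3 → F) 2
        simp
  obtain ⟨Φ, hΦ⟩ := exists_hom_of_triangle hF htri
  refine ⟨π.comp Φ, fun i hi => ?_⟩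
  rw [MonoidHom.comp_assoc, hΦ ⟨i, by omega⟩, hψ]

end Cfsg.Agent.Cores.Phan
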