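import Mathlib
import Cfsg.Prelude.Def_PhanSystems
import Cfsg.Agent.Cores.Phan.SUThree

/-!
Two subgroups `SU₂(q)` generating `SU₃(q)`, with commuting cyclic tori, form a standard pair.
-/

set_option autoImplicit false
set_option linter.unusedSectionVars false

namespace Cfsg.Agent.Cores.Phan

open Cfsg Cfsg.Agent.Unitary Matrix

variable {F : Type*} [Field F] [Fintype F] {n q : ℕ}

theorem tR_off (i : Fin 3) : (∀ j, tR j ≠ i) → i = 0 := by revert i; decide

theorem tL_off (i : Fin 3) : (∀ j, tL j ≠ i) → i = 2 := by revert i; decide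

/-- The image of `SU₂` fixing a vector of norm one is the whole block of that vector. -/
theorem exists_conj_emb (hF : Fintype.card F = q ^ 2) {φ : SU 2 F q →* SU 3 F q}
    (hφ : Function.Injective φ) {e : Fin 3 → F} (he : ∀ u, ap (φ u) e = e)
    (ι : Fin 2 ↪ Fin 3) (i₀ : Fin 3) (hi₀ : ∀ i, (∀ j, ι j ≠ i) → i = i₀)
    {h : SU 3 F q} (hh : ap h (Pi.single i₀ 1) = e) :
    ∃ α : SU 2 F q ≃* SU 2 F q, ∀ u, φ u = h * emb hF ι (α u) * h⁻¹ := by
  have hex : ∀ u, ∃ g, emb hF ι g = h⁻¹ * φ u * h := fun u =>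
    exists_emb_eq hF ι fun i hi => by rw [hi₀ i hi, ap_mul, ap_mul, hh, he, ← hh, ap_inv_ap]
  choose α hα using hex
  let α' : SU 2 F q →* SU 2 F q := MonoidHom.mk' α fun x y => emb_injective hF ι (by
    rw [map_mul, hα, hα, hα, map_mul]; group)
  have hinj : Function.Injective α' := fun x y e' => hφ (by
    have h' : h⁻¹ * φ x * h = h⁻¹ * φ y * h := by rw [← hα, ← hα]; exact congrArg _ e'
    exact mul_left_cancel (mul_right_cancel h'))
  refine ⟨MulEquiv.ofBijective α' (Finite.injective_iff_bijective.1 hinj), fun u => ?_⟩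
  show φ u = h * emb hF ι (α u) * h⁻¹
  rw [hα]
  group

/-- The eigenbasis of a torus generator. -/
theorem exists_torus_basis (hF : Fintype.card F = q ^ 2) {φ : SU 2 F q →* SU 3 F q}
    (hφ : Function.Injective φ) {e : Fin 3 → F} (he1 : hermForm 3 F q e e = 1)
    (he : ∀ u, ap (φ u) e = e) {x : SU 2 F q} (hx : x ^ (q + 1) = 1) (hx2 : x * x ≠ 1) :
    ∃ (b : Fin 3 → Fin 3 → F) (c : Fin 3 → F), ON q b ∧ b 2 = e ∧ c 2 = 1 ∧
      Function.Injective c ∧ ∀ i, ap (φ x) (b i) = c i • b i := by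
  obtain ⟨h, hh⟩ := exists_SU_map_unit hF (by omega) (single_unit hF (2 : Fin 3)) he1
  obtain ⟨α, hα⟩ := exists_conj_emb hF hφ he tL 2 tL_off hh
  obtain ⟨f, l, hf, hl, hf0, hf1⟩ := exists_eigen_two hF (g := α x)
    (by rw [← map_pow, hx, map_one]) (fun h' => hx2 (α.injective (by rw [map_mul, h', map_one])))
  obtain ⟨g3, hg0, hg1, hg2⟩ : ∃ g3 : Fin 3 → Fin 3 → F,
      g3 0 = inj F tL *ᵥ f 0 ∧ g3 1 = inj F tL *ᵥ f 1 ∧ g3 2 = Pi.single 2 1 :=
    ⟨![inj F tL *ᵥ f 0, inj F tL *ᵥ f 1, Pi.single 2 1], rfl, rfl, rfl⟩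
  have hcross : ∀ j, hermForm 3 F q (inj F tL *ᵥ f j) (Pi.single 2 1) = 0 := fun j => by
    rw [herm_single_right hF, inj_mulVec_off _ _ (fun a => by fin_cases a <;> decide), zero_mul]
  have hfj : ∀ i j, hermForm 2 F q (f i) (f j) = if i = j then 1 else 0 := hf
  have hg : ∀ i j, hermForm 3 F q (g3 i) (g3 j) = if i = j then 1 else 0 := by
    intro i j
    have h22 := single_unit hF (q := q) (2 : Fin 3)
    fin_cases i <;> fin_cases j <;>
      simp [hg0, hg1, hg2, herm_inj hF, hfj, hcross, (herm_eq_zero_symm hF).1 (hcross _), h22]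
  refine ⟨fun i => ap h (g3 i), ![l, l⁻¹, 1], fun i j => by rw [herm_ap, hg],
    by show ap h (g3 2) = e; rw [hg2]; exact hh, rfl, ?_, fun i => ?_⟩
  · have hl0 : l ≠ 0 := fun h0 => by
      have h' := (hfj 0 0)
      rw [if_pos rfl] at h'
      have h'' := herm_ap (α x) (f 0) (f 0)
      rw [hf0, h0, zero_smul, herm_zero_left, h'] at h''
      exact zero_ne_one h''
    have h1 : l ≠ 1 := fun e' => hl (by rw [e', one_mul])
    have hli : l ≠ l⁻¹ := fun e' => hl (by nth_rw 2 [e']; exact mul_inv_cancel₀ hl0)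
    have h1i : l⁻¹ ≠ 1 := fun e' => h1 (inv_eq_one.1 e')
    intro i j hij
    fin_cases i <;> fin_cases j <;>
      first
        | rfl
        | exact absurd hij h1
        | exact absurd hij.symm h1
        | exact absurd hij hli
        | exact absurd hij.symm hli
        | exact absurd hij h1i
        | exact absurd hij.symm h1i
  · rw [hα, ap_mul, ap_mul, ap_inv_ap, ← ap_smul]
    congr 1
    fin_cases i
    · show ap (emb hF tL (α x)) (g3 0) = l • g3 0
      rw [hg0, ap_emb_on, hf0, mulVec_smul]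
    · show ap (emb hF tL (α x)) (g3 1) = l⁻¹ • g3 1
      rw [hg1, ap_emb_on, hf1, mulVec_smul]
    · show ap (emb hF tL (α x)) (g3 2) = (1 : F) • g3 2
      rw [hg2, one_smul]
      exact ap_emb_off hF tL _ fun a => Pi.single_eq_of_ne (by fin_cases a <;> decide) _

/-- Commuting tori in two different blocks: the axes are orthogonal. -/
theorem axes_orth (hF : Fintype.card F = q ^ 2) {φ ψ : SU 2 F q →* SU 3 F q}
    (hφ : Function.Injective φ) (hψ : Function.Injective ψ) {a b : Fin 3 → F}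
    (ha1 : hermForm 3 F q a a = 1) (hb1 : hermForm 3 F q b b = 1)
    (ha : ∀ u, ap (φ u) a = a) (hb : ∀ u, ap (ψ u) b = b) (hne : ¬ ∀ u, ap (ψ u) a = a)
    {x y : SU 2 F q} (hx : x ^ (q + 1) = 1) (hx2 : x * x ≠ 1) (hy : y ^ (q + 1) = 1)
    (hy2 : y * y ≠ 1) (hxy : Commute (φ x) (ψ y)) : hermForm 3 F q b a = 0 := by
  obtain ⟨u, c, hu, hu2, hc2, hcinj, hue⟩ := exists_torus_basis hF hφ ha1 ha hx hx2
  obtain ⟨w, d, hw, hw2, hd2, hdinj, hwe⟩ := exists_torus_basis hF hψ hb1 hb hy hy2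
  -- the fixed vectors of `ψ y` are multiples of `b`
  have hfix : ∀ v, ap (ψ y) v = v → v = hermForm 3 F q v b • b := by
    intro v hv
    conv_lhs => rw [← on_expand hF hw v]
    refine (Finset.sum_eq_single (2 : Fin 3) (fun i _ hi => ?_) (fun h => absurd (Finset.mem_univ _) h)).trans
      (by rw [hw2])
    have h := herm_ap (ψ y) v (w i)
    rw [hv, hwe, herm_smul_right] at h
    have hd : d i ≠ 1 := fun e => hi (hdinj (e.trans hd2.symm))
    have : (d i ^ q - 1) * hermForm 3 F q v (w i) = 0 := by linear_combination h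
    rw [(mul_eq_zero.1 this).resolve_left (sub_ne_zero.2 fun e =>
      hd (by rw [← pow_q_q hF (d i), e, one_pow])), zero_smul]
  -- `ψ y` preserves the eigenlines of `φ x`
  have hline : ∀ i, ∃ t : F, ap (ψ y) (u i) = t • u i := by
    intro i
    refine ⟨hermForm 3 F q (ap (ψ y) (u i)) (u i), ?_⟩
    conv_lhs => rw [← on_expand hF hu (ap (ψ y) (u i))]
    refine Finset.sum_eq_single i (fun j _ hj => ?_) (fun h => absurd (Finset.mem_univ _) h)
    have h := herm_ap (φ x) (ap (ψ y) (u i)) (u j)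
    rw [← ap_mul, hxy.eq, ap_mul, hue, ap_smul, hue, herm_smul_left, herm_smul_right] at h
    have hcq : c j * c j ^ q = 1 := by
      have h' := herm_ap (φ x) (u j) (u j)
      rw [hue, herm_self_smul, hu, if_pos rfl, mul_one] at h'
      exact h'
    have : (c i * c j ^ q - 1) * hermForm 3 F q (ap (ψ y) (u i)) (u j) = 0 := by
      linear_combination h
    rw [(mul_eq_zero.1 this).resolve_left (sub_ne_zero.2 fun e => hj (hcinj
      (mul_right_cancel₀ (pow_ne_zero q (ne_zero_of_norm hcq)) (hcq.trans e.symm)))), zero_smul]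
  choose t ht using hline
  -- so `b` is on one of them
  obtain ⟨i, hi⟩ : ∃ i, hermForm 3 F q b (u i) ≠ 0 := by
    by_contra hcon
    push Not at hcon
    have hb0 := on_expand hF hu b
    simp only [hcon, zero_smul, Finset.sum_const_zero] at hb0
    rw [← hb0, herm_zero_left] at hb1
    exact zero_ne_one hb1
  have hti : t i = 1 := by
    have h := herm_ap (ψ y) b (u i)
    rw [hb, ht, herm_smul_right] at h
    have h' : t i ^ q = 1 := mul_eq_right₀ hi |>.1 h
    rw [← pow_q_q hF (t i), h', one_pow]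
  have hui := hfix (u i) (by rw [ht, hti, one_smul])
  rw [← hu2]
  by_cases h2 : i = 2
  · exfalso
    refine hne fun g => ?_
    rw [← hu2, ← h2, hui, ap_smul, hb]
  · have h0 : hermForm 3 F q (u i) (u 2) = 0 := by rw [hu, if_neg h2]
    rw [hui, herm_smul_left] at h0
    exact (mul_eq_zero.1 h0).resolve_left fun h' => hi (by
      rw [← herm_swap hF (u i) b, h', zero_pow (q_ne_zero hF)])

/-- Two copies of `SU₂` with orthogonal axes generating a copy of `SU₃` form a standard pair. -/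
theorem isStandard_of_axes (hF : Fintype.card F = q ^ 2) {G : Type*} [Group G]
    {V A B : Subgroup G} (χ : V ≃* SU 3 F q) (eA : SU 2 F q ≃* A) (eB : SU 2 F q ≃* B)
    (hA : A ≤ V) (hB : B ≤ V) {a b : Fin 3 → F} (ha1 : hermForm 3 F q a a = 1)
    (hb1 : hermForm 3 F q b b = 1) (hba : hermForm 3 F q b a = 0)
    (ha : ∀ u, ap (χ ⟨eA u, hA (eA u).2⟩) a = a) (hb : ∀ u, ap (χ ⟨eB u, hB (eB u).2⟩) b = b) :
    IsStandardUnitaryPair V A B F q := by
  obtain ⟨h, h0, h2⟩ := exists_SU_map_pair hF le_rfl (x := Pi.single (0 : Fin 3) 1)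
    (y := Pi.single (2 : Fin 3) (1 : F))
    (on_pair hF (single_unit hF 0) (single_unit hF 2) (by rw [herm_single_single hF]; simp))
    (on_pair hF hb1 ha1 hba)
  let φA : SU 2 F q →* SU 3 F q :=
    χ.toMonoidHom.comp ((Subgroup.inclusion hA).comp eA.toMonoidHom)
  let φB : SU 2 F q →* SU 3 F q :=
    χ.toMonoidHom.comp ((Subgroup.inclusion hB).comp eB.toMonoidHom)
  have hAi : Function.Injective φA :=
    χ.injective.comp ((Subgroup.inclusion_injective hA).comp eA.injective)
  have hBi : Function.Injective φB :=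
    χ.injective.comp ((Subgroup.inclusion_injective hB).comp eB.injective)
  obtain ⟨α, hα⟩ := exists_conj_emb hF hAi ha tL 2 tL_off h2
  obtain ⟨β, hβ⟩ := exists_conj_emb hF hBi hb tR 0 tR_off h0
  let ψ : SU 3 F q ≃* V := (MulAut.conj h).trans χ.symm
  have key : ∀ (ι : Fin 2 ↪ Fin 3) (C : Subgroup G) (hC : C ≤ V) (eC : SU 2 F q ≃* C)
      (γ : SU 2 F q ≃* SU 2 F q),
      (∀ u, χ ⟨eC u, hC (eC u).2⟩ = h * emb hF ι (γ u) * h⁻¹) →
      (suBlock 3 F q (Set.range ι)).map (V.subtype.comp ψ.toMonoidHom) = C := by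
    intro ι C hC eC γ hγ
    rw [suBlock_eq_range hF, MonoidHom.map_range]
    have hval : ∀ u, ((V.subtype.comp ψ.toMonoidHom).comp (emb hF ι)) (γ u) = (eC u : G) := by
      intro u
      show ((χ.symm (h * emb hF ι (γ u) * h⁻¹) : V) : G) = _
      rw [← hγ, χ.symm_apply_apply]
    ext g
    constructor
    · rintro ⟨v, rfl⟩
      rw [← γ.apply_symm_apply v, hval]
      exact (eC _).2
    · intro hg
      exact ⟨γ (eC.symm ⟨g, hg⟩), by rw [hval, eC.apply_symm_apply]⟩
  refine Or.inl ⟨ψ, ?_, ?_⟩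
  · rw [← range_tL]; exact key tL A hA eA α hα
  · rw [← range_tR]; exact key tR B hB eB β hβ

/-- Two copies of `SU₂` with commuting cyclic tori generating `SU₃` form a standard pair. -/
theorem isStandard_of_tori (hF : Fintype.card F = q ^ 2) (hq : 4 ≤ q) {G : Type*} [Group G]
    {A B DA DB : Subgroup G} (χ : ↥(A ⊔ B) ≃* SU 3 F q) (eA : SU 2 F q ≃* A)
    (eB : SU 2 F q ≃* B) (hDA : DA ≤ A ∧ IsCyclic DA ∧ Nat.card DA = q + 1)
    (hDB : DB ≤ B ∧ IsCyclic DB ∧ Nat.card DB = q + 1)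
    (hcomm : ∀ x ∈ DA, ∀ y ∈ DB, x * y = y * x) :
    IsStandardUnitaryPair (A ⊔ B) A B F q := by
  have hA : A ≤ A ⊔ B := le_sup_left
  have hB : B ≤ A ⊔ B := le_sup_right
  let φA : SU 2 F q →* SU 3 F q :=
    χ.toMonoidHom.comp ((Subgroup.inclusion hA).comp eA.toMonoidHom)
  let φB : SU 2 F q →* SU 3 F q :=
    χ.toMonoidHom.comp ((Subgroup.inclusion hB).comp eB.toMonoidHom)
  have hAi : Function.Injective φA :=
    χ.injective.comp ((Subgroup.inclusion_injective hA).comp eA.injective)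
  have hBi : Function.Injective φB :=
    χ.injective.comp ((Subgroup.inclusion_injective hB).comp eB.injective)
  obtain ⟨a, ha1, ha⟩ := exists_fixed_unit hF hq hAi
  obtain ⟨b, hb1, hb⟩ := exists_fixed_unit hF hq hBi
  have gen : ∀ {C D : Subgroup G} (eC : SU 2 F q ≃* C), D ≤ C ∧ IsCyclic D ∧ Nat.card D = q + 1 →
      ∃ x : SU 2 F q, (eC x : G) ∈ D ∧ x ^ (q + 1) = 1 ∧ x * x ≠ 1 := by
    intro C D eC hD
    have : IsCyclic D := hD.2.1
    obtain ⟨g, hg⟩ := IsCyclic.exists_generator (α := D)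
    have ho : orderOf g = q + 1 := by rw [orderOf_eq_card_of_forall_mem_zpowers hg, hD.2.2]
    refine ⟨eC.symm ⟨g, hD.1 g.2⟩, by rw [eC.apply_symm_apply]; exact g.2, ?_, fun h => ?_⟩
    · rw [← map_pow, ← map_one eC.symm]
      congr 1
      refine Subtype.ext ?_
      show (g : G) ^ (q + 1) = 1
      rw [← Subgroup.coe_pow, ← ho, pow_orderOf_eq_one, Subgroup.coe_one]
    · rw [← map_mul, MulEquiv.map_eq_one_iff] at h
      have h' : g ^ 2 = 1 := by
        rw [pow_two]
        have h'' : (g : G) * g = 1 := congrArg Subtype.val h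
        exact Subtype.ext h''
      have := Nat.le_of_dvd (by norm_num) (ho ▸ orderOf_dvd_of_pow_eq_one h')
      omega
  obtain ⟨x, hxD, hx, hx2⟩ := gen eA hDA
  obtain ⟨y, hyD, hy, hy2⟩ := gen eB hDB
  have hne : ¬ ∀ u, ap (φB u) a = a := by
    intro hall
    let S : Subgroup ↥(A ⊔ B) :=
      { carrier := {g | ap (χ g) a = a}
        one_mem' := by show ap (χ 1) a = a; rw [map_one, ap_one]
        mul_mem' := fun {g g'} (h : ap (χ g) a = a) (h' : ap (χ g') a = a) => by
          show ap (χ (g * g')) a = a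
          rw [map_mul, ap_mul, h', h]
        inv_mem' := fun {g} (h : ap (χ g) a = a) => by
          show ap (χ g⁻¹) a = a
          conv_lhs => rw [← h, map_inv]
          rw [ap_inv_ap] }
    have htop : A.subgroupOf (A ⊔ B) ⊔ B.subgroupOf (A ⊔ B) = ⊤ := by
      rw [← Subgroup.subgroupOf_sup hA hB, Subgroup.subgroupOf_self]
    have hS : ∀ g, g ∈ S := by
      intro g
      refine (sup_le ?_ ?_ : A.subgroupOf (A ⊔ B) ⊔ B.subgroupOf (A ⊔ B) ≤ S) (htop ▸ Subgroup.mem_top g)
      · intro g hg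
        have h := ha (eA.symm ⟨g, hg⟩)
        show ap (χ g) a = a
        have e : (Subgroup.inclusion hA) (eA (eA.symm ⟨g, hg⟩)) = g := by
          rw [eA.apply_symm_apply]; rfl
        exact e ▸ h
      · intro g hg
        have h := hall (eB.symm ⟨g, hg⟩)
        show ap (χ g) a = a
        have e : (Subgroup.inclusion hB) (eB (eB.symm ⟨g, hg⟩)) = g := by
          rw [eB.apply_symm_apply]; rfl
        exact e ▸ h
    obtain ⟨a', ha', haa⟩ := exists_unit_perp_one hF (by omega) ha1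
    obtain ⟨g, hg⟩ := exists_SU_map_unit hF (by omega) ha1 ha'
    have h : ap (χ (χ.symm g)) a = a := hS _
    rw [χ.apply_symm_apply, hg] at h
    rw [h, ha1] at haa
    exact one_ne_zero haa
  refine isStandard_of_axes hF χ eA eB hA hB ha1 hb1
    (axes_orth hF hAi hBi ha1 hb1 ha hb hne hx hx2 hy hy2 ?_) ha hb
  refine (show Commute (Subgroup.inclusion hA (eA x)) (Subgroup.inclusion hB (eB y)) from
    Subtype.ext ?_).map χ.toMonoidHom
  exact hcomm _ hxD _ hyD

end Cfsg.Agent.Cores.Phan
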