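import Mathlib
import Cfsg.Agent.Cores.Phan.Step
import Cfsg.Agent.Unitary.Isotropic

/-!
Special unitary groups over the field of four elements: isotropic transitivity, common orthogonal
unit vectors, generation by blocks of size three.
-/

set_option autoImplicit false
set_option linter.unusedSectionVars false

namespace Cfsg.Agent.Cores.Phan

open Cfsg Cfsg.Agent.Unitary Matrix

variable {F : Type*} [Field F] [Fintype F] {n m q : ℕ}

/-- Facts about the field of four elements. -/
theorem two_facts (hF : Fintype.card F = 2 ^ 2) :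
    (2 : F) = 0 ∧ (∀ x : F, x ≠ 0 → x * x ^ 2 = 1) ∧
      ∃ w : F, w * w + w + 1 = 0 ∧ w ≠ 0 ∧ w ≠ 1 := by
  have h2 : ((2 : ℕ) : F) = 0 := natCast_q_eq_zero hF
  have h2' : (2 : F) = 0 := by exact_mod_cast h2
  have hcube : ∀ x : F, x ≠ 0 → x * x ^ 2 = 1 := fun x hx => by
    have h := FiniteField.pow_card_sub_one_eq_one x hx
    rw [hF] at h
    rw [← pow_succ']
    exact h
  refine ⟨h2', hcube, ?_⟩
  obtain ⟨w, hw, hw1⟩ := exists_norm_one_sq hF
  have hw0 : w ≠ 0 := fun h => by simp [h] at hw
  refine ⟨w, ?_, hw0, hw1⟩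
  have : (w - 1) * (w * w + w + 1) = 0 := by linear_combination hw
  exact (mul_eq_zero.1 this).resolve_left (sub_ne_zero.2 hw1)
where
  exists_norm_one_sq (hF : Fintype.card F = 2 ^ 2) : ∃ w : F, w * w ^ 2 = 1 ∧ w ≠ 1 := by
    classical
    by_contra hcon
    push Not at hcon
    have hc : ∀ x : F, x ≠ 0 → x = 1 := fun x hx => hcon x (by
      have h := FiniteField.pow_card_sub_one_eq_one x hx
      rw [hF] at h
      rw [← pow_succ']
      exact h)
    have hsub : (Finset.univ : Finset F) ⊆ {0, 1} := by
      intro x _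
      by_cases hx : x = 0
      · simp [hx]
      · simp [hc x hx]
    have := (Finset.card_le_card hsub).trans Finset.card_le_two
    rw [Finset.card_univ, hF] at this
    omega

theorem neg_eq_self (h2 : (2 : F) = 0) (x : F) : -x = x := by linear_combination -x * h2

/-- `SU` is transitive on non-zero isotropic vectors over the field of four elements. -/
theorem exists_SU_map_iso (hF : Fintype.card F = 2 ^ 2) (hn : 3 ≤ n) {v v' : Fin n → F}
    (hv : hermForm n F 2 v v = 0) (hv0 : v ≠ 0) (hv' : hermForm n F 2 v' v' = 0) (hv0' : v' ≠ 0) :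
    ∃ g : SU n F 2, ap g v = v' := by
  obtain ⟨h2, hcube, w, hw, hw0, hw1⟩ := two_facts hF
  have pairs : ∀ {v : Fin n → F}, hermForm n F 2 v v = 0 → v ≠ 0 →
      ∃ x y : Fin n → F, ON 2 ![x, y] ∧ x + y = v := by
    intro v hv hv0
    obtain ⟨f, -, hf, hfv⟩ := exists_partner hF (nondeg_top hF) Submodule.mem_top hv0 hv
    have hvf : hermForm n F 2 v f = 1 := by rw [← herm_swap hF f v, hfv, one_pow]
    refine ⟨f + w • v, v - (f + w • v), on_pair hF ?_ ?_ ?_, by abel⟩
    · simp only [herm_add_left, herm_add_right hF, herm_smul_left, herm_smul_right, hf, hv, hfv, hvf]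
      linear_combination hw - h2
    · simp only [herm_add_left, herm_add_right hF, herm_sub_left, herm_sub_right hF, herm_smul_left,
        herm_smul_right, hf, hv, hfv, hvf]
      linear_combination hw - 2 * h2
    · simp only [herm_add_left, herm_add_right hF, herm_sub_right hF, herm_smul_left,
        herm_smul_right, hf, hv, hfv, hvf]
      linear_combination -hw + h2
  obtain ⟨x, y, hxy, rfl⟩ := pairs hv hv0
  obtain ⟨x', y', hxy', rfl⟩ := pairs hv' hv0'
  obtain ⟨g, hg1, hg2⟩ := exists_SU_map_pair hF hn hxy hxy'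
  exact ⟨g, by rw [ap_add, hg1, hg2]⟩

/-- A non-degenerate space of dimension three has a unit vector orthogonal to a given one. -/
theorem exists_unit_perp_in (hF : Fintype.card F = q ^ 2) {W : Submodule F (Fin n → F)}
    (hW : Nondeg q W) (hd : 3 ≤ Module.finrank F W) {p : Fin n → F} (hp : p ∈ W) :
    ∃ d ∈ W, hermForm n F q d d = 1 ∧ hermForm n F q d p = 0 := by
  by_cases hp0 : p = 0
  · obtain ⟨d, hd', hd1⟩ := exists_norm_one hF hW (fun hb => by rw [hb, finrank_bot] at hd; omega)
    exact ⟨d, hd', hd1, by rw [hp0, herm_zero_right hF]⟩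
  by_cases hpp : hermForm n F q p p = 0
  · obtain ⟨f, hfW, hf, hfp⟩ := exists_partner hF hW hp hp0 hpp
    have hpf : hermForm n F q p f ≠ 0 := by rw [← herm_swap hF f p, hfp, one_pow]; exact one_ne_zero
    have hP := nondeg_pair hF hpp hf hpf
    have hPW := span_pair_le hp hfW
    have hK := inf_perp_nondeg hF hW hP hPW
    have hdK := inf_perp_finrank hF hP hPW
    rw [finrank_pair (indep_pair hF hpp hpf)] at hdK
    have hne : W ⊓ Unitary.perp q (Submodule.span F ({p, f} : Set (Fin n → F)) : Set (Fin n → F)) ≠ ⊥ := by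
      intro hb
      rw [hb, finrank_bot] at hdK
      omega
    obtain ⟨d, hdK', hd1⟩ := exists_norm_one hF hK hne
    have h' := hdK'.2
    rw [perp_span hF] at h'
    exact ⟨d, hdK'.1, hd1, (mem_perp_pair.1 h').1⟩
  · have hP : Nondeg q (Submodule.span F ({p} : Set (Fin n → F))) := by
      intro x hx h
      obtain ⟨a, rfl⟩ := Submodule.mem_span_singleton.1 hx
      have h' := h p (Submodule.mem_span_singleton_self p)
      rw [herm_smul_left] at h'
      rw [(mul_eq_zero.1 h').resolve_right hpp, zero_smul]
    have hPW : Submodule.span F ({p} : Set (Fin n → F)) ≤ W :=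
      (Submodule.span_singleton_le_iff_mem p W).2 hp
    have hK := inf_perp_nondeg hF hW hP hPW
    have hdK := inf_perp_finrank hF hP hPW
    rw [finrank_span_singleton hp0] at hdK
    have hne : W ⊓ Unitary.perp q (Submodule.span F ({p} : Set (Fin n → F)) : Set (Fin n → F)) ≠ ⊥ := by
      intro hb
      rw [hb, finrank_bot] at hdK
      omega
    obtain ⟨d, hdK', hd1⟩ := exists_norm_one hF hK hne
    have h' := hdK'.2
    rw [perp_span hF] at h'
    exact ⟨d, hdK'.1, hd1, mem_perp_singleton.1 h'⟩

/-- A unit vector orthogonal to two orthogonal unit vectors and a third vector. -/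
theorem exists_common_perp (hF : Fintype.card F = q ^ 2) (hn : 5 ≤ n) {e x y : Fin n → F}
    (hx : hermForm n F q x x = 1) (hy : hermForm n F q y y = 1) (hxy : hermForm n F q x y = 0) :
    ∃ d, hermForm n F q d d = 1 ∧ hermForm n F q d e = 0 ∧ hermForm n F q d x = 0 ∧
      hermForm n F q d y = 0 := by
  obtain ⟨hW, hWd⟩ := nondeg_perp_of_ON hF (on_pair hF hx hy hxy)
  rw [Fintype.card_fin] at hWd
  obtain ⟨p, hp⟩ : ∃ p, p = e - hermForm n F q e x • x - hermForm n F q e y • y := ⟨_, rfl⟩
  have hpm : p ∈ Unitary.perp q (Set.range ![x, y]) := mem_perp_two.2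
    ⟨by simp [hp, herm_sub_left, herm_smul_left, hx, (herm_eq_zero_symm hF).1 hxy],
     by simp [hp, herm_sub_left, herm_smul_left, hy, hxy]⟩
  obtain ⟨d, hdW, hd1, hdp⟩ := exists_unit_perp_in hF hW (by omega) hpm
  obtain ⟨hdx, hdy⟩ := mem_perp_two.1 hdW
  refine ⟨d, hd1, ?_, hdx, hdy⟩
  rw [hp, herm_sub_right hF, herm_sub_right hF, herm_smul_right, herm_smul_right, hdx, hdy] at hdp
  simpa using hdp

/-- A unit vector orthogonal to a unit vector and a second vector. -/
theorem exists_common_perp_one (hF : Fintype.card F = q ^ 2) (hn : 4 ≤ n) {e x : Fin n → F}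
    (hx : hermForm n F q x x = 1) :
    ∃ d, hermForm n F q d d = 1 ∧ hermForm n F q d e = 0 ∧ hermForm n F q d x = 0 := by
  have hon : ON q (fun _ : Fin 1 => x) := fun i j => by simp [hx, Subsingleton.elim i j]
  obtain ⟨hW, hWd⟩ := nondeg_perp_of_ON hF hon
  rw [Fintype.card_fin] at hWd
  obtain ⟨p, hp⟩ : ∃ p, p = e - hermForm n F q e x • x := ⟨_, rfl⟩
  have hpm : p ∈ Unitary.perp q (Set.range fun _ : Fin 1 => x) := by
    rintro _ ⟨i, rfl⟩
    simp [hp, herm_sub_left, herm_smul_left, hx]
  obtain ⟨d, hdW, hd1, hdp⟩ := exists_unit_perp_in hF hW (by omega) hpm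
  have hdx : hermForm n F q d x = 0 := hdW x ⟨0, rfl⟩
  refine ⟨d, hd1, ?_, hdx⟩
  rw [hp, herm_sub_right hF, herm_smul_right, hdx] at hdp
  simpa using hdp

/-- The subgroup generated by the blocks of size three. -/
def triGen (hF : Fintype.card F = q ^ 2) (m : ℕ) : Subgroup (SU m F q) :=
  ⨆ (i : ℕ) (h : i + 3 ≤ m), (emb hF (seg i 3 m h)).range

theorem emb_mem_triGen (hF : Fintype.card F = q ^ 2) {i : ℕ} (h : i + 3 ≤ m) (g : SU 3 F q) :
    emb hF (seg i 3 m h) g ∈ triGen hF m :=
  Subgroup.mem_iSup_of_mem i (Subgroup.mem_iSup_of_mem h ⟨g, rfl⟩)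

/-- Over the field of four elements the blocks of size three generate. -/
theorem triGen_eq_top (hF : Fintype.card F = 2 ^ 2) (hm : 3 ≤ m) : triGen hF m = ⊤ := by
  obtain ⟨h2, hcube, -⟩ := two_facts hF
  induction m, hm using Nat.le_induction with
  | base =>
    rw [eq_top_iff]
    intro g _
    obtain ⟨g', hg'⟩ := exists_emb_eq hF (seg 0 3 3 (by omega)) (g := g)
      (fun i hi => absurd (Fin.ext (by simp)) (hi i))
    exact hg' ▸ emb_mem_triGen hF _ g'
  | succ m hm ih =>
    set H := triGen hF (m + 1) with hH
    have hsub : ∀ g : SU m F 2, emb hF (seg 0 m (m + 1) (by omega)) g ∈ H := by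
      intro g
      have hg : g ∈ triGen hF m := ih ▸ Subgroup.mem_top g
      refine (show triGen hF m ≤ H.comap (emb hF (seg 0 m (m + 1) (by omega))) from
        iSup₂_le fun i h => ?_) hg
      rintro _ ⟨a, rfl⟩
      rw [Subgroup.mem_comap, emb_emb, seg_trans i 3 0 m (m + 1) h (by omega) (by omega)]
      simp only [Nat.zero_add]
      exact emb_mem_triGen hF _ a
    set s3 := seg (m - 2) 3 (m + 1) (by omega) with hs3
    set sA := seg 0 m (m + 1) (by omega) with hsA
    set last : Fin (m + 1) → F := Pi.single (Fin.last m) 1 with hlast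
    have three : ∀ x : Fin (m + 1) → F, hermForm (m + 1) F 2 x x = 1 →
        (∀ i : Fin (m + 1), (i : ℕ) + 2 < m → x i = 0) → ∃ g ∈ H, ap g x = last := by
      intro x hx hoff
      obtain ⟨g, hg⟩ := exists_emb_map hF (by omega) s3 (x := x) (y := last)
        (fun i hi => hoff i (by
          by_contra hcon
          exact hi ⟨(i : ℕ) - (m - 2), by have := i.isLt; omega⟩ (Fin.ext (by simp [hs3]; omega))))
        (fun i hi => by
          rw [hlast, Pi.single_eq_of_ne]
          intro e
          exact hi 2 (Fin.ext (by simp [hs3, e]; omega)))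
        hx (single_unit hF _)
      exact ⟨_, emb_mem_triGen hF _ g, hg⟩
    have trans_ : ∀ x : Fin (m + 1) → F, hermForm (m + 1) F 2 x x = 1 → ∃ g ∈ H, ap g x = last := by
      intro x hx
      set w := fun j : Fin m => x (sA j) with hwdef
      set t := x (Fin.last m) with htdef
      have hsplit : x = inj F sA *ᵥ w + Pi.single (Fin.last m) t := by
        ext i
        induction i using Fin.lastCases with
        | last =>
          rw [Pi.add_apply, inj_mulVec_off, Pi.single_eq_same, zero_add]
          intro j e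
          have := congrArg Fin.val e
          simp [hsA] at this
          omega
        | cast i =>
          rw [Pi.add_apply, Pi.single_eq_of_ne (Fin.castSucc_lt_last i).ne, add_zero,
            show i.castSucc = sA i from Fin.ext (by simp [hsA]), inj_mulVec]
      have hnorm : hermForm m F 2 w w + t * t ^ 2 = 1 := by
        rw [← hx, hermForm, hermForm, Fin.sum_univ_castSucc]
        congr 1
        refine Finset.sum_congr rfl fun j _ => ?_
        show x (sA j) * x (sA j) ^ 2 = _
        rw [show sA j = j.castSucc from Fin.ext (by simp [hsA])]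
      obtain ⟨a, ha⟩ : ∃ a : SU m F 2, ∀ j : Fin m, (j : ℕ) + 2 < m → ap a w j = 0 := by
        by_cases ht : t = 0
        · rw [ht, zero_mul, add_zero] at hnorm
          obtain ⟨a, ha⟩ := exists_SU_map_unit hF (by omega) hnorm
            (single_unit hF (⟨m - 1, by omega⟩ : Fin m))
          exact ⟨a, fun j hj => by
            rw [ha, Pi.single_eq_of_ne]
            intro e
            rw [e] at hj
            simp at hj
            omega⟩
        · rw [hcube t ht, add_eq_right] at hnorm
          by_cases hw0 : w = 0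
          · exact ⟨1, fun j _ => by rw [ap_one, hw0]; rfl⟩
          set v' : Fin m → F :=
            Pi.single ⟨m - 2, by omega⟩ 1 + Pi.single ⟨m - 1, by omega⟩ 1 with hv'
          have hne : (⟨m - 2, by omega⟩ : Fin m) ≠ ⟨m - 1, by omega⟩ := by
            intro e; have := congrArg Fin.val e; simp at this; omega
          obtain ⟨a, ha⟩ := exists_SU_map_iso hF hm hnorm hw0 (v' := v')
            (by
              simp only [hv', herm_add_left, herm_add_right hF, herm_single_single hF, hne,
                hne.symm, if_pos, if_neg, not_false_iff]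
              linear_combination h2)
            (fun e => by
              have := congrFun e ⟨m - 2, by omega⟩
              simp [hv', hne] at this)
          exact ⟨a, fun j hj => by
            rw [ha, hv', Pi.add_apply, Pi.single_eq_of_ne, Pi.single_eq_of_ne, add_zero]
            · intro e; rw [e] at hj; simp at hj; omega
            · intro e; rw [e] at hj; simp at hj; omega⟩
      have hmove : ap (emb hF sA a) x = inj F sA *ᵥ ap a w + Pi.single (Fin.last m) t := by
        rw [hsplit, ap_add, ap_emb_on, ap_emb_off]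
        intro j
        rw [Pi.single_eq_of_ne]
        intro e
        have := congrArg Fin.val e
        simp [hsA] at this
        omega
      obtain ⟨g, hg, hgx⟩ := three (ap (emb hF sA a) x) (by rw [herm_ap, hx]) (fun i hi => by
        have hi' : (i : ℕ) < m := by omega
        rw [hmove, Pi.add_apply, show i = sA ⟨i, hi'⟩ from Fin.ext (by simp [hsA]), inj_mulVec,
          ha _ hi, zero_add, Pi.single_eq_of_ne]
        intro e
        have := congrArg Fin.val e
        simp [hsA] at this
        omega)
      exact ⟨g * _, H.mul_mem hg (hsub a), by rw [ap_mul, hgx]⟩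
    rw [eq_top_iff]
    intro g _
    obtain ⟨a, ha, hax⟩ := trans_ (ap g last) (by rw [herm_ap, hlast, single_unit hF])
    obtain ⟨b, hb⟩ := exists_emb_eq hF sA (g := a * g) (fun i hi => by
      obtain rfl : i = Fin.last m := by
        induction i using Fin.lastCases with
        | last => rfl
        | cast j => exact absurd (Fin.ext (by simp [hsA])) (hi j)
      rw [ap_mul, ← hlast, hax])
    have : g = a⁻¹ * (a * g) := (inv_mul_cancel_left a g).symm
    rw [this, ← hb]
    exact H.mul_mem (H.inv_mem ha) (hsub b)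

end Cfsg.Agent.Cores.Phan
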