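import Mathlib
import Cfsg.Agent.Cores.Phan.TwoGen
import Cfsg.Agent.Cores.Phan.BlockTools

/-!
The group `SU₃(2)`: generation and rigidity relative to its two standard blocks.
-/

set_option autoImplicit false
set_option linter.unusedSectionVars false

namespace Cfsg.Agent.Cores.Phan

open Cfsg Cfsg.Agent.Unitary Matrix

variable {F : Type*} [Field F] [Fintype F]

/-- An element of `SU₂(2)` is diagonal or an involution. -/
theorem two_cases_su (hF : Fintype.card F = 2 ^ 2) (u : SU 2 F 2) :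
    IsDiag u ∨ (mat u 0 0 = 0 ∧ mat u 1 1 = 0 ∧ u * u = 1) := by
  obtain ⟨h2, hcube, -⟩ := two_facts hF
  by_cases hb : mat u 0 1 = 0
  · exact Or.inl hb
  have ha : mat u 0 0 = 0 := by
    by_contra ha
    have h := norm_row_two hF u
    rw [hcube _ ha, hcube _ hb] at h
    exact one_ne_zero (show (1 : F) = 0 by linear_combination h2 - h)
  obtain ⟨e10, e11⟩ := entries_two hF u
  have h11 : mat u 1 1 = 0 := by rw [e11, ha]; simp
  refine Or.inr ⟨ha, h11, ext_mat ?_⟩
  have h10 : mat u 1 0 = mat u 0 1 ^ 2 := by rw [e10, neg_eq_self h2]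
  rw [mat_mul]
  ext i j
  fin_cases i <;> fin_cases j <;>
    simp [Matrix.mul_apply, Fin.sum_univ_two, ha, h11, h10, mat]
  all_goals linear_combination hcube _ hb

/-- A map with trivial cubes on `SU₂(2)` is trivial. -/
theorem eq_one_of_pow_three (hF : Fintype.card F = 2 ^ 2) {M : Type*} [Monoid M]
    (χ : SU 2 F 2 →* M) (h3 : ∀ x, χ x ^ 3 = 1) (u : SU 2 F 2) : χ u = 1 := by
  have hinv : ∀ v : SU 2 F 2, v * v = 1 → χ v = 1 := fun v hv => by
    have h := h3 v
    rwa [pow_succ, pow_two, ← map_mul, hv, map_one, one_mul] at h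
  obtain ⟨w, hw⟩ := exists_swap (F := F) (q := 2) hF
  have hw01 : mat w 0 1 = 1 := by rw [← ap_single, hw, Pi.single_eq_same]
  obtain ⟨hw00, hw11, hww⟩ := (two_cases_su hF w).resolve_left (fun h => by
    have : mat w 0 1 = 0 := h
    rw [hw01] at this
    exact one_ne_zero this)
  rcases two_cases_su hF u with hu | ⟨-, -, hu⟩
  · rcases two_cases_su hF (u * w) with h | ⟨-, -, h⟩
    · exfalso
      have h' : mat (u * w) 0 1 = 0 := h
      rw [mat_mul, Matrix.mul_apply, Fin.sum_univ_two, hw01, hw11, mul_one, mul_zero, add_zero] at h'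
      exact ne_zero_of_norm (hu.norm hF) h'
    · have := hinv _ h
      rwa [map_mul, hinv _ hww, mul_one] at this
  · exact hinv _ hu

/-- The finite Fourier transform in `SU₃(2)`. -/
theorem exists_fourier (hF : Fintype.card F = 2 ^ 2) {w : F} (hw : w * w + w + 1 = 0) :
    ∃ R : SU 3 F 2, mat R = !![1, 1, 1; 1, w, w * w; 1, w * w, w] ∧ R * R * (R * R) = 1 := by
  obtain ⟨h2, -, -⟩ := two_facts hF
  have hp : Preserves 2 (!![1, 1, 1; 1, w, w * w; 1, w * w, w] : Matrix (Fin 3) (Fin 3) F) := by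
    rw [preserves_iff_transpose_mul hF]
    ext i j
    fin_cases i <;> fin_cases j <;> simp [Matrix.mul_apply, Fin.sum_univ_three] <;> grind
  have hd : (!![1, 1, 1; 1, w, w * w; 1, w * w, w] : Matrix (Fin 3) (Fin 3) F).det = 1 := by
    rw [Matrix.det_fin_three]
    simp
    grind
  have hsq : (!![1, 1, 1; 1, w, w * w; 1, w * w, w] : Matrix (Fin 3) (Fin 3) F) *
      !![1, 1, 1; 1, w, w * w; 1, w * w, w] = !![1, 0, 0; 0, 0, 1; 0, 1, 0] := by
    ext i j
    fin_cases i <;> fin_cases j <;> simp [Matrix.mul_apply, Fin.sum_univ_three] <;> grind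
  refine ⟨toSU hp hd, rfl, ext_mat ?_⟩
  show (_ * _) * (_ * _) = (1 : Matrix (Fin 3) (Fin 3) F)
  change (!![1, 1, 1; 1, w, w * w; 1, w * w, w] * !![1, 1, 1; 1, w, w * w; 1, w * w, w] :
    Matrix (Fin 3) (Fin 3) F) * (!![1, 1, 1; 1, w, w * w; 1, w * w, w] *
      !![1, 1, 1; 1, w, w * w; 1, w * w, w]) = 1
  rw [hsq]
  ext i j
  fin_cases i <;> fin_cases j <;> simp [Matrix.mul_apply, Fin.sum_univ_three]

/-- The subgroup generated by the two blocks. -/
def mono (hF : Fintype.card F = 2 ^ 2) : Subgroup (SU 3 F 2) :=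
  (emb hF tL).range ⊔ (emb hF tR).range

/-- Two of the coordinates of a unit vector vanish when one does. -/
theorem unit_single (hF : Fintype.card F = 2 ^ 2) {x : Fin 3 → F}
    (hx : hermForm 3 F 2 x x = 1) (hz : ∃ i, x i = 0) : ∃ i, ∀ j, j ≠ i → x j = 0 := by
  obtain ⟨h2, hcube, -⟩ := two_facts hF
  rw [hermForm, Fin.sum_univ_three] at hx
  have e : ∀ i, x i * x i ^ 2 = 0 ∧ x i = 0 ∨ x i * x i ^ 2 = 1 ∧ x i ≠ 0 := fun i =>
    (em (x i = 0)).imp (fun h => ⟨by rw [h, zero_mul], h⟩) fun h => ⟨hcube _ h, h⟩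
  have no2 : (1 : F) + 1 ≠ 1 := fun h => one_ne_zero (show (1 : F) = 0 by linear_combination h)
  obtain ⟨i, hi⟩ := hz
  rcases e 0 with ⟨a, a'⟩ | ⟨a, a'⟩ <;> rcases e 1 with ⟨b, b'⟩ | ⟨b, b'⟩ <;>
    rcases e 2 with ⟨c, c'⟩ | ⟨c, c'⟩ <;> rw [a, b, c] at hx
  · exact absurd hx (by simp)
  · exact ⟨2, fun j hj => by fin_cases j <;> simp_all⟩
  · exact ⟨1, fun j hj => by fin_cases j <;> simp_all⟩
  · exact absurd (show (1 : F) + 1 = 1 by linear_combination hx) no2
  · exact ⟨0, fun j hj => by fin_cases j <;> simp_all⟩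
  · exact absurd (show (1 : F) + 1 = 1 by linear_combination hx) no2
  · exact absurd (show (1 : F) + 1 = 1 by linear_combination hx) no2
  · exfalso; fin_cases i <;> simp_all

theorem tR_off_two (i : Fin 3) : (∀ j, tR j ≠ i) → i = 0 := by revert i; decide

theorem tL_off_two (i : Fin 3) : (∀ j, tL j ≠ i) → i = 2 := by revert i; decide

/-- A unit vector with a vanishing coordinate is moved to the last one inside `mono`. -/
theorem mono_move (hF : Fintype.card F = 2 ^ 2) {x : Fin 3 → F}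
    (hx : hermForm 3 F 2 x x = 1) (hz : ∃ i, x i = 0) :
    ∃ g ∈ mono hF, ap g x = Pi.single 2 1 := by
  obtain ⟨i, hi⟩ := unit_single hF hx hz
  have right : ∀ y : Fin 3 → F, hermForm 3 F 2 y y = 1 → y 0 = 0 →
      ∃ g ∈ mono hF, ap g y = Pi.single 2 1 := by
    intro y hy hy0
    obtain ⟨g, hg⟩ := exists_emb_map hF le_rfl tR (x := y) (y := Pi.single 2 1)
      (fun j hj => by rw [tR_off_two j hj]; exact hy0)
      (fun j hj => by rw [tR_off_two j hj]; simp) hy (single_unit hF 2)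
    exact ⟨_, Subgroup.mem_sup_right ⟨g, rfl⟩, hg⟩
  by_cases hi0 : i = 0
  · subst hi0
    obtain ⟨g, hg⟩ := exists_emb_map hF le_rfl tL (x := x) (y := Pi.single 1 1)
      (fun j hj => by rw [tL_off_two j hj]; exact hi 2 (by decide))
      (fun j hj => by rw [tL_off_two j hj]; simp) hx (single_unit hF 1)
    obtain ⟨g', hg', hg'x⟩ := right (ap (emb hF tL g) x) (by rw [herm_ap, hx]) (by rw [hg]; simp)
    exact ⟨g' * _, mul_mem hg' (Subgroup.mem_sup_left ⟨g, rfl⟩), by rw [ap_mul, hg'x]⟩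
  · exact right x hx (hi 0 (Ne.symm hi0))

/-- Membership in `mono`. -/
theorem mem_mono_of_zero (hF : Fintype.card F = 2 ^ 2) {g : SU 3 F 2}
    (hz : ∃ i, ap g (Pi.single 2 1) i = 0) : g ∈ mono hF := by
  obtain ⟨h, hh, hhx⟩ := mono_move hF (x := ap g (Pi.single 2 1))
    (by rw [herm_ap, single_unit hF]) hz
  obtain ⟨u, hu⟩ := exists_emb_eq hF tL (g := h * g) (fun i hi => by
    obtain rfl := tL_off_two i hi
    rw [ap_mul, hhx])
  rw [show g = h⁻¹ * (h * g) from (inv_mul_cancel_left h g).symm, ← hu]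
  exact mul_mem (inv_mem hh) (Subgroup.mem_sup_left ⟨u, rfl⟩)

theorem norm_first {c : F} {q : ℕ} (hc : c * c ^ q = 1) :
    ∀ i, (![c, 1, 1] : Fin 3 → F) i * (![c, 1, 1] : Fin 3 → F) i ^ q = 1 := by
  intro i
  fin_cases i <;> simp [hc]

/-- Diagonal maps preserve `mono`. -/
theorem semi_mono (hF : Fintype.card F = 2 ^ 2) {ν : Fin 3 → F} (hν : ∀ i, ν i * ν i ^ 2 = 1)
    {g : SU 3 F 2} (hg : g ∈ mono hF) : semi hF ν hν (RingEquiv.refl F) g ∈ mono hF := by
  refine (show mono hF ≤ (mono hF).comap (semi hF ν hν (RingEquiv.refl F)) from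
    sup_le ?_ ?_) hg
  · rintro _ ⟨u, rfl⟩
    rw [Subgroup.mem_comap, semi_emb]
    exact Subgroup.mem_sup_left ⟨_, rfl⟩
  · rintro _ ⟨u, rfl⟩
    rw [Subgroup.mem_comap, semi_emb]
    exact Subgroup.mem_sup_right ⟨_, rfl⟩

/-- The product of the coordinates is invariant under a block. -/
theorem prod_invariant (hF : Fintype.card F = 2 ^ 2) (ι : Fin 2 ↪ Fin 3) (u : SU 2 F 2)
    {x : Fin 3 → F} (hx : ∀ i, x i ≠ 0) :
    (∀ i, ap (emb hF ι u) x i ≠ 0) ∧ ∏ i, ap (emb hF ι u) x i = ∏ i, x i := by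
  obtain ⟨h2, hcube, -⟩ := two_facts hF
  obtain ⟨k, hk0, hk1, hcov⟩ : ∃ k : Fin 3, k ≠ ι 0 ∧ k ≠ ι 1 ∧
      ∀ i, i = ι 0 ∨ i = ι 1 ∨ i = k := by
    have key : ∀ a b : Fin 3, a ≠ b →
        ∃ k : Fin 3, k ≠ a ∧ k ≠ b ∧ ∀ i, i = a ∨ i = b ∨ i = k := by decide
    exact key _ _ fun e => absurd (ι.injective e) (by decide)
  have hne : ι 0 ≠ ι 1 := fun e => absurd (ι.injective e) (by decide)
  have hprod : ∀ f : Fin 3 → F, ∏ i, f i = f (ι 0) * f (ι 1) * f k := by
    intro f
    have hs : (Finset.univ : Finset (Fin 3)) = {ι 0, ι 1, k} := by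
      ext i
      simp only [Finset.mem_univ, true_iff, Finset.mem_insert, Finset.mem_singleton]
      exact hcov i
    rw [hs, Finset.prod_insert (by simp [hne, hk0.symm]), Finset.prod_insert (by simp [hk1.symm]),
      Finset.prod_singleton, mul_assoc]
  have hoffk : ap (emb hF ι u) x k = x k := by
    have h := congrFun (congrArg (fun M => M *ᵥ x) (mat_emb hF ι u)) k
    rw [ap_def]
    refine h.trans ?_
    rw [Matrix.mulVec, dotProduct, Finset.sum_eq_single k]
    · rw [embMat_apply_off ι _ (Or.inl fun a => by fin_cases a; exacts [hk0.symm, hk1.symm]),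
        Matrix.one_apply_eq, one_mul]
    · intro l _ hl
      rw [embMat_apply_off ι _ (Or.inl fun a => by fin_cases a; exacts [hk0.symm, hk1.symm]),
        Matrix.one_apply_ne hl.symm, zero_mul]
    · simp
  have hc : ∀ j, ap (emb hF ι u) x (ι j) = mat u j 0 * x (ι 0) + mat u j 1 * x (ι 1) := by
    intro j
    rw [ap_emb_coord, ap_def, Matrix.mulVec, dotProduct, Fin.sum_univ_two]
  obtain ⟨e10, e11⟩ := entries_two hF u
  rw [hprod, hprod, hc, hc, hoffk]
  rcases two_cases_su hF u with hd | ⟨h00, h11, -⟩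
  · have h01 : mat u 0 1 = 0 := hd
    have h10 := hd.one_zero hF
    have ha0 : mat u 0 0 ≠ 0 := ne_zero_of_norm (hd.norm hF)
    refine ⟨fun i => ?_, ?_⟩
    · rcases hcov i with rfl | rfl | rfl
      · rw [hc, h01, zero_mul, add_zero]; exact mul_ne_zero ha0 (hx _)
      · rw [hc, h10, zero_mul, zero_add, e11]; exact mul_ne_zero (pow_ne_zero _ ha0) (hx _)
      · rw [hoffk]; exact hx _
    · rw [h01, h10, e11]
      linear_combination (x (ι 0) * x (ι 1) * x k) * hcube _ ha0
  · have hb0 : mat u 0 1 ≠ 0 := fun h0 => by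
      have h := norm_row_two hF u
      rw [h00, h0] at h
      simp at h
    refine ⟨fun i => ?_, ?_⟩
    · rcases hcov i with rfl | rfl | rfl
      · rw [hc, h00, zero_mul, zero_add]; exact mul_ne_zero hb0 (hx _)
      · rw [hc, h11, zero_mul, add_zero, e10, neg_eq_self h2]
        exact mul_ne_zero (pow_ne_zero _ hb0) (hx _)
      · rw [hoffk]; exact hx _
    · rw [h00, h11, e10, neg_eq_self h2]
      linear_combination (x (ι 0) * x (ι 1) * x k) * hcube _ hb0

/-- Each twisted Fourier transform normalises `mono`, and with it generates. -/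
theorem exists_extra (hF : Fintype.card F = 2 ^ 2) :
    ∃ R : F → SU 3 F 2,
      (∀ c, c ≠ 0 → R c * R c * (R c * R c) = 1) ∧
      (∀ c, c ≠ 0 → ∀ g ∈ mono hF, R c * g * (R c)⁻¹ ∈ mono hF) ∧
      ∀ H : Subgroup (SU 3 F 2), mono hF ≤ H → (∀ c, c ≠ 0 → R c ∈ H) → H = ⊤ := by
  classical
  obtain ⟨h2, hcube, w, hw, hw0, hw1⟩ := two_facts hF
  obtain ⟨R0, hR0, hR4⟩ := exists_fourier hF hw
  have hcol : ∀ i, mat R0 i 0 = 1 := fun i => by rw [hR0]; fin_cases i <;> rfl
  let R : F → SU 3 F 2 := fun c =>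
    if hc : c ≠ 0 then semi hF ![c, 1, 1] (norm_first (hcube c hc)) (RingEquiv.refl F) R0 else 1
  have hR : ∀ c (hc : c ≠ 0),
      R c = semi hF ![c, 1, 1] (norm_first (hcube c hc)) (RingEquiv.refl F) R0 := fun c hc => dif_pos hc
  -- the plain transform
  have hv : ∀ i, ap R0⁻¹ (Pi.single 2 1) i = (![1, w, w * w] : Fin 3 → F) i := by
    have h : ap R0⁻¹ (Pi.single 2 1) = (![1, w, w * w] : Fin 3 → F) := by
      refine ap_injective R0 ?_
      rw [ap_ap_inv, ap_def, hR0]
      ext i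
      fin_cases i <;> simp [Matrix.mulVec, dotProduct, Fin.sum_univ_three] <;> grind
    exact fun i => congrFun h i
  have hvan : ∀ y : Fin 3 → F, (∀ i, y i ≠ 0) → ∏ i, y i = 1 → ∃ i, ap R0 y i = 0 := by
    intro y hy hprod
    rw [Fin.prod_univ_three] at hprod
    obtain ⟨p, hp⟩ : ∃ p, p = y 1 / y 0 := ⟨_, rfl⟩
    have h1 : y 1 = p * y 0 := by rw [hp, div_mul_cancel₀ _ (hy 0)]
    have hp0 : p ≠ 0 := by rw [hp]; exact div_ne_zero (hy 1) (hy 0)
    have h2' : y 2 = p * p * y 0 := by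
      refine mul_left_cancel₀ (mul_ne_zero (hy 0) (hy 1)) ?_
      rw [h1] at hprod ⊢
      linear_combination hprod - (p * p * p) * hcube _ (hy 0) - hcube _ hp0
    have hp3 : p = 1 ∨ p = w ∨ p = w * w := by
      have h := hcube p hp0
      by_cases hp1 : p = 1
      · exact Or.inl hp1
      have hq : (p - w) * (p - w * w) = 0 := by
        have : (p - 1) * (p * p + p + 1) = 0 := by linear_combination h
        have := (mul_eq_zero.1 this).resolve_left (sub_ne_zero.2 hp1)
        grind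
      rcases mul_eq_zero.1 hq with h' | h'
      · exact Or.inr (Or.inl (sub_eq_zero.1 h'))
      · exact Or.inr (Or.inr (sub_eq_zero.1 h'))
    have row : ∀ i, ap R0 y i = (mat R0 i 0 + mat R0 i 1 * p + mat R0 i 2 * (p * p)) * y 0 := by
      intro i
      rw [ap_def, Matrix.mulVec, dotProduct, Fin.sum_univ_three, h1, h2']
      ring
    rcases hp3 with rfl | rfl | rfl
    · exact ⟨1, by rw [row, hR0]; simp; grind⟩
    · exact ⟨0, by rw [row, hR0]; simp; grind⟩
    · exact ⟨0, by rw [row, hR0]; simp; grind⟩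
  have hnorm0 : ∀ g ∈ mono hF, R0 * g * R0⁻¹ ∈ mono hF := by
    intro g hg
    have key : ∀ (ι : Fin 2 ↪ Fin 3) u, R0 * emb hF ι u * R0⁻¹ ∈ mono hF := by
      intro ι u
      refine mem_mono_of_zero hF ?_
      rw [ap_mul, ap_mul]
      obtain ⟨hne, hpr⟩ := prod_invariant hF ι u (x := ap R0⁻¹ (Pi.single 2 1))
        (fun i => by rw [hv]; fin_cases i <;> simp [hw0])
      refine hvan _ hne (hpr.trans ?_)
      rw [Fin.prod_univ_three, hv, hv, hv]
      simp
      grind
    refine (show mono hF ≤ (mono hF).comap (MulAut.conj R0).toMonoidHom from sup_le ?_ ?_) hg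
    · rintro _ ⟨u, rfl⟩; exact key tL u
    · rintro _ ⟨u, rfl⟩; exact key tR u
  refine ⟨R, fun c hc => by rw [hR c hc, ← map_mul, ← map_mul, hR4, map_one], fun c hc g hg => ?_,
    fun H hM hRH => ?_⟩
  · obtain ⟨g', rfl⟩ := semi_surjective hF ![c, 1, 1] (norm_first (hcube c hc)) (RingEquiv.refl F) g
    have hg' : g' ∈ mono hF := by
      have hinv : ∀ i, (![c⁻¹, 1, 1] : Fin 3 → F) i * (![c⁻¹, 1, 1] : Fin 3 → F) i ^ 2 = 1 :=
        norm_first (by rw [inv_pow, ← mul_inv, hcube c hc, inv_one])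
      have h' := semi_mono hF hinv hg
      convert h' using 1
      refine ext_mat (Matrix.ext fun i j => ?_)
      rw [mat_semi, mat_semi, semiMat_apply, semiMat_apply]
      fin_cases i <;> fin_cases j <;> simp [hc, mul_assoc, mul_comm, mul_left_comm]
    rw [hR c hc, ← map_inv, ← map_mul, ← map_mul]
    exact semi_mono hF _ (hnorm0 g' hg')
  · have trans_ : ∀ x : Fin 3 → F, hermForm 3 F 2 x x = 1 → ∃ g ∈ H, ap g x = Pi.single 2 1 := by
      intro x hx
      by_cases hz : ∃ i, x i = 0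
      · obtain ⟨g, hg, hgx⟩ := mono_move hF hx hz
        exact ⟨g, hM hg, hgx⟩
      push Not at hz
      have hn1 := hcube _ (inv_ne_zero (hz 2))
      obtain ⟨d2, hd2⟩ := exists_torus hF hn1
      have hn2 := hcube _ (inv_ne_zero (mul_ne_zero (hz 1) (hz 2)))
      obtain ⟨d1, hd1⟩ := exists_torus hF hn2
      have e2 : mat (emb hF tR d2) = Matrix.diagonal ![1, x 2, (x 2)⁻¹] := by
        refine mat_emb_diagonal hF tR d2 hd2 (fun a => ?_) fun i hi => ?_
        · fin_cases a <;> simp [show tR 0 = 1 from rfl, show tR 1 = 2 from rfl]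
        · rw [tR_off_two i hi]; rfl
      have e1 : mat (emb hF tL d1) = Matrix.diagonal ![x 1 * x 2, (x 1 * x 2)⁻¹, 1] := by
        refine mat_emb_diagonal hF tL d1 hd1 (fun a => ?_) fun i hi => ?_
        · fin_cases a <;> simp [show tL 0 = 0 from rfl, show tL 1 = 1 from rfl]
        · rw [tL_off_two i hi]; rfl
      obtain ⟨c, hcdef⟩ : ∃ c, c = x 0 * (x 1 * x 2) := ⟨_, rfl⟩
      have hc : c ≠ 0 := by rw [hcdef]; exact mul_ne_zero (hz 0) (mul_ne_zero (hz 1) (hz 2))
      have hx' : ap (emb hF tL d1 * emb hF tR d2) x = ![c, 1, 1] := by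
        rw [ap_mul, ap_def, ap_def, e1, e2]
        funext i
        rw [Matrix.mulVec_diagonal, Matrix.mulVec_diagonal]
        fin_cases i
        · simp [hcdef]; ring
        · simp [hz 1, hz 2]; field_simp [hz 1, hz 2]
        · simp [hz 2]
      have hR0' : ap (R c) (Pi.single 0 c) = ![c, 1, 1] := by
        funext i
        rw [ap_def, Matrix.mulVec_single, hR c hc]
        simp [mat_semi, semiMat_apply, hcol]
        fin_cases i <;> simp [hc]
      obtain ⟨g, hg, hgx⟩ := mono_move hF (x := Pi.single (0 : Fin 3) c)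
        (by rw [herm_single_left, Pi.single_eq_same]; exact hcube c hc) ⟨1, by simp⟩
      refine ⟨g * (R c)⁻¹ * (emb hF tL d1 * emb hF tR d2), ?_, ?_⟩
      · exact mul_mem (mul_mem (hM hg) (inv_mem (hRH c hc)))
          (hM (mul_mem (Subgroup.mem_sup_left ⟨d1, rfl⟩) (Subgroup.mem_sup_right ⟨d2, rfl⟩)))
      · rw [ap_mul, ap_mul, hx', ← hR0', ap_inv_ap, hgx]
    rw [eq_top_iff]
    intro g _
    obtain ⟨a, ha, hax⟩ := trans_ (ap g (Pi.single 2 1)) (by rw [herm_ap, single_unit hF])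
    have hag : a * g ∈ mono hF := mem_mono_of_zero hF ⟨0, by rw [ap_mul, hax]; simp⟩
    rw [show g = a⁻¹ * (a * g) from (inv_mul_cancel_left a g).symm]
    exact mul_mem (inv_mem ha) (hM hag)

/-- A map on `SU₃(2)` with trivial cubes is trivial. -/
theorem three_eq_one_of_pow_three (hF : Fintype.card F = 2 ^ 2) {M : Type*} [Monoid M]
    (χ : SU 3 F 2 →* M) (h3 : ∀ x, χ x ^ 3 = 1) (g : SU 3 F 2) : χ g = 1 := by
  obtain ⟨R, hR4, -, hgen⟩ := exists_extra hF
  have hblock : ∀ (ι : Fin 2 ↪ Fin 3) u, χ (emb hF ι u) = 1 := fun ι u =>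
    eq_one_of_pow_three hF (χ.comp (emb hF ι)) (fun v => h3 _) u
  have htop := hgen χ.ker (sup_le (by rintro _ ⟨u, rfl⟩; exact hblock tL u)
    (by rintro _ ⟨u, rfl⟩; exact hblock tR u)) (fun c hc => by
      rw [MonoidHom.mem_ker]
      have h := congrArg χ (hR4 c hc)
      rw [map_mul, map_mul, map_one] at h
      have h' := h3 (R c)
      rw [pow_succ, pow_two] at h'
      rw [← mul_assoc (χ (R c) * χ (R c)), h', one_mul] at h
      exact h)
  exact MonoidHom.mem_ker.1 (htop ▸ Subgroup.mem_top g)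

/-- An element centralising both blocks is scalar. -/
theorem scalar_of_commute (hF : Fintype.card F = 2 ^ 2) {c : SU 3 F 2}
    (hL : ∀ u, Commute c (emb hF tL u)) (hR : ∀ u, Commute c (emb hF tR u)) :
    ∃ l : F, mat c = Matrix.diagonal (fun _ => l) := by
  obtain ⟨h2, hcube, w, hw, hw0, hw1⟩ := two_facts hF
  have hn := hcube w hw0
  obtain ⟨d, hd⟩ := exists_torus hF hn
  have eL : mat (emb hF tL d) = Matrix.diagonal ![w⁻¹, w, 1] := by
    refine mat_emb_diagonal hF tL d hd (fun a => ?_) fun i hi => ?_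
    · fin_cases a <;> simp [show tL 0 = 0 from rfl, show tL 1 = 1 from rfl]
    · rw [tL_off_two i hi]; rfl
  have hwi : w⁻¹ ≠ 1 := fun e => hw1 (inv_eq_one.1 e)
  have hwi' : w⁻¹ ≠ w := fun e => hw1 (by
    have h' : w * w = 1 := by nth_rw 1 [← e]; exact inv_mul_cancel₀ hw0
    exact absurd (show w = 0 by linear_combination hw - h' - h2) hw0)
  have hoff : ∀ i j, i ≠ j → mat c i j = 0 := by
    intro i j hij
    have h := congrFun (congrFun (congrArg (fun z => mat z) (hL d).eq) i) j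
    simp only [mat_mul, eL, Matrix.diagonal_mul, Matrix.mul_diagonal] at h
    have h' : ((![w⁻¹, w, 1] : Fin 3 → F) j - (![w⁻¹, w, 1] : Fin 3 → F) i) * mat c i j = 0 := by
      linear_combination h
    refine (mul_eq_zero.1 h').resolve_left (sub_ne_zero.2 ?_)
    fin_cases i <;> fin_cases j <;> simp [hw1, hw1.symm, hwi, hwi.symm, hwi', hwi'.symm] at hij ⊢
  obtain ⟨s, hs⟩ := exists_swap (F := F) (q := 2) hF
  have hdiag : ∀ j, ap c (Pi.single j 1) = mat c j j • Pi.single j 1 := by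
    intro j
    funext i
    rw [ap_single]
    by_cases h : i = j
    · subst h; simp
    · simp [h, hoff i j h]
  have move : ∀ (ι : Fin 2 ↪ Fin 3), Commute c (emb hF ι s) → mat c (ι 1) (ι 1) = mat c (ι 0) (ι 0) := by
    intro ι hc
    have e : ap (emb hF ι s) (Pi.single (ι 1) 1) = Pi.single (ι 0) 1 := by
      rw [← inj_mulVec_single, ap_emb_on, hs, inj_mulVec_single]
    have h := congrArg (fun z => ap z (Pi.single (ι 1) (1 : F))) hc.eq
    simp only [ap_mul, e, hdiag, ap_smul] at h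
    have := congrFun h (ι 0)
    simpa using this.symm
  have h10 : mat c 1 1 = mat c 0 0 := move tL (hL s)
  have h21 : mat c 2 2 = mat c 1 1 := move tR (hR s)
  refine ⟨mat c 0 0, Matrix.ext fun i j => ?_⟩
  by_cases h : i = j
  · subst h
    rw [Matrix.diagonal_apply_eq]
    fin_cases i
    · rfl
    · exact h10
    · exact h21.trans h10
  · rw [Matrix.diagonal_apply_ne _ h, hoff i j h]

/-- An endomorphism fixing both blocks pointwise is the identity. -/
theorem endo_eq_id (hF : Fintype.card F = 2 ^ 2) (φ : SU 3 F 2 →* SU 3 F 2)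
    (hL : ∀ u, φ (emb hF tL u) = emb hF tL u) (hR : ∀ u, φ (emb hF tR u) = emb hF tR u)
    (g : SU 3 F 2) : φ g = g := by
  obtain ⟨R, hR4, hnorm, hgen⟩ := exists_extra hF
  obtain ⟨-, hcube, -⟩ := two_facts hF
  have hM : mono hF ≤ φ.eqLocus (MonoidHom.id _) := by
    refine sup_le ?_ ?_
    · rintro _ ⟨u, rfl⟩; exact hL u
    · rintro _ ⟨u, rfl⟩; exact hR u
  have htop := hgen (φ.eqLocus (MonoidHom.id _)) hM (fun a ha => by
    obtain ⟨c, hc⟩ : ∃ c, c = (R a)⁻¹ * φ (R a) := ⟨_, rfl⟩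
    have hcm : ∀ m ∈ mono hF, Commute c m := by
      intro m hm
      have h : φ (R a * m * (R a)⁻¹) = R a * m * (R a)⁻¹ := hM (hnorm a ha m hm)
      rw [map_mul, map_mul, map_inv, show φ m = m from hM hm] at h
      show c * m = m * c
      calc c * m = (R a)⁻¹ * (φ (R a) * m * (φ (R a))⁻¹) * φ (R a) := by rw [hc]; group
        _ = (R a)⁻¹ * (R a * m * (R a)⁻¹) * φ (R a) := by rw [h]
        _ = m * c := by rw [hc]; group
    obtain ⟨l, hl⟩ := scalar_of_commute hF (fun u => hcm _ (Subgroup.mem_sup_left ⟨u, rfl⟩))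
      (fun u => hcm _ (Subgroup.mem_sup_right ⟨u, rfl⟩))
    have hcg : ∀ z : SU 3 F 2, Commute c z := fun z => ext_mat (by
      rw [mat_mul, mat_mul, hl]
      ext i j
      simp [Matrix.diagonal_mul, Matrix.mul_diagonal, mul_comm])
    have hc3 : c * (c * c) = 1 := by
      have hl3 : l ^ 3 = 1 := by
        have hd : (mat c).det = 1 := (c : SpecialLinearGroup (Fin 3) F).2
        rwa [hl, Matrix.det_diagonal, Finset.prod_const, Finset.card_univ, Fintype.card_fin] at hd
      refine ext_mat ?_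
      rw [mat_mul, mat_mul, hl, Matrix.diagonal_mul_diagonal, Matrix.diagonal_mul_diagonal]
      ext i j
      by_cases h : i = j
      · subst h; simp [mat]; linear_combination hl3
      · simp [mat, h]
    have h4 := congrArg φ (hR4 a ha)
    rw [map_mul, map_mul, map_one, show φ (R a) = R a * c by rw [hc, mul_inv_cancel_left]] at h4
    have h4' : (R a * R a * (R a * R a)) * (c * c * (c * c)) = 1 := by
      rw [← h4]
      have e : R a * c * (R a * c) = R a * R a * (c * c) :=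
        (hcg (R a)).mul_mul_mul_comm _ _
      rw [e]
      exact ((((hcg (R a * R a)).mul_left (hcg _))).mul_mul_mul_comm _ _).symm
    rw [hR4 a ha, one_mul] at h4'
    have hc1 : c = 1 := by
      calc c = c * (c * (c * c)) := by rw [hc3, mul_one]
        _ = c * c * (c * c) := by group
        _ = 1 := h4'
    show φ (R a) = R a
    rw [← mul_one (R a)]
    conv_rhs => rw [← hc1, hc, mul_inv_cancel_left]
    rw [mul_one])
  exact (htop ▸ Subgroup.mem_top g : g ∈ φ.eqLocus (MonoidHom.id _))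

end Cfsg.Agent.Cores.Phan
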