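import Mathlib
import Cfsg.Agent.Cores.Phan.TwoThree
import Cfsg.Agent.Cores.Phan.AutTwo

/-!
Two blocks `SU₃(2)` in `SU₄(2)` meeting in a block are the standard ones up to an endomorphism.
-/

set_option autoImplicit false
set_option linter.unusedSectionVars false

namespace Cfsg.Agent.Cores.Phan

open Cfsg Cfsg.Agent.Unitary Matrix

variable {F : Type*} [Field F] [Fintype F]

theorem four_values (hF : Fintype.card F = 2 ^ 2) {w : F} (hw : w * w + w + 1 = 0) (hw0 : w ≠ 0)
    {x : F} (hx : x ≠ 0) : x = 1 ∨ x = w ∨ x = w⁻¹ := by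
  obtain ⟨h2, hcube, -⟩ := two_facts hF
  have h := hcube x hx
  by_cases h1 : x = 1
  · exact Or.inl h1
  have hq : (x - w) * (x - w⁻¹) = 0 := by
    have : (x - 1) * (x * x + x + 1) = 0 := by linear_combination h
    have h' := (mul_eq_zero.1 this).resolve_left (sub_ne_zero.2 h1)
    have e : w + w⁻¹ = -1 := by field_simp; linear_combination hw
    have e' : w * w⁻¹ = 1 := mul_inv_cancel₀ hw0
    linear_combination h' - x * e + e'
  rcases mul_eq_zero.1 hq with h' | h'
  · exact Or.inr (Or.inl (sub_eq_zero.1 h'))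
  · exact Or.inr (Or.inr (sub_eq_zero.1 h'))

/-- A common orthonormal eigenbasis of commuting elements of order three. -/
theorem exists_eigen_basis_three {n : ℕ} (hF : Fintype.card F = 2 ^ 2)
    {z : Fin 3 → SU n F 2} (hz : ∀ a, z a * (z a * z a) = 1) (hcm : ∀ a b, Commute (z a) (z b)) :
    ∃ f : Fin n → Fin n → F, ON 2 f ∧ ∃ c : Fin 3 → Fin n → F,
      ∀ a i, c a i ≠ 0 ∧ ap (z a) (f i) = c a i • f i := by
  obtain ⟨h2, hcube, w, hw, hw0, hw1⟩ := two_facts hF
  have hwi : w * w⁻¹ = 1 := mul_inv_cancel₀ hw0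
  have h3 : (3 : F) = 1 := by linear_combination h2
  have one : ∀ a (W : Submodule F (Fin n → F)), Nondeg 2 W → W ≠ ⊥ →
      (∀ b, ∀ x ∈ W, ap (z b) x ∈ W) → ∃ W' ≤ W, Nondeg 2 W' ∧ W' ≠ ⊥ ∧
        (∀ b, ∀ x ∈ W', ap (z b) x ∈ W') ∧
        ∃ c : F, c ≠ 0 ∧ ∀ x ∈ W', ap (z a) x = c • x := by
    intro a W hW hne hinv
    let E : F → Submodule F (Fin n → F) := fun c =>
      { carrier := {x | x ∈ W ∧ ap (z a) x = c • x}
        zero_mem' := ⟨W.zero_mem, by simp [ap_def]⟩
        add_mem' := fun {x y} hx hy => ⟨W.add_mem hx.1 hy.1, by rw [ap_add, hx.2, hy.2, smul_add]⟩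
        smul_mem' := fun d x hx => ⟨W.smul_mem d hx.1, by rw [ap_smul, hx.2, smul_comm]⟩ }
    obtain ⟨P, hP⟩ : ∃ P : F → (Fin n → F) → (Fin n → F), ∀ c x,
        P c x = x + (c * c) • ap (z a) x + c • ap (z a) (ap (z a) x) := ⟨_, fun _ _ => rfl⟩
    have hmem : ∀ c, c ≠ 0 → ∀ x ∈ W, P c x ∈ E c := by
      intro c hc x hx
      rw [hP]
      refine ⟨W.add_mem (W.add_mem hx (W.smul_mem _ (hinv a x hx)))
        (W.smul_mem _ (hinv a _ (hinv a x hx))), ?_⟩
      show ap (z a) (x + (c * c) • ap (z a) x + c • ap (z a) (ap (z a) x)) = _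
      rw [ap_add, ap_add, ap_smul, ap_smul, ← ap_mul (z a) (z a) (ap (z a) x),
        ← ap_mul (z a * z a) (z a) x, mul_assoc (z a), hz, ap_one, smul_add, smul_add, smul_smul,
        smul_smul]
      rw [show c * (c * c) = 1 by rw [← hcube c hc]; ring, one_smul]
      abel
    have hsum : ∀ x, P 1 x + P w x + P w⁻¹ x = x := by
      intro x
      simp only [hP]
      funext i
      simp only [Pi.add_apply, Pi.smul_apply, smul_eq_mul]
      have e2 : w⁻¹ * w⁻¹ = w := by
        field_simp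
        linear_combination (-1 : F) * hcube w hw0
      have e1 : w⁻¹ = w * w := by rw [← mul_right_inj' hw0, hwi]; linear_combination -(hcube w hw0)
      rw [e2, e1]
      linear_combination (x i) * h3 + (ap (z a) x i + ap (z a) (ap (z a) x) i) * hw
    have hnd : ∀ c, c ≠ 0 → Nondeg 2 (E c) := by
      intro c hc u hu horth
      refine hW u hu.1 fun v hv => ?_
      have hopp : ∀ d, d ≠ 0 → ∀ y ∈ E d, hermForm n F 2 u y = 0 := by
        intro d hd y hy
        by_cases hcd : c = d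
        · subst hcd; exact horth y hy
        have h := herm_ap (z a) u y
        rw [hu.2, hy.2, herm_smul_left, herm_smul_right] at h
        have : (c * d ^ 2 - 1) * hermForm n F 2 u y = 0 := by linear_combination h
        exact (mul_eq_zero.1 this).resolve_left (sub_ne_zero.2 fun e => hcd
          (mul_right_cancel₀ (pow_ne_zero 2 hd) (e.trans (hcube d hd).symm)))
      rw [← hsum v, herm_add_right hF, herm_add_right hF, hopp 1 one_ne_zero _ (hmem 1 one_ne_zero v hv),
        hopp w hw0 _ (hmem w hw0 v hv), hopp w⁻¹ (inv_ne_zero hw0) _ (hmem _ (inv_ne_zero hw0) v hv)]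
      simp
    obtain ⟨c, hc, hcne⟩ : ∃ c, c ≠ 0 ∧ E c ≠ ⊥ := by
      by_contra hcon
      push Not at hcon
      obtain ⟨x, hx, hx0⟩ := W.exists_mem_ne_zero_of_ne_bot hne
      have key : ∀ c, c ≠ 0 → P c x = 0 := fun c hc => by
        have h := hmem c hc x hx
        rw [hcon c hc, Submodule.mem_bot] at h
        exact h
      exact hx0 (by rw [← hsum x, key 1 one_ne_zero, key w hw0, key _ (inv_ne_zero hw0)]; simp)
    refine ⟨E c, fun x hx => hx.1, hnd c hc, hcne, fun b x hx => ⟨hinv b x hx.1, ?_⟩, c, hc,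
      fun x hx => hx.2⟩
    rw [← ap_mul, (hcm a b).eq, ap_mul, hx.2, ap_smul]
  suffices H : ∀ m, m ≤ n → ∃ f : Fin m → Fin n → F, ON 2 f ∧
      ∀ a i, ∃ c : F, c ≠ 0 ∧ ap (z a) (f i) = c • f i by
    obtain ⟨f, hf, hs⟩ := H n le_rfl
    choose c hc using hs
    exact ⟨f, hf, c, hc⟩
  intro m
  induction m with
  | zero => exact fun _ => ⟨Fin.elim0, fun i => i.elim0, fun _ i => i.elim0⟩
  | succ m ih =>
    intro hm
    obtain ⟨f, hf, hs⟩ := ih (by omega)
    obtain ⟨hWn, hWd⟩ := nondeg_perp_of_ON hF hf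
    rw [Fintype.card_fin] at hWd
    have hinv : ∀ a, ∀ x ∈ Unitary.perp 2 (Set.range f), ap (z a) x ∈ Unitary.perp 2 (Set.range f) := by
      intro a x hx
      rintro _ ⟨i, rfl⟩
      obtain ⟨c, hc, hsi⟩ := hs a i
      have e1 : f i = ap (z a) (c⁻¹ • f i) := by
        rw [ap_smul, hsi, inv_smul_smul₀ hc]
      rw [e1, herm_ap, herm_smul_right, hx _ ⟨i, rfl⟩, mul_zero]
    obtain ⟨W0, h0, a0, b0, c0, e0⟩ := one 0 _ hWn (ne_bot_of_finrank (by omega)) hinv
    obtain ⟨W1, h1, a1, b1, c1, e1⟩ := one 1 W0 a0 b0 c0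
    obtain ⟨W2, h2', a2, b2, -, e2⟩ := one 2 W1 a1 b1 c1
    obtain ⟨x, hx, hx1⟩ := exists_norm_one hF a2 b2
    have hxe : ∀ a, ∃ c : F, c ≠ 0 ∧ ap (z a) x = c • x := by
      intro a
      fin_cases a
      · obtain ⟨c, hc, he⟩ := e0; exact ⟨c, hc, he x (h1 (h2' hx))⟩
      · obtain ⟨c, hc, he⟩ := e1; exact ⟨c, hc, he x (h2' hx)⟩
      · obtain ⟨c, hc, he⟩ := e2; exact ⟨c, hc, he x hx⟩
    refine ⟨Fin.cons x f, hf.cons hF hx1 fun i =>
      (herm_eq_zero_symm hF).1 ((h0 (h1 (h2' hx))) _ ⟨i, rfl⟩), fun a i => ?_⟩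
    refine Fin.cases ?_ (fun j => ?_) i
    · simpa using hxe a
    · simpa using hs a j

/-- The weights of the standard configuration. -/
def stdW : Fin 4 → Fin 3 → Fin 3 := ![![2, 0, 0], ![1, 2, 0], ![0, 1, 2], ![0, 0, 1]]

/-- The three reflections. -/
def refl' (r : Fin 3) (v : Fin 3 → Fin 3) : Fin 3 → Fin 3 :=
  if r = 0 then ![-v 0, v 0 + v 1, v 2]
  else if r = 1 then ![v 0 + v 1, -v 1, v 1 + v 2]
  else ![v 0, v 1 + v 2, -v 2]

/-- Some reflection words. -/
def refWords : List (List (Fin 3)) :=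
  [[], [0], [1], [2], [0, 1], [1, 0], [1, 2], [2, 1], [0, 2], [0, 1, 2], [2, 1, 0], [0, 1, 0],
    [1, 2, 1], [1, 0, 2], [0, 2, 1]]

/-- The images under the words. -/
def wordList (v : Fin 3 → Fin 3) : List (Fin 3 → Fin 3) :=
  refWords.map fun w => w.foldr refl' v

set_option synthInstance.maxSize 2000 in
theorem wordList_small : ∀ v : Fin 3 → Fin 3, v ≠ 0 → (wordList v).toFinset.card ≤ 4 →
    (∀ i, stdW i ∈ wordList v) ∨ ∀ i, (fun k => -stdW i k) ∈ wordList v := by
  decide +kernel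

/-- Elements of `SU₂(2)` normalise the torus element. -/
theorem torus_conj (hF : Fintype.card F = 2 ^ 2) {w : F} (hw0 : w ≠ 0) {d : SU 2 F 2}
    (hd : mat d = Matrix.diagonal ![w⁻¹, w]) (u : SU 2 F 2) :
    d * u = u * d ∨ d * u = u * d⁻¹ := by
  rcases two_cases_su hF u with hu | ⟨h00, h11, -⟩
  · have hdd : IsDiag d := by
      show mat d 0 1 = 0
      rw [hd]; simp
    exact Or.inl (hdd.commute hF hu).eq
  · refine Or.inr (eq_mul_inv_iff_mul_eq.2 (ext_mat ?_))
    rw [mat_mul, mat_mul, hd]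
    ext i j
    fin_cases i <;> fin_cases j <;>
      simp [Matrix.diagonal_mul, Matrix.mul_diagonal, h00, h11] <;> field_simp

/-- The restriction to a block of a map fixing the torus is diagonal. -/
theorem block_form (hF : Fintype.card F = 2 ^ 2) {w : F} (hw : w * w + w + 1 = 0) (hw0 : w ≠ 0)
    (hw1 : w ≠ 1) {d : SU 2 F 2} (hd : mat d = Matrix.diagonal ![w⁻¹, w])
    (α : SU 3 F 2 →* SU 3 F 2) (hα : Function.Injective α) (ι : Fin 2 ↪ Fin 3)
    (hfix : α (emb hF ι d) = emb hF ι d) :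
    ∃ (ν : F) (hν : ν * ν ^ 2 = 1), ∀ u,
      α (emb hF ι u) = emb hF ι (semi hF ![ν, 1] (norm_pair hν) (RingEquiv.refl F) u) := by
  classical
  obtain ⟨h2, hcube, -⟩ := two_facts hF
  obtain ⟨k, hk0, hk1, hcov⟩ : ∃ k : Fin 3, k ≠ ι 0 ∧ k ≠ ι 1 ∧
      ∀ i, i = ι 0 ∨ i = ι 1 ∨ i = k := by
    have key : ∀ a b : Fin 3, a ≠ b →
        ∃ k : Fin 3, k ≠ a ∧ k ≠ b ∧ ∀ i, i = a ∨ i = b ∨ i = k := by decide
    exact key _ _ fun e => absurd (ι.injective e) (by decide)
  have hkoff : ∀ j, ι j ≠ k := fun j => by fin_cases j; exacts [hk0.symm, hk1.symm]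
  have hne : ι 0 ≠ ι 1 := fun e => absurd (ι.injective e) (by decide)
  have hw' : w⁻¹ ≠ 1 := fun e => hw1 (inv_eq_one.1 e)
  obtain ⟨v, hv⟩ : ∃ v : Fin 3 → F, ∀ i, v i = if i = ι 0 then w⁻¹ else if i = ι 1 then w else 1 :=
    ⟨_, fun _ => rfl⟩
  have hmd : mat (emb hF ι d) = Matrix.diagonal v := by
    refine mat_emb_diagonal hF ι d hd (fun a => ?_) fun i hi => ?_
    · rw [hv]
      fin_cases a
      · simp
      · simp [hne.symm]
    · rw [hv, if_neg (fun e => hi 0 e.symm), if_neg (fun e => hi 1 e.symm)]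
  have hdk : ap (emb hF ι d) (Pi.single k 1) = Pi.single k 1 :=
    ap_emb_off hF ι d fun j => Pi.single_eq_of_ne (hkoff j) _
  -- the line is preserved
  have hline : ∀ u, ap (α (emb hF ι u)) (Pi.single k 1) =
      ap (α (emb hF ι u)) (Pi.single k 1) k • Pi.single k 1 := by
    intro u
    set y := ap (α (emb hF ι u)) (Pi.single k 1) with hy
    have hfy : ap (emb hF ι d) y = y := by
      rw [hy, ← ap_mul, ← hfix, ← map_mul, ← map_mul]
      rcases torus_conj hF hw0 hd u with e | e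
      · rw [e, map_mul, map_mul, hfix, ap_mul, hdk]
      · rw [e, map_mul, map_mul, map_inv, map_inv, hfix, ap_mul]
        conv_lhs => arg 2; rw [← hdk]
        rw [ap_inv_ap]
    funext i
    rcases hcov i with rfl | rfl | rfl
    · have h := congrFun hfy (ι 0)
      rw [ap_def, hmd, Matrix.mulVec_diagonal, hv, if_pos rfl] at h
      have : y (ι 0) = 0 := (mul_eq_zero.1 (show (w⁻¹ - 1) * y (ι 0) = 0 by
        linear_combination h)).resolve_left (sub_ne_zero.2 hw')
      simp [this, hk0.symm]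
    · have h := congrFun hfy (ι 1)
      rw [ap_def, hmd, Matrix.mulVec_diagonal, hv, if_neg hne.symm, if_pos rfl] at h
      have : y (ι 1) = 0 := (mul_eq_zero.1 (show (w - 1) * y (ι 1) = 0 by
        linear_combination h)).resolve_left (sub_ne_zero.2 hw1)
      simp [this, hk1.symm]
    · simp
  let χ : SU 2 F 2 →* F :=
    { toFun := fun u => ap (α (emb hF ι u)) (Pi.single k 1) k
      map_one' := by simp [ap_one]
      map_mul' := fun u u' => by
        rw [map_mul, map_mul, ap_mul, hline u', ap_smul, hline u]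
        simp [mul_comm] }
  have hχ : ∀ u, χ u ^ 3 = 1 := fun u => by
    have h := herm_ap (α (emb hF ι u)) (Pi.single k 1) (Pi.single k 1)
    rw [hline u, herm_self_smul, single_unit hF, mul_one] at h
    show ap (α (emb hF ι u)) (Pi.single k 1) k ^ 3 = 1
    linear_combination h
  have hex : ∀ u, ∃ g, emb hF ι g = α (emb hF ι u) := fun u =>
    exists_emb_eq hF ι fun i hi => by
      obtain rfl : i = k := by
        rcases hcov i with e | e | e
        · exact absurd e.symm (hi 0)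
        · exact absurd e.symm (hi 1)
        · exact e
      rw [hline u, show ap (α (emb hF ι u)) (Pi.single i 1) i = 1 from
        eq_one_of_pow_three hF χ hχ u, one_smul]
  choose β hβ using hex
  let β' : SU 2 F 2 →* SU 2 F 2 := MonoidHom.mk' β fun x y => emb_injective hF ι (by
    rw [map_mul, hβ, hβ, hβ, map_mul, map_mul])
  have hinj : Function.Injective β' := fun x y e => emb_injective hF ι (hα (by
    rw [← hβ, ← hβ]; exact congrArg _ e))
  let B : SU 2 F 2 ≃* SU 2 F 2 := MulEquiv.ofBijective β' (Finite.injective_iff_bijective.1 hinj)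
  have hBd : B d = d := emb_injective hF ι ((hβ d).trans hfix)
  obtain ⟨ν, hν, σ, hσ⟩ := exists_semi_eq hF B fun u hu => by
    have hdd : IsDiag d := by show mat d 0 1 = 0; rw [hd]; simp
    have h := congrFun (congrFun (congrArg (fun z => mat z) ((hu.commute hF hdd).map B.toMonoidHom).eq) 0) 1
    simp only [MulEquiv.coe_toMonoidHom, mat_mul] at h
    rw [hBd, hd, Matrix.mul_diagonal, Matrix.diagonal_mul] at h
    have hww : w⁻¹ ≠ w := fun e => hw0 (by
      have h' : w * w = 1 := by nth_rw 1 [← e]; exact inv_mul_cancel₀ hw0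
      linear_combination hw - h' - h2)
    exact (mul_eq_zero.1 (show (w⁻¹ - w) * mat (B u) 0 1 = 0 by
      simp at h; linear_combination -h)).resolve_left (sub_ne_zero.2 hww)
  have hσ' : σ = RingEquiv.refl F := by
    have h := congrFun (congrFun (congrArg (fun z => mat z) ((hσ d).symm.trans hBd)) 1) 1
    simp [mat_semi, semiMat_apply, hd] at h
    refine RingEquiv.ext fun x => ?_
    by_cases hx : x = 0
    · subst hx; simp
    rcases four_values hF hw hw0 hx with rfl | rfl | rfl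
    · simp
    · exact h
    · rw [map_inv₀, h]; rfl
  subst hσ'
  refine ⟨ν, hν, fun u => ?_⟩
  rw [← hβ, ← hσ]
  rfl

/-- A map with a prescribed torus lies in a block of size three. -/
theorem factor_three (hF : Fintype.card F = 2 ^ 2) {w : F} (hw0 : w ≠ 0)
    (hw1 : w ≠ 1) {d : SU 2 F 2} (hd : mat d = Matrix.diagonal ![w⁻¹, w])
    (ψ : SU 3 F 2 →* SU 4 F 2) (ι : Fin 3 ↪ Fin 4) (i0 : Fin 4) (hi0 : ∀ a, ι a ≠ i0)
    (hcov : ∀ i, (∀ a, ι a ≠ i) → i = i0) {A B : Fin 4 → F}
    (hA : mat (ψ (emb hF tL d)) = Matrix.diagonal A) (hB : mat (ψ (emb hF tR d)) = Matrix.diagonal B)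
    (hA' : ∀ a, A (ι a) = (![w⁻¹, w, 1] : Fin 3 → F) a) (hA0 : A i0 = 1)
    (hB' : ∀ a, B (ι a) = (![1, w⁻¹, w] : Fin 3 → F) a) (hB0 : B i0 = 1) :
    ∃ α : SU 3 F 2 →* SU 3 F 2, (emb hF ι).comp α = ψ ∧
      α (emb hF tL d) = emb hF tL d ∧ α (emb hF tR d) = emb hF tR d := by
  obtain ⟨h2, hcube, -⟩ := two_facts hF
  have eL : mat (emb hF tL d) = Matrix.diagonal ![w⁻¹, w, 1] := by
    refine mat_emb_diagonal hF tL d hd (fun a => ?_) fun i hi => ?_
    · fin_cases a <;> simp [show tL 0 = 0 from rfl, show tL 1 = 1 from rfl]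
    · rw [tL_off_two i hi]; rfl
  have eR : mat (emb hF tR d) = Matrix.diagonal ![1, w⁻¹, w] := by
    refine mat_emb_diagonal hF tR d hd (fun a => ?_) fun i hi => ?_
    · fin_cases a <;> simp [show tR 0 = 1 from rfl, show tR 1 = 2 from rfl]
    · rw [tR_off_two i hi]; rfl
  obtain ⟨z, hz⟩ : ∃ z, z = emb hF tL d * emb hF tR d * emb hF tR d := ⟨_, rfl⟩
  have hzs : mat z = Matrix.diagonal (fun _ => w⁻¹) := by
    rw [hz, mat_mul, mat_mul, eL, eR, Matrix.diagonal_mul_diagonal, Matrix.diagonal_mul_diagonal]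
    congr 1
    funext i
    fin_cases i
    · simp
    · simp [hw0]
    · simp
      field_simp
      linear_combination hcube w hw0
  have hψz : mat (ψ z) = Matrix.diagonal fun i => A i * B i * B i := by
    rw [hz, map_mul, map_mul, mat_mul, mat_mul, hA, hB, Matrix.diagonal_mul_diagonal,
      Matrix.diagonal_mul_diagonal]
  have hzc : ∀ g, Commute z g := fun g => ext_mat (by
    rw [mat_mul, mat_mul, hzs]
    ext i j
    simp [Matrix.diagonal_mul, Matrix.mul_diagonal, mul_comm])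
  have hw' : w⁻¹ ≠ 1 := fun e => hw1 (inv_eq_one.1 e)
  have hzero : ∀ g a, mat (ψ g) (ι a) i0 = 0 := by
    intro g a
    have h := congrFun (congrFun (congrArg (fun z => mat z) ((hzc g).map ψ).eq) (ι a)) i0
    simp only [mat_mul, hψz, Matrix.diagonal_mul, Matrix.mul_diagonal, hA', hA0, hB', hB0] at h
    have h1 : (![w⁻¹, w, 1] : Fin 3 → F) a * (![1, w⁻¹, w] : Fin 3 → F) a *
        (![1, w⁻¹, w] : Fin 3 → F) a = w⁻¹ := by
      fin_cases a
      · simp
      · simp [hw0]
      · simp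
        field_simp
        linear_combination hcube w hw0
    rw [h1] at h
    exact (mul_eq_zero.1 (show (w⁻¹ - 1) * mat (ψ g) (ι a) i0 = 0 by linear_combination h)).resolve_left
      (sub_ne_zero.2 hw')
  have hline : ∀ g, ap (ψ g) (Pi.single i0 1) = mat (ψ g) i0 i0 • Pi.single i0 1 := by
    intro g
    funext i
    rw [ap_single]
    by_cases hi : ∀ a, ι a ≠ i
    · obtain rfl := hcov i hi
      simp
    · push Not at hi
      obtain ⟨a, rfl⟩ := hi
      simp [hzero g a, hi0 a]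
  let χ : SU 3 F 2 →* F :=
    { toFun := fun g => mat (ψ g) i0 i0
      map_one' := by rw [map_one]; simp [mat]
      map_mul' := fun g g' => by
        rw [← ap_single, map_mul, ap_mul, hline g', ap_smul, hline g]
        simp [mul_comm] }
  have hχ : ∀ g, χ g ^ 3 = 1 := fun g => by
    have h := herm_ap (ψ g) (Pi.single i0 1) (Pi.single i0 1)
    rw [hline g, herm_self_smul, single_unit hF, mul_one] at h
    show mat (ψ g) i0 i0 ^ 3 = 1
    linear_combination h
  have hex : ∀ g, ∃ g', emb hF ι g' = ψ g := fun g =>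
    exists_emb_eq hF ι fun i hi => by
      rw [hcov i hi, hline g, show mat (ψ g) i0 i0 = 1 from three_eq_one_of_pow_three hF χ hχ g,
        one_smul]
  choose α hα using hex
  refine ⟨MonoidHom.mk' α fun x y => emb_injective hF ι (by rw [map_mul, hα, hα, hα, map_mul]),
    MonoidHom.ext fun g => by rw [MonoidHom.comp_apply, MonoidHom.mk'_apply, hα],
    ext_mat (Matrix.ext fun a b => ?_), ext_mat (Matrix.ext fun a b => ?_)⟩
  · rw [MonoidHom.mk'_apply]
    rw [← embMat_apply_on ι (mat (α (emb hF tL d))) a b, ← mat_emb hF, hα, hA, eL]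
    by_cases e : a = b
    · subst e; simp [hA']
    · simp [e]
  · rw [MonoidHom.mk'_apply]
    rw [← embMat_apply_on ι (mat (α (emb hF tR d))) a b, ← mat_emb hF, hα, hB, eR]
    by_cases e : a = b
    · subst e; simp [hB']
    · simp [e]

theorem seg_four :
    (∀ a, seg 0 3 4 (by omega) a ≠ 3) ∧ (∀ i, (∀ a, seg 0 3 4 (by omega) a ≠ i) → i = 3) ∧
    (∀ a, seg 1 3 4 (by omega) a ≠ 0) ∧ (∀ i, (∀ a, seg 1 3 4 (by omega) a ≠ i) → i = 0) := by
  decide

/-- The standard position: the maps are blocks twisted by a diagonal map. -/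
theorem exists_std_two (hF : Fintype.card F = 2 ^ 2) {w : F} (hw : w * w + w + 1 = 0) (hw0 : w ≠ 0)
    (hw1 : w ≠ 1) {d : SU 2 F 2} (hd : mat d = Matrix.diagonal ![w⁻¹, w])
    {θ θ' : SU 3 F 2 →* SU 4 F 2} (hi : Function.Injective θ) (hi' : Function.Injective θ')
    (hmid : θ.comp (emb hF tR) = θ'.comp (emb hF tL))
    (h0 : mat (θ (emb hF tL d)) = Matrix.diagonal ![w⁻¹, w, 1, 1])
    (h1 : mat (θ (emb hF tR d)) = Matrix.diagonal ![1, w⁻¹, w, 1])
    (h2 : mat (θ' (emb hF tR d)) = Matrix.diagonal ![1, 1, w⁻¹, w]) :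
    ∃ Φ : SU 4 F 2 →* SU 4 F 2, Φ.comp (emb hF (seg 0 3 4 (by omega))) = θ ∧
      Φ.comp (emb hF (seg 1 3 4 (by omega))) = θ' := by
  obtain ⟨s, hs⟩ := exists_swap (F := F) (q := 2) hF
  have hs01 : mat s 0 1 = 1 := by rw [← ap_single, hs, Pi.single_eq_same]
  have h1' : mat (θ' (emb hF tL d)) = Matrix.diagonal ![1, w⁻¹, w, 1] := by
    rw [← MonoidHom.comp_apply, ← hmid]; exact h1
  set s0 := seg 0 3 4 (by omega) with hs0
  set s1 := seg 1 3 4 (by omega) with hs1
  obtain ⟨α, hα, hαL, hαR⟩ := factor_three hF hw0 hw1 hd θ s0 3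
    seg_four.1 seg_four.2.1 h0 h1
    (fun a => by fin_cases a <;> rfl) rfl (fun a => by fin_cases a <;> rfl) rfl
  obtain ⟨α', hα', hαL', hαR'⟩ := factor_three hF hw0 hw1 hd θ' s1 0
    seg_four.2.2.1 seg_four.2.2.2 h1' h2
    (fun a => by fin_cases a <;> rfl) rfl (fun a => by fin_cases a <;> rfl) rfl
  have hinj : Function.Injective α := fun x y e => hi (by
    rw [← hα, MonoidHom.comp_apply, MonoidHom.comp_apply, e])
  have hinj' : Function.Injective α' := fun x y e => hi' (by
    rw [← hα', MonoidHom.comp_apply, MonoidHom.comp_apply, e])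
  obtain ⟨ν0, hν0, e0⟩ := block_form hF hw hw0 hw1 hd α hinj tL hαL
  obtain ⟨ν1, hν1, e1⟩ := block_form hF hw hw0 hw1 hd α hinj tR hαR
  obtain ⟨ν1', hν1', e1'⟩ := block_form hF hw hw0 hw1 hd α' hinj' tL hαL'
  obtain ⟨ν2, hν2, e2⟩ := block_form hF hw hw0 hw1 hd α' hinj' tR hαR'
  have hνν : ν1 = ν1' := by
    have h := DFunLike.congr_fun hmid s
    rw [← hα, ← hα'] at h
    simp only [MonoidHom.comp_apply] at h
    rw [e1, e1', emb_emb, emb_emb] at h
    have hι : (tR.trans s0) = (tL.trans s1) := by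
      ext a; fin_cases a <;> rfl
    rw [hι] at h
    have h' := congrFun (congrFun (congrArg (fun z => mat z) (emb_injective hF _ h)) 0) 1
    simpa [mat_semi, semiMat_apply, hs01] using h'
  subst hνν
  have hv : ∀ i, (![ν0 * ν1 * ν2, ν1 * ν2, ν2, 1] : Fin 4 → F) i *
      (![ν0 * ν1 * ν2, ν1 * ν2, ν2, 1] : Fin 4 → F) i ^ 2 = 1 := by
    intro i
    fin_cases i
    · show ν0 * ν1 * ν2 * (ν0 * ν1 * ν2) ^ 2 = 1
      linear_combination (ν1 * ν2 * (ν1 * ν2) ^ 2) * hν0 + (ν2 * ν2 ^ 2) * hν1 + hν2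
    · show ν1 * ν2 * (ν1 * ν2) ^ 2 = 1
      linear_combination (ν2 * ν2 ^ 2) * hν1 + hν2
    · exact hν2
    · simp
  set μ : Fin 4 → F := ![ν0 * ν1 * ν2, ν1 * ν2, ν2, 1] with hμ
  have ext3 : ∀ (s3 : Fin 3 ↪ Fin 4) (γ : SU 3 F 2 →* SU 3 F 2),
      (∀ u, γ (emb hF tL u) = semi hF (μ ∘ s3) (fun i => hv (s3 i)) (RingEquiv.refl F) (emb hF tL u)) →
      (∀ u, γ (emb hF tR u) = semi hF (μ ∘ s3) (fun i => hv (s3 i)) (RingEquiv.refl F) (emb hF tR u)) →
      ∀ g, γ g = semi hF (μ ∘ s3) (fun i => hv (s3 i)) (RingEquiv.refl F) g := by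
    intro s3 γ hL hR g
    let S : SU 3 F 2 ≃* SU 3 F 2 := MulEquiv.ofBijective
      (semi hF (μ ∘ s3) (fun i => hv (s3 i)) (RingEquiv.refl F))
      ⟨semi_injective hF _ _ _, semi_surjective hF _ _ _⟩
    have := endo_eq_id hF (S.symm.toMonoidHom.comp γ)
      (fun u => by show S.symm (γ _) = _; rw [hL]; exact S.symm_apply_apply _)
      (fun u => by show S.symm (γ _) = _; rw [hR]; exact S.symm_apply_apply _) g
    exact (MulEquiv.symm_apply_eq S).1 this
  have hratio : ∀ (ι : Fin 2 ↪ Fin 3) (s3 : Fin 3 ↪ Fin 4) (ν : F) (hν : ν * ν ^ 2 = 1),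
      μ (s3 (ι 0)) = ν * μ (s3 (ι 1)) → ∀ u,
      emb hF ι (semi hF ![ν, 1] (norm_pair hν) (RingEquiv.refl F) u) =
        semi hF (μ ∘ s3) (fun i => hv (s3 i)) (RingEquiv.refl F) (emb hF ι u) := by
    intro ι s3 ν hν hr u
    rw [semi_emb]
    congr 1
    refine DFunLike.congr_fun (semi_congr hF _ _ _ fun i j => ?_) u
    fin_cases i <;> fin_cases j <;> simp [Function.comp, hr] <;> ring
  have hαeq := ext3 s0 α
    (fun u => (e0 u).trans (hratio tL s0 ν0 hν0 (by
      show μ 0 = ν0 * μ 1; simp [hμ, mul_assoc]) u))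
    (fun u => (e1 u).trans (hratio tR s0 ν1 hν1 (by
      show μ 1 = ν1 * μ 2; simp [hμ]) u))
  have hαeq' := ext3 s1 α'
    (fun u => (e1' u).trans (hratio tL s1 ν1 hν1 (by
      show μ 1 = ν1 * μ 2; simp [hμ]) u))
    (fun u => (e2 u).trans (hratio tR s1 ν2 hν2 (by
      show μ 2 = ν2 * μ 3; simp [hμ]) u))
  refine ⟨semi hF μ hv (RingEquiv.refl F), MonoidHom.ext fun g => ?_, MonoidHom.ext fun g => ?_⟩
  · rw [← hα, MonoidHom.comp_apply, MonoidHom.comp_apply, semi_emb, hαeq]
  · rw [← hα', MonoidHom.comp_apply, MonoidHom.comp_apply, semi_emb, hαeq']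

/-- The relations between the swaps and tori of the two blocks of `SU₃(2)`. -/
theorem swap_relations (hF : Fintype.card F = 2 ^ 2) {w : F} (hw0 : w ≠ 0) {d s : SU 2 F 2}
    (hd : mat d = Matrix.diagonal ![w⁻¹, w]) (hs : mat s = !![0, 1; 1, 0]) :
    emb hF tL s * emb hF tR d * emb hF tL s = emb hF tL d * emb hF tR d ∧
    emb hF tR s * emb hF tL d * emb hF tR s = emb hF tL d * emb hF tR d ∧
    s * d * s = d⁻¹ ∧ s * s = 1 := by
  have eL : mat (emb hF tL d) = Matrix.diagonal ![w⁻¹, w, 1] := by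
    refine mat_emb_diagonal hF tL d hd (fun a => ?_) fun i hi => ?_
    · fin_cases a <;> simp [show tL 0 = 0 from rfl, show tL 1 = 1 from rfl]
    · rw [tL_off_two i hi]; rfl
  have eR : mat (emb hF tR d) = Matrix.diagonal ![1, w⁻¹, w] := by
    refine mat_emb_diagonal hF tR d hd (fun a => ?_) fun i hi => ?_
    · fin_cases a <;> simp [show tR 0 = 1 from rfl, show tR 1 = 2 from rfl]
    · rw [tR_off_two i hi]; rfl
  have mL : mat (emb hF tL s) = !![0, 1, 0; 1, 0, 0; 0, 0, 1] := by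
    ext i j
    rw [mat_emb]
    by_cases h : (∀ a, tL a ≠ i) ∨ ∀ a, tL a ≠ j
    · rw [embMat_apply_off tL _ h]
      rcases h with h | h
      · obtain rfl := tL_off_two i h; fin_cases j <;> simp [Matrix.one_apply]
      · obtain rfl := tL_off_two j h; fin_cases i <;> simp [Matrix.one_apply]
    · push Not at h
      obtain ⟨⟨a, rfl⟩, ⟨b, rfl⟩⟩ := h
      rw [embMat_apply_on, hs]
      fin_cases a <;> fin_cases b <;> simp [show tL 0 = 0 from rfl, show tL 1 = 1 from rfl]
  have mR : mat (emb hF tR s) = !![1, 0, 0; 0, 0, 1; 0, 1, 0] := by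
    ext i j
    rw [mat_emb]
    by_cases h : (∀ a, tR a ≠ i) ∨ ∀ a, tR a ≠ j
    · rw [embMat_apply_off tR _ h]
      rcases h with h | h
      · obtain rfl := tR_off_two i h; fin_cases j <;> simp [Matrix.one_apply]
      · obtain rfl := tR_off_two j h; fin_cases i <;> simp [Matrix.one_apply]
    · push Not at h
      obtain ⟨⟨a, rfl⟩, ⟨b, rfl⟩⟩ := h
      rw [embMat_apply_on, hs]
      fin_cases a <;> fin_cases b <;> simp [show tR 0 = 1 from rfl, show tR 1 = 2 from rfl]
  refine ⟨ext_mat ?_, ext_mat ?_, eq_inv_of_mul_eq_one_left (ext_mat ?_), ext_mat ?_⟩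
  · rw [mat_mul, mat_mul, mat_mul, mL, eR, eL]
    ext i j
    fin_cases i <;> fin_cases j <;> simp [Matrix.mul_apply, Matrix.vecMul_diagonal, Fin.sum_univ_three, hw0]
  · rw [mat_mul, mat_mul, mat_mul, mR, eR, eL]
    ext i j
    fin_cases i <;> fin_cases j <;> simp [Matrix.mul_apply, Matrix.vecMul_diagonal, Fin.sum_univ_three, hw0]
  · have hd' : mat d = !![w⁻¹, 0; 0, w] := by
      rw [hd]; ext i j; fin_cases i <;> fin_cases j <;> simp
    rw [mat_mul, mat_mul, mat_mul, hs, hd', Matrix.mul_fin_two, Matrix.mul_fin_two, Matrix.mul_fin_two]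
    ext i j
    fin_cases i <;> fin_cases j <;> simp [hw0, mat]
  · rw [mat_mul, hs]
    ext i j
    fin_cases i <;> fin_cases j <;> simp [Matrix.mul_apply, Fin.sum_univ_two, mat]

set_option maxHeartbeats 800000 in
/-- Two maps of `SU₃(2)` meeting in a block are standard up to an endomorphism. -/
theorem exists_hom_of_pair (hF : Fintype.card F = 2 ^ 2) {θ θ' : SU 3 F 2 →* SU 4 F 2}
    (hi : Function.Injective θ) (hi' : Function.Injective θ')
    (hmid : θ.comp (emb hF tR) = θ'.comp (emb hF tL))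
    (hfar : ∀ x y, Commute (θ (emb hF tL x)) (θ' (emb hF tR y))) :
    ∃ Φ : SU 4 F 2 →* SU 4 F 2, Φ.comp (emb hF (seg 0 3 4 (by omega))) = θ ∧
      Φ.comp (emb hF (seg 1 3 4 (by omega))) = θ' := by
  classical
  obtain ⟨h2, hcube, w, hw, hw0, hw1⟩ := two_facts hF
  obtain ⟨d, hd⟩ := exists_torus hF (hcube w hw0)
  obtain ⟨s, hs'⟩ := exists_swap (F := F) (q := 2) hF
  have hs01 : mat s 0 1 = 1 := by rw [← ap_single, hs', Pi.single_eq_same]
  have hs : mat s = !![0, 1; 1, 0] := by
    obtain ⟨e10, e11⟩ := entries_two hF s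
    have hs00 : mat s 0 0 = 0 := ((two_cases_su hF s).resolve_left fun h => one_ne_zero
      (hs01.symm.trans h)).1
    ext i j
    fin_cases i <;> fin_cases j
    · simpa using hs00
    · simpa using hs01
    · simp [e10, hs01, neg_eq_self h2]
    · simp [e11, hs00]
  obtain ⟨rLR, rRL, hsd, hss⟩ := swap_relations hF hw0 hd hs
  have hd3 : d * (d * d) = 1 := ext_mat (by
    rw [mat_mul, mat_mul, hd, Matrix.diagonal_mul_diagonal, Matrix.diagonal_mul_diagonal]
    ext i j
    fin_cases i <;> fin_cases j <;> simp [mat, hw0]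
    · field_simp; linear_combination -(hcube w hw0)
    · linear_combination hcube w hw0)
  have hmid' : ∀ u, θ (emb hF tR u) = θ' (emb hF tL u) := fun u => DFunLike.congr_fun hmid u
  let D : Fin 3 → SU 4 F 2 := ![θ (emb hF tL d), θ (emb hF tR d), θ' (emb hF tR d)]
  let S : Fin 3 → SU 4 F 2 := ![θ (emb hF tL s), θ (emb hF tR s), θ' (emb hF tR s)]
  have eL : mat (emb hF tL d) = Matrix.diagonal ![w⁻¹, w, 1] := by
    refine mat_emb_diagonal hF tL d hd (fun a => ?_) fun i hi => ?_
    · fin_cases a <;> simp [show tL 0 = 0 from rfl, show tL 1 = 1 from rfl]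
    · rw [tL_off_two i hi]; rfl
  have eR : mat (emb hF tR d) = Matrix.diagonal ![1, w⁻¹, w] := by
    refine mat_emb_diagonal hF tR d hd (fun a => ?_) fun i hi => ?_
    · fin_cases a <;> simp [show tR 0 = 1 from rfl, show tR 1 = 2 from rfl]
    · rw [tR_off_two i hi]; rfl
  have hLR : Commute (emb hF tL d) (emb hF tR d) := ext_mat (by
    rw [mat_mul, mat_mul, eL, eR, Matrix.diagonal_mul_diagonal, Matrix.diagonal_mul_diagonal]
    congr 1
    funext i
    exact mul_comm _ _)
  have c01 : Commute (D 0) (D 1) := hLR.map θ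
  have c12 : Commute (D 1) (D 2) := by
    show Commute (θ (emb hF tR d)) _
    rw [hmid']; exact hLR.map θ'
  have c02 : Commute (D 0) (D 2) := hfar d d
  have hc : ∀ a b, Commute (D a) (D b) := by
    intro a b
    fin_cases a <;> fin_cases b
    exacts [Commute.refl _, c01, c02, c01.symm, Commute.refl _, c12, c02.symm, c12.symm,
      Commute.refl _]
  have h33 : ∀ a, D a * (D a * D a) = 1 := by
    intro a
    fin_cases a <;>
      simp only [D, Matrix.cons_val_zero, Matrix.cons_val_one, Matrix.cons_val_two,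
        Matrix.tail_cons, Matrix.head_cons, Fin.isValue, Fin.zero_eta, Fin.mk_one, Fin.reduceFinMk,
        ← map_mul, hd3, map_one]
  obtain ⟨f, hf, c, hcf⟩ := exists_eigen_basis_three hF h33 hc
  -- exponents
  let val : Fin 3 → F := ![1, w, w⁻¹]
  have hvadd : ∀ i j, val (i + j) = val i * val j := by
    intro i j
    have hwi : w⁻¹ * w⁻¹ = w := by
      field_simp
      linear_combination (-1 : F) * hcube w hw0
    have hwsq : w * w = w⁻¹ := by
      field_simp
      linear_combination hcube w hw0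
    fin_cases i <;> fin_cases j <;> simp [val, hw0, hwi, hwsq, Fin.add_def]
  have hvne : ∀ i, val i ≠ 0 := fun i => by fin_cases i <;> simp [val, hw0]
  have hw' : w⁻¹ ≠ 1 := fun e => hw1 (inv_eq_one.1 e)
  have hww : w⁻¹ ≠ w := fun e => hw0 (by
    have h' : w * w = 1 := by nth_rw 1 [← e]; exact inv_mul_cancel₀ hw0
    linear_combination hw - h' - h2)
  have hvinj : Function.Injective val := by
    intro i j h
    fin_cases i <;> fin_cases j <;>
      simp [val, hw1, hw1.symm, hw', hw'.symm, hww, hww.symm] at h ⊢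
  have hvneg : ∀ i, val (-i) = (val i)⁻¹ := fun i => eq_inv_of_mul_eq_one_left (by
    rw [← hvadd, neg_add_cancel]; rfl)
  have hex : ∀ a i, ∃ e, c a i = val e := fun a i => by
    rcases four_values hF hw hw0 (hcf a i).1 with h | h | h
    exacts [⟨0, h⟩, ⟨1, h⟩, ⟨2, h⟩]
  choose e he using hex
  have heig : ∀ a i, ap (D a) (f i) = val (e a i) • f i := fun a i => by
    rw [(hcf a i).2, he]
  -- an eigenvector has one of the weights
  have hweight : ∀ (x : Fin 4 → F) (v : Fin 3 → Fin 3), x ≠ 0 →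
      (∀ a, ap (D a) x = val (v a) • x) → ∃ i, (fun a => e a i) = v := by
    intro x v hx hxv
    obtain ⟨i, hi⟩ : ∃ i, hermForm 4 F 2 x (f i) ≠ 0 := by
      by_contra hcon
      push Not at hcon
      refine hx ?_
      rw [← on_expand' hF hf x]
      simp [hcon]
    refine ⟨i, funext fun a => ?_⟩
    have h := herm_ap (D a) x (f i)
    rw [hxv, heig, herm_smul_left, herm_smul_right] at h
    refine hvinj (Eq.symm (mul_right_cancel₀ (pow_ne_zero 2 (hvne (e a i)))
      (Eq.trans ?_ (hcube _ (hvne (e a i))).symm)))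
    exact mul_right_cancel₀ hi (by linear_combination h)
  -- the reflections act on the weights
  have hS2 : ∀ a, S a * S a = 1 := by
    intro a
    fin_cases a <;>
      simp only [S, Matrix.cons_val_zero, Matrix.cons_val_one, Matrix.cons_val_two,
        Matrix.tail_cons, Matrix.head_cons, Fin.isValue, Fin.zero_eta, Fin.mk_one, Fin.reduceFinMk,
        ← map_mul, hss, map_one]
  have hD : ∀ a, D a * (D a)⁻¹ = 1 := fun a => mul_inv_cancel _
  have hdiag : ∀ (θ : SU 3 F 2 →* SU 4 F 2) (ι : Fin 2 ↪ Fin 3),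
      θ (emb hF ι s) * θ (emb hF ι d) * θ (emb hF ι s) = (θ (emb hF ι d))⁻¹ := fun θ ι => by
    rw [← map_mul, ← map_mul, ← map_mul, ← map_mul, hsd, map_inv, map_inv]
  have hSD : ∀ r i, ∀ a, ap (D a) (ap (S r) (f i)) = val (refl' r (fun a => e a i) a) • ap (S r) (f i) := by
    intro r i
    have key : ∀ a (X : SU 4 F 2) (v : Fin 3), S r * D a * S r = X → ap X (f i) = val v • f i →
        ap (D a) (ap (S r) (f i)) = val v • ap (S r) (f i) := by
      intro a X v hX hv
      have hXS : D a * S r = S r * X := by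
        rw [← hX, ← mul_assoc, ← mul_assoc, hS2, one_mul]
      rw [← ap_mul, hXS, ap_mul, hv, ap_smul]
    have hinv : ∀ a, ap (D a)⁻¹ (f i) = val (-e a i) • f i := fun a => by
      rw [hvneg]
      conv_lhs => arg 2; rw [show f i = (val (e a i))⁻¹ • ap (D a) (f i) by
        rw [heig, inv_smul_smul₀ (hvne _)]]
      rw [ap_smul, ap_inv_ap]
    have hmul : ∀ a b, ap (D a * D b) (f i) = val (e a i + e b i) • f i := fun a b => by
      rw [ap_mul, heig, ap_smul, heig, smul_smul, hvadd, mul_comm]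
    have far' : ∀ {X Y : SU 4 F 2}, X * X = 1 → Commute X Y → X * Y * X = Y := fun hX h => by
      rw [h.eq, mul_assoc, hX, mul_one]
    intro a
    fin_cases r <;> fin_cases a
    · exact key 0 _ _ (hdiag θ tL) (hinv 0)
    · exact key 1 (D 0 * D 1) _ (by
        show θ (emb hF tL s) * θ (emb hF tR d) * θ (emb hF tL s) = _
        rw [← map_mul, ← map_mul, rLR, map_mul]; rfl) (hmul 0 1)
    · exact key 2 (D 2) _ (far' (hS2 0) (hfar s d)) (heig 2 i)
    · exact key 0 (D 0 * D 1) _ (by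
        show θ (emb hF tR s) * θ (emb hF tL d) * θ (emb hF tR s) = _
        rw [← map_mul, ← map_mul, rRL, map_mul]; rfl) (hmul 0 1)
    · exact key 1 _ _ (hdiag θ tR) (hinv 1)
    · exact key 2 (D 1 * D 2) _ (by
        show θ (emb hF tR s) * θ' (emb hF tR d) * θ (emb hF tR s) = θ (emb hF tR d) * θ' (emb hF tR d)
        rw [hmid' s, hmid' d, ← map_mul, ← map_mul, rLR, map_mul]) (hmul 1 2)
    · exact key 0 (D 0) _ (far' (hS2 2) (hfar d s).symm) (heig 0 i)
    · exact key 1 (D 1 * D 2) _ (by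
        show θ' (emb hF tR s) * θ (emb hF tR d) * θ' (emb hF tR s) = θ (emb hF tR d) * θ' (emb hF tR d)
        rw [hmid' d, ← map_mul, ← map_mul, rRL, map_mul]) (hmul 1 2)
    · exact key 2 _ _ (hdiag θ' tR) (hinv 2)
  let Wt : Finset (Fin 3 → Fin 3) := Finset.univ.image fun i => fun a => e a i
  have hclosed : ∀ r v, v ∈ Wt → refl' r v ∈ Wt := by
    intro r v hv
    obtain ⟨i, -, rfl⟩ := Finset.mem_image.1 hv
    have hne : ap (S r) (f i) ≠ 0 := fun h0 => by
      have h1 : hermForm 4 F 2 (f i) (f i) = 1 := by rw [hf]; exact if_pos rfl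
      rw [← herm_ap (S r), h0, herm_zero_left] at h1
      exact zero_ne_one h1
    obtain ⟨j, hj⟩ := hweight _ _ hne (hSD r i)
    exact Finset.mem_image.2 ⟨j, Finset.mem_univ _, hj⟩
  obtain ⟨i0, hi0⟩ : ∃ i, (fun a => e a i) ≠ 0 := by
    by_contra hcon
    push Not at hcon
    have h1 : D 0 = 1 := ap_ext fun x => by
      rw [← on_expand' hF hf x, ap_one, Fin.sum_univ_four]
      simp only [ap_add, ap_smul, heig, show ∀ i, e 0 i = 0 from fun i => congrFun (hcon i) 0]
      simp [val]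
    have h' := hi ((show θ (emb hF tL d) = 1 from h1).trans (map_one θ).symm)
    have h'' := congrFun (congrFun (congrArg (fun z => mat z) h') 1) 1
    rw [eL] at h''
    simp [mat] at h''
    exact hw1 h''
  have hlist : ∀ v ∈ wordList (fun a => e a i0), v ∈ Wt := by
    intro v hv
    obtain ⟨l, hl, rfl⟩ := List.mem_map.1 hv
    clear hl hv
    induction l with
    | nil => exact Finset.mem_image.2 ⟨i0, Finset.mem_univ _, rfl⟩
    | cons r l ih => exact hclosed r _ ih
  have hcard : (wordList (fun a => e a i0)).toFinset.card ≤ 4 := by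
    refine (Finset.card_le_card (t := Wt) fun v hv => hlist v (List.mem_toFinset.1 hv)).trans ?_
    exact Finset.card_image_le.trans (by simp)
  -- diagonalise
  have finish : ∀ (Q : SU 4 F 2 →* SU 4 F 2), Function.Bijective Q →
      (∀ a, mat (Q (D a)) = Matrix.diagonal fun i => val (stdW i a)) →
      ∃ Φ : SU 4 F 2 →* SU 4 F 2, Φ.comp (emb hF (seg 0 3 4 (by omega))) = θ ∧
        Φ.comp (emb hF (seg 1 3 4 (by omega))) = θ' := by
    intro Q hQ hQD
    obtain ⟨Φ, hΦ, hΦ'⟩ := exists_std_two hF hw hw0 hw1 hd (θ := Q.comp θ) (θ' := Q.comp θ')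
      (hQ.1.comp hi) (hQ.1.comp hi') (by rw [MonoidHom.comp_assoc, MonoidHom.comp_assoc, hmid])
      ((hQD 0).trans (by congr 1; funext i; fin_cases i <;> rfl))
      ((hQD 1).trans (by congr 1; funext i; fin_cases i <;> rfl))
      ((hQD 2).trans (by congr 1; funext i; fin_cases i <;> rfl))
    let Q' := MulEquiv.ofBijective Q hQ
    refine ⟨Q'.symm.toMonoidHom.comp Φ, ?_, ?_⟩
    · rw [MonoidHom.comp_assoc, hΦ]
      exact MonoidHom.ext fun g => Q'.symm_apply_apply (θ g)
    · rw [MonoidHom.comp_assoc, hΦ']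
      exact MonoidHom.ext fun g => Q'.symm_apply_apply (θ' g)
  have arrange : ∀ t : Fin 4 → Fin 3 → Fin 3, Function.Injective t → (∀ i, t i ∈ Wt) →
      ∃ g : SU 4 F 2, ∀ a, mat (g * D a * g⁻¹) = Matrix.diagonal fun i => val (t i a) := by
    intro t ht htW
    have hsel : ∀ i, ∃ j, (fun a => e a j) = t i := fun i => by
      obtain ⟨j, -, hj⟩ := Finset.mem_image.1 (htW i)
      exact ⟨j, hj⟩
    choose π hπ using hsel
    have hπi : Function.Injective π := fun i j h => ht (by rw [← hπ i, ← hπ j, h])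
    exact exists_conj_diag (l := 3) hF (f := f ∘ π)
      (fun i j => by simp only [Function.comp_apply]; rw [hf]; simp [hπi.eq_iff])
      (c := fun a i => val (t i a)) (fun a i => by
        rw [← congrFun (hπ i) a]; exact heig a (π i))
  rcases wordList_small _ hi0 hcard with hW | hW
  · obtain ⟨g, hg⟩ := arrange stdW (by decide) fun i => hlist _ (hW i)
    exact finish (MulAut.conj g).toMonoidHom (MulAut.conj g).bijective hg
  · obtain ⟨g, hg⟩ := arrange (fun i k => -stdW i k) (by decide) fun i => hlist _ (hW i)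
    have hone : ∀ _ : Fin 4, (1 : F) * 1 ^ 2 = 1 := fun _ => by simp
    have hinjQ : Function.Injective ((semi hF (fun _ : Fin 4 => (1 : F)) hone (frob hF)).comp
        (MulAut.conj g).toMonoidHom) :=
      ((semi_injective hF (fun _ : Fin 4 => (1 : F)) hone (frob hF)).comp (MulAut.conj g).injective)
    refine finish _ ((Finite.injective_iff_bijective).1 hinjQ) fun a => ?_
    show mat (semi hF (fun _ : Fin 4 => (1 : F)) hone (frob hF) (g * D a * g⁻¹)) = _
    rw [mat_semi, hg]
    ext i j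
    rw [semiMat_apply]
    by_cases h : i = j
    · subst h
      simp only [Matrix.diagonal_apply_eq, one_mul, inv_one, mul_one, frob_apply, hvneg]
      rw [inv_pow, ← eq_inv_of_mul_eq_one_left (hcube _ (hvne (stdW i a)))]
    · simp [h]
where
  on_expand' {n : ℕ} (hF : Fintype.card F = 2 ^ 2) {f : Fin n → Fin n → F} (hf : ON 2 f)
      (x : Fin n → F) : ∑ i, hermForm n F 2 x (f i) • f i = x := by
    refine hf.proj_eq_self hF ?_
    have : Submodule.span F (Set.range f) = ⊤ := by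
      refine Submodule.eq_top_of_finrank_eq ?_
      rw [hf.finrank_span, Module.finrank_fin_fun, Fintype.card_fin]
    rw [this]
    trivial

end Cfsg.Agent.Cores.Phan
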