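import Mathlib
import Cfsg.Agent.Cores.Phan.TwoGen

/-!
Over the field of four elements, a map on `SU_m` and a map on the last `SU₄` give a map on
`SU_(m+1)`.
-/

set_option autoImplicit false
set_option linter.unusedSectionVars false

namespace Cfsg.Agent.Cores.Phan

open Cfsg Cfsg.Agent.Unitary Matrix

variable {F : Type*} [Field F] [Fintype F]

/-- A connected covering of the orthogonality graph in which all squares close is trivial. -/
theorem injective_of_squares {n q : ℕ} (hF : Fintype.card F = q ^ 2) (hn : 5 ≤ n) {X : Type*}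
    (proj : X → Fin n → F) (adj : X → X → Prop)
    (hunit : ∀ z, hermForm n F q (proj z) (proj z) = 1)
    (hsymm : ∀ {z z'}, adj z z' → adj z' z)
    (hperp : ∀ {z z'}, adj z z' → hermForm n F q (proj z') (proj z) = 0)
    (hlift : ∀ z y, hermForm n F q y y = 1 → hermForm n F q y (proj z) = 0 →
      ∃ z', adj z z' ∧ proj z' = y)
    (htri : ∀ {z a b}, adj z a → adj z b → hermForm n F q (proj a) (proj b) = 0 → adj a b)
    (hsq : ∀ {z a b w w'}, adj z a → adj a w → adj z b → adj b w' → proj w = proj w' → w = w')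
    (base : X) (hconn : ∀ z, Relation.ReflTransGen adj base z) : Function.Injective proj := by
  have sw : ∀ {u u' : Fin n → F}, hermForm n F q u u' = 0 → hermForm n F q u' u = 0 :=
    fun h => (herm_eq_zero_symm hF).1 h
  have reach : ∀ z, ∃ a, adj base a ∧ adj a z := by
    intro z
    induction hconn z with
    | refl =>
      obtain ⟨d, hd1, hd⟩ := exists_unit_perp_one hF (by omega) (hunit base)
      obtain ⟨a, ha, -⟩ := hlift base d hd1 hd
      exact ⟨a, ha, hsymm ha⟩
    | @tail w v _ wv ih =>
      obtain ⟨a, ba, aw⟩ := ih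
      obtain ⟨d, hd1, hde, hdw, hdv⟩ := exists_common_perp hF hn (e := proj base) (hunit w) (hunit v)
        (sw (hperp wv))
      obtain ⟨c, bc, hc⟩ := hlift base d hd1 hde
      obtain ⟨w', cw, hw'⟩ := hlift c (proj w) (hunit w) (by rw [hc]; exact sw hdw)
      obtain rfl := hsq ba aw bc cw hw'.symm
      exact ⟨c, bc, htri (hsymm cw) wv (by rw [hc]; exact hdv)⟩
  intro z z' h
  obtain ⟨a, ha, haz⟩ := reach z
  obtain ⟨b, hb, hbz⟩ := reach z'
  exact hsq ha haz hb hbz h

variable {G : Type*} [Group G] {m : ℕ}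

set_option maxHeartbeats 1600000 in
/-- The induction step. -/
theorem exists_step_two (hF : Fintype.card F = 2 ^ 2) (hm : 4 ≤ m) (Φ : SU m F 2 →* G)
    (ρ : SU 4 F 2 →* G)
    (hagree : ρ.comp (emb hF (seg 0 3 4 (by omega))) = Φ.comp (emb hF (seg (m - 3) 3 m (by omega))))
    (hcomm1 : ∀ (a : SU (m - 1) F 2) (u : SU 2 F 2),
      Commute (Φ (emb hF (seg 0 (m - 1) m (by omega)) a)) (ρ (emb hF (seg 2 2 4 (by omega)) u)))
    (hcomm2 : ∀ (a : SU (m - 2) F 2) (g : SU 3 F 2),
      Commute (Φ (emb hF (seg 0 (m - 2) m (by omega)) a)) (ρ (emb hF (seg 1 3 4 (by omega)) g))) :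
    ∃ Φ' : SU (m + 1) F 2 →* G,
      Φ'.comp (emb hF (seg 0 m (m + 1) (by omega))) = Φ ∧
      Φ'.comp (emb hF (seg (m - 3) 4 (m + 1) (by omega))) = ρ := by
  obtain ⟨h2, hcube, -⟩ := two_facts hF
  set sA := seg 0 m (m + 1) (by omega) with hsA
  set s4 := seg (m - 3) 4 (m + 1) (by omega) with hs4
  set t3 := seg 0 3 4 (by omega) with ht3
  set t2 := seg 2 2 4 (by omega) with ht2
  set t13 := seg 1 3 4 (by omega) with ht13
  set iA := pairHom hF sA Φ with hiA
  set i4 := pairHom hF s4 ρ with hi4
  have h40 : ∀ c, i4 (emb hF t3 c) = iA (emb hF (seg (m - 3) 3 m (by omega)) c) := by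
    intro c
    refine Prod.ext ?_ (DFunLike.congr_fun hagree c)
    show emb hF s4 (emb hF t3 c) = emb hF sA _
    rw [emb_emb, emb_emb, seg_trans 0 3 (m - 3) 4 (m + 1) (by omega) (by omega) (by omega),
      seg_trans (m - 3) 3 0 m (m + 1) (by omega) (by omega) (by omega),
      seg_congr (show m - 3 + 0 = 0 + (m - 3) by omega) _ (by omega)]
  set L := iA.range ⊔ i4.range with hL
  have hA : ∀ a, iA a ∈ L := fun a => Subgroup.mem_sup_left ⟨a, rfl⟩
  have h4 : ∀ g, i4 g ∈ L := fun g => Subgroup.mem_sup_right ⟨g, rfl⟩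
  -- commutation
  have hc1 : ∀ a u, Commute (iA (emb hF (seg 0 (m - 1) m (by omega)) a)) (i4 (emb hF t2 u)) := by
    intro a u
    refine Commute.prod ?_ (hcomm1 a u)
    show Commute (emb hF sA (emb hF _ a)) (emb hF s4 (emb hF t2 u))
    rw [emb_emb, emb_emb]
    exact emb_commute hF _ _ (fun x y h => by
      have := congrArg Fin.val h; simp [hsA, hs4, ht2] at this; omega) a u
  have hc2 : ∀ a g, Commute (iA (emb hF (seg 0 (m - 2) m (by omega)) a)) (i4 (emb hF t13 g)) := by
    intro a g
    refine Commute.prod ?_ (hcomm2 a g)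
    show Commute (emb hF sA (emb hF _ a)) (emb hF s4 (emb hF t13 g))
    rw [emb_emb, emb_emb]
    exact emb_commute hF _ _ (fun x y h => by
      have := congrArg Fin.val h; simp [hsA, hs4, ht13] at this; omega) a g
  -- vectors
  set pa : Fin m := ⟨m - 1, by omega⟩ with hpa
  set pb : Fin m := ⟨m - 2, by omega⟩ with hpb
  set pc : Fin m := ⟨m - 3, by omega⟩ with hpc
  have hpab : pb ≠ pa := by intro h; have := congrArg Fin.val h; simp [hpa, hpb] at this; omega
  set e : Fin (m + 1) → F := Pi.single (Fin.last m) 1 with he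
  have hee : hermForm (m + 1) F 2 e e = 1 := single_unit hF _
  have hAoff : ∀ i : Fin (m + 1), (∀ j, sA j ≠ i) → i = Fin.last m := by
    intro i hi
    refine Fin.ext ?_
    by_contra hne
    exact hi ⟨i, by have := i.isLt; simp at hne; omega⟩ (Fin.ext (by simp [hsA]))
  have hAlast : ∀ j, sA j ≠ Fin.last m := fun j h => by
    have := congrArg Fin.val h; simp [hsA] at this; omega
  have hAe : ∀ a, ap (iA a).1 e = e := fun a => ap_emb_off hF sA a fun j =>
    Pi.single_eq_of_ne (hAlast j) _
  have hs43 : s4 3 = Fin.last m := Fin.ext (by simp [hs4]; omega)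
  have hs42 : s4 2 = sA pa := Fin.ext (by simp [hs4, hsA, hpa]; omega)
  have hs41 : s4 1 = sA pb := Fin.ext (by simp [hs4, hsA, hpb]; omega)
  have he4 : e = inj F s4 *ᵥ Pi.single 3 1 := by rw [inj_mulVec_single, hs43]
  have hea4 : inj F sA *ᵥ Pi.single pa (1 : F) = inj F s4 *ᵥ Pi.single 2 1 := by
    rw [inj_mulVec_single, inj_mulVec_single, hs42]
  -- points
  set A := iA.range.subgroupOf L with hAdef
  let proj : L ⧸ A → (Fin (m + 1) → F) :=
    Quotient.lift (fun l : L => ap (l : SU (m + 1) F 2 × G).1 e) (by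
      intro l l' h
      obtain ⟨a, ha⟩ := (QuotientGroup.leftRel_apply.1 h)
      show ap (l : SU (m + 1) F 2 × G).1 e = ap (l' : SU (m + 1) F 2 × G).1 e
      have : (l' : SU (m + 1) F 2 × G) = l * iA a := by rw [ha]; simp
      rw [this, Prod.fst_mul, ap_mul, hAe])
  obtain ⟨w2, hw2⟩ := exists_swap (F := F) (q := 2) hF
  set w4 := emb hF t2 w2 with hw4
  let mkA : SU m F 2 → L := fun a => ⟨iA a, hA a⟩
  let mk4 : SU 4 F 2 → L := fun g => ⟨i4 g, h4 g⟩
  set W : L := mk4 w4 with hW
  have mkA_mul : ∀ a b, mkA (a * b) = mkA a * mkA b := fun a b => Subtype.ext (map_mul iA a b)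
  have mk4_mul : ∀ a b, mk4 (a * b) = mk4 a * mk4 b := fun a b => Subtype.ext (map_mul i4 a b)
  have mk4_one : mk4 1 = 1 := Subtype.ext (map_one i4)
  have mk_A : ∀ (l : L) a, (QuotientGroup.mk (l * mkA a) : L ⧸ A) = QuotientGroup.mk l := by
    intro l a
    refine (QuotientGroup.eq.2 ?_).symm
    rw [inv_mul_cancel_left]
    exact ⟨a, rfl⟩
  have hk : ∀ c, mk4 (emb hF t3 c) = mkA (emb hF (seg (m - 3) 3 m (by omega)) c) :=
    fun c => Subtype.ext (h40 c)
  have hw43 : ap w4 (Pi.single 3 1) = Pi.single 2 1 := by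
    have : (Pi.single 3 1 : Fin 4 → F) = inj F t2 *ᵥ Pi.single 1 1 := by
      rw [inj_mulVec_single]; rfl
    rw [hw4, this, ap_emb_on, hw2, inj_mulVec_single]
    rfl
  -- elements with the same effect on the last vector
  have four : ∀ (l : L) (g g' : SU 4 F 2), ap g (Pi.single 3 1) = ap g' (Pi.single 3 1) →
      (QuotientGroup.mk (l * mk4 g) : L ⧸ A) = QuotientGroup.mk (l * mk4 g') := by
    intro l g g' hgg
    obtain ⟨c, hc⟩ := exists_emb_eq hF t3 (g := g⁻¹ * g') (fun i hi => by
      obtain rfl : i = 3 := by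
        fin_cases i
        · exact absurd rfl (hi 0)
        · exact absurd rfl (hi 1)
        · exact absurd rfl (hi 2)
        · rfl
      rw [ap_mul, ← hgg, ap_inv_ap])
    have hgc : mk4 g' = mk4 g * mkA (emb hF (seg (m - 3) 3 m (by omega)) c) := by
      rw [← hk, ← mk4_mul, hc, mul_inv_cancel_left]
    rw [hgc, ← mul_assoc, mk_A]
  let adj : L ⧸ A → L ⧸ A → Prop := fun z z' =>
    ∃ l : L, z = QuotientGroup.mk l ∧ z' = QuotientGroup.mk (l * W)
  have proj_mk : ∀ l : L, proj (QuotientGroup.mk l) = ap (l : SU (m + 1) F 2 × G).1 e :=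
    fun l => rfl
  have proj4 : ∀ (l : L) g, proj (QuotientGroup.mk (l * mk4 g)) =
      ap (l : SU (m + 1) F 2 × G).1 (inj F s4 *ᵥ ap g (Pi.single 3 1)) := by
    intro l g
    rw [proj_mk, Subgroup.coe_mul, Prod.fst_mul, ap_mul, he4]
    show ap _ (ap (emb hF s4 g) _) = _
    rw [ap_emb_on]
  have proj_mkA : ∀ (l : L) a, proj (QuotientGroup.mk (l * mkA a * W)) =
      ap (l : SU (m + 1) F 2 × G).1 (inj F sA *ᵥ ap a (Pi.single pa 1)) := by
    intro l a
    rw [proj4, hw43, ← hea4, Subgroup.coe_mul, Prod.fst_mul, ap_mul]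
    show ap _ (ap (emb hF sA a) _) = _
    rw [ap_emb_on]
  have adj_l : ∀ (l : L) a, adj (QuotientGroup.mk l) (QuotientGroup.mk (l * mkA a * W)) :=
    fun l a => ⟨l * mkA a, (mk_A l a).symm, rfl⟩
  have nb : ∀ (l : L) (z' : L ⧸ A), adj (QuotientGroup.mk l) z' →
      ∃ a, z' = QuotientGroup.mk (l * mkA a * W) := by
    rintro l z' ⟨l', hl, rfl⟩
    obtain ⟨a, ha⟩ := QuotientGroup.eq.1 hl
    refine ⟨a, ?_⟩
    have : l' = l * mkA a := by
      have e1 : mkA a = l⁻¹ * l' := Subtype.ext ha
      rw [e1, mul_inv_cancel_left]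
    rw [this]
  have hfix : ∀ a : SU m F 2, ap a (Pi.single pa 1) = Pi.single pa 1 →
      ∃ b, emb hF (seg 0 (m - 1) m (by omega)) b = a := by
    intro a ha
    refine exists_emb_eq hF _ fun i hi => ?_
    obtain rfl : i = pa := by
      refine Fin.ext ?_
      by_contra hne
      have h1 : (i : ℕ) ≠ m - 1 := hne
      exact hi ⟨i, by omega⟩ (Fin.ext (by simp))
    exact ha
  have nbu : ∀ (l : L) a b, ap a (Pi.single pa (1 : F)) = ap b (Pi.single pa 1) →
      (QuotientGroup.mk (l * mkA a * W) : L ⧸ A) = QuotientGroup.mk (l * mkA b * W) := by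
    intro l a b hab
    obtain ⟨c, hc⟩ := hfix (a⁻¹ * b) (by rw [ap_mul, ← hab, ap_inv_ap])
    have hb : mkA b = mkA a * mkA (emb hF (seg 0 (m - 1) m (by omega)) c) := by
      rw [← mkA_mul, hc, mul_inv_cancel_left]
    have hcw : mkA (emb hF (seg 0 (m - 1) m (by omega)) c) * W =
        W * mkA (emb hF (seg 0 (m - 1) m (by omega)) c) := Subtype.ext (hc1 c w2).eq
    rw [hb, ← mul_assoc l (mkA a) (mkA _), mul_assoc (l * mkA a) (mkA _) W, hcw,
      ← mul_assoc (l * mkA a) W, mk_A]
  -- adjacency inside the four-space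
  have adj_near : ∀ (l : L) (g g' : SU 4 F 2),
      hermForm 4 F 2 (ap g' (Pi.single 3 1)) (ap g (Pi.single 3 1)) = 0 →
      adj (QuotientGroup.mk (l * mk4 g)) (QuotientGroup.mk (l * mk4 g')) := by
    intro l g g' hgg
    obtain ⟨k, hk1, hk2⟩ := exists_SU_map_pair hF (by omega)
      (on_pair hF (single_unit hF (3 : Fin 4)) (single_unit hF 2)
        (by rw [herm_single_single hF]; simp))
      (on_pair hF (x := ap g (Pi.single 3 1)) (y := ap g' (Pi.single 3 1))
        (by rw [herm_ap, single_unit hF]) (by rw [herm_ap, single_unit hF])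
        ((herm_eq_zero_symm hF).1 hgg))
    refine ⟨l * mk4 k, four l g k hk1.symm, ?_⟩
    rw [four l g' (k * w4) (by rw [ap_mul, hw43, hk2]), mk4_mul, ← hW, mul_assoc]
  have adj_symm : ∀ {z z'}, adj z z' → adj z' z := by
    rintro z z' ⟨l, rfl, rfl⟩
    have := adj_near l w4 1 (by rw [hw43, ap_one, herm_single_single hF]; simp)
    rwa [mk4_one, mul_one, ← hW] at this
  have hperp : ∀ {z z'}, adj z z' → hermForm (m + 1) F 2 (proj z') (proj z) = 0 := by
    rintro z z' ⟨l, rfl, rfl⟩
    rw [hW, proj4, hw43, proj_mk, herm_ap, ← hea4, he, herm_single_right hF,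
      inj_mulVec_off _ _ hAlast, zero_mul]
  have hres : ∀ {y : Fin (m + 1) → F}, hermForm (m + 1) F 2 y e = 0 →
      y = inj F sA *ᵥ fun j => y (sA j) := by
    intro y hy
    refine eq_inj_mulVec sA fun i hi => ?_
    rw [he, herm_single_right hF, one_pow, mul_one] at hy
    rw [hAoff i hi]; exact hy
  have hunit : ∀ z, hermForm (m + 1) F 2 (proj z) (proj z) = 1 := by
    intro z
    induction z using QuotientGroup.induction_on with
    | H l => rw [proj_mk, herm_ap, hee]
  have hlift : ∀ z y, hermForm (m + 1) F 2 y y = 1 → hermForm (m + 1) F 2 y (proj z) = 0 →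
      ∃ z', adj z z' ∧ proj z' = y := by
    intro z
    induction z using QuotientGroup.induction_on with
    | H l =>
      intro y hy hyz
      rw [proj_mk] at hyz
      obtain ⟨y', hy'⟩ : ∃ y', y' = ap (l : SU (m + 1) F 2 × G).1⁻¹ y := ⟨_, rfl⟩
      have hy'e : hermForm (m + 1) F 2 y' e = 0 := by
        rw [← hyz, ← herm_ap (l : SU (m + 1) F 2 × G).1 y' e, hy', ap_ap_inv]
      have hy'1 : hermForm m F 2 (fun j => y' (sA j)) (fun j => y' (sA j)) = 1 := by
        rw [← herm_inj hF sA, ← hres hy'e, hy', herm_ap, hy]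
      obtain ⟨a, ha⟩ := exists_SU_map_unit hF (by omega) (single_unit hF pa) hy'1
      exact ⟨_, adj_l l a, by rw [proj_mkA, ha, ← hres hy'e, hy', ap_ap_inv]⟩
  have huniq : ∀ {z z' z''}, adj z z' → adj z z'' → proj z' = proj z'' → z' = z'' := by
    intro z
    induction z using QuotientGroup.induction_on with
    | H l =>
      intro z' z'' h' h'' heq
      obtain ⟨a, rfl⟩ := nb l z' h'
      obtain ⟨b, rfl⟩ := nb l z'' h''
      rw [proj_mkA, proj_mkA] at heq
      have := ap_injective _ heq
      exact nbu l a b (funext fun j => by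
        have h := congrFun this (sA j)
        rwa [inj_mulVec, inj_mulVec] at h)
  have htri : ∀ {z a b}, adj z a → adj z b → hermForm (m + 1) F 2 (proj a) (proj b) = 0 →
      adj a b := by
    intro z a b
    induction z using QuotientGroup.induction_on with
    | H l =>
      intro za zb hab
      obtain ⟨c, rfl⟩ := nb l a za
      obtain ⟨d, rfl⟩ := nb l b zb
      rw [proj_mkA, proj_mkA, herm_ap, herm_inj hF] at hab
      obtain ⟨g, hg1, hg2⟩ := exists_SU_map_pair hF (by omega)
        (on_pair hF (single_unit hF pa) (single_unit hF pb)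
          (by rw [herm_single_single hF, if_neg hpab.symm]))
        (on_pair hF (x := ap c (Pi.single pa 1)) (y := ap d (Pi.single pa 1))
          (by rw [herm_ap, single_unit hF]) (by rw [herm_ap, single_unit hF]) hab)
      obtain ⟨k, hk1⟩ := exists_SU_map_unit hF (n := 3) (by omega) (single_unit hF (2 : Fin 3))
        (single_unit hF (1 : Fin 3))
      set κ := emb hF (seg (m - 3) 3 m (by omega)) k with hκ
      have hκa : ap κ (Pi.single pa 1) = Pi.single pb 1 := by
        have ea : (Pi.single pa 1 : Fin m → F) =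
            inj F (seg (m - 3) 3 m (by omega)) *ᵥ Pi.single 2 1 := by
          rw [inj_mulVec_single]; congr 1; exact Fin.ext (by simp [hpa]; omega)
        rw [ea, hκ, ap_emb_on, hk1, inj_mulVec_single]
        congr 1; exact Fin.ext (by simp [hpb]; omega)
      rw [nbu l c g hg1.symm, nbu l d (g * κ) (by rw [ap_mul, hκa, hg2]), mkA_mul, hκ, ← hk,
        ← mul_assoc l (mkA g), mul_assoc (l * mkA g) (mk4 _) W, hW, ← mk4_mul]
      refine adj_near _ _ _ ?_
      have hκ2 : ap (emb hF t3 k) (Pi.single 2 1) = (Pi.single 1 1 : Fin 4 → F) := by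
        have : (Pi.single 2 1 : Fin 4 → F) = inj F t3 *ᵥ Pi.single 2 1 := by
          rw [inj_mulVec_single]; rfl
        rw [this, ap_emb_on, hk1, inj_mulVec_single]
        rfl
      rw [ap_mul, hw43, hκ2, herm_single_single hF]
      simp
  -- all squares close
  have hcanon : ∀ (l : L) (x : Fin (m + 1) → F), hermForm (m + 1) F 2 x x = 1 →
      x (Fin.last m) ≠ 0 → ∃ P, proj P = ap (l : SU (m + 1) F 2 × G).1 x ∧
        ∀ c, hermForm (m + 1) F 2 x (inj F sA *ᵥ ap c (Pi.single pa 1)) = 0 →
          adj (QuotientGroup.mk (l * mkA c * W)) P := by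
    intro l x hx ht
    set v : Fin m → F := fun j => x (sA j) with hvdef
    set t := x (Fin.last m) with htdef
    have hsplit : x = inj F sA *ᵥ v + Pi.single (Fin.last m) t := by
      ext i
      by_cases hi : ∀ j, sA j ≠ i
      · rw [Pi.add_apply, inj_mulVec_off _ _ hi, hAoff i hi, Pi.single_eq_same, zero_add]
      · push Not at hi
        obtain ⟨j, rfl⟩ := hi
        rw [Pi.add_apply, inj_mulVec, Pi.single_eq_of_ne (hAlast j), add_zero]
    have hcross : ∀ (u : Fin m → F) (s : F),
        hermForm (m + 1) F 2 (inj F sA *ᵥ u) (Pi.single (Fin.last m) s) = 0 := fun u s => by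
      rw [herm_single_right hF, inj_mulVec_off _ _ hAlast, zero_mul]
    have hvn : hermForm m F 2 v v = 0 := by
      have h := hx
      rw [hsplit, herm_add_left, herm_add_right hF, herm_add_right hF, herm_inj hF, hcross,
        (herm_eq_zero_symm hF).1 (hcross _ _), herm_single_left, Pi.single_eq_same,
        hcube t ht] at h
      linear_combination h
    by_cases hv0 : v = 0
    · -- the vector is a multiple of the last one
      obtain ⟨u2, hu2⟩ := exists_SU_map_unit hF (n := 2) le_rfl (single_unit hF (1 : Fin 2))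
        (y := Pi.single (1 : Fin 2) t) (by
          rw [herm_single_left, Pi.single_eq_same]; exact hcube t ht)
      set u := emb hF t2 u2 with hu
      have hu3 : ap u (Pi.single 3 1) = Pi.single 3 t := by
        have : (Pi.single 3 1 : Fin 4 → F) = inj F t2 *ᵥ Pi.single 1 1 := by
          rw [inj_mulVec_single]; rfl
        rw [hu, this, ap_emb_on, hu2, inj_mulVec_single]
        rfl
      refine ⟨QuotientGroup.mk (l * mk4 u), ?_, fun c _ => ?_⟩
      · rw [proj4, hu3, inj_mulVec_single, hs43, hsplit, hv0, mulVec_zero, zero_add]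
      let S : Subgroup (SU m F 2) :=
        { carrier := {c | ∀ l : L, (QuotientGroup.mk (l * mkA c * mk4 u) : L ⧸ A) =
            QuotientGroup.mk (l * mk4 u)}
          one_mem' := fun l => by rw [show mkA 1 = 1 from Subtype.ext (map_one iA), mul_one]
          mul_mem' := fun {c d} hc hd l => by
            rw [mkA_mul, ← mul_assoc l, hd (l * mkA c), hc l]
          inv_mem' := fun {c} hc l => by
            rw [← hc (l * mkA c⁻¹), mul_assoc l (mkA c⁻¹) (mkA c), ← mkA_mul, inv_mul_cancel,
              show mkA 1 = 1 from Subtype.ext (map_one iA), mul_one] }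
      have hS : c ∈ S := by
        refine (show triGen hF m ≤ S from iSup₂_le fun i hi => ?_)
          (by rw [triGen_eq_top hF (show 3 ≤ m by omega)]; exact Subgroup.mem_top c)
        rintro _ ⟨g, rfl⟩ l
        by_cases him : i + 3 ≤ m - 1
        · have hb : mkA (emb hF (seg i 3 m hi) g) =
              mkA (emb hF (seg 0 (m - 1) m (by omega)) (emb hF (seg i 3 (m - 1) him) g)) := by
            rw [emb_emb, seg_trans i 3 0 (m - 1) m him (by omega) (by omega),
              seg_congr (Nat.zero_add i) _ hi]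
          have hcu : mkA (emb hF (seg i 3 m hi) g) * mk4 u = mk4 u * mkA (emb hF (seg i 3 m hi) g) := by
            rw [hb]; exact Subtype.ext (hc1 _ u2).eq
          rw [mul_assoc l, hcu, ← mul_assoc l, mk_A]
        · obtain rfl : i = m - 3 := by omega
          rw [← hk, mul_assoc l, ← mk4_mul]
          refine four l _ _ ?_
          rw [ap_mul, hu3]
          exact ap_emb_off hF t3 g fun a => Pi.single_eq_of_ne (fun e => by
            have := congrArg Fin.val e; simp [ht3] at this; omega) _
      rw [← hS l]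
      refine adj_near (l * mkA c) w4 u ?_
      rw [hw43, hu3, herm_single_right hF, Pi.single_eq_of_ne (by decide), zero_mul]
    · set v0 : Fin m → F := Pi.single pb 1 + Pi.single pa 1 with hv0def
      have hv00 : hermForm m F 2 v0 v0 = 0 := by
        simp only [hv0def, herm_add_left, herm_add_right hF, herm_single_single hF, if_neg hpab,
          if_neg hpab.symm, if_pos]
        linear_combination h2
      obtain ⟨α, hα⟩ := exists_SU_map_iso hF (by omega) hv00
        (fun h => by have := congrFun h pb; simp [hv0def, hpab] at this) hvn hv0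
      obtain ⟨u3, hu3⟩ := exists_SU_map_unit hF (n := 3) (by omega) (single_unit hF (2 : Fin 3))
        (y := Pi.single (0 : Fin 3) (1 : F) + Pi.single 1 1 + Pi.single 2 t) (by
          simp only [herm_add_left, herm_add_right hF, herm_single_left, Pi.single_apply]
          simp
          linear_combination hcube t ht + h2)
      set u := emb hF t13 u3 with hu
      have huE : ap u (Pi.single 3 1) =
          (Pi.single 1 1 + Pi.single 2 1 + Pi.single 3 t : Fin 4 → F) := by
        have : (Pi.single 3 1 : Fin 4 → F) = inj F t13 *ᵥ Pi.single 2 1 := by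
          rw [inj_mulVec_single]; rfl
        rw [hu, this, ap_emb_on, hu3]
        simp only [mulVec_add, inj_mulVec_single]
        rfl
      refine ⟨QuotientGroup.mk (l * mkA α * mk4 u), ?_, fun c hc => ?_⟩
      · rw [proj4, huE, Subgroup.coe_mul, Prod.fst_mul, ap_mul]
        congr 1
        show ap (emb hF sA α) _ = x
        rw [mulVec_add, mulVec_add, inj_mulVec_single, inj_mulVec_single, inj_mulVec_single, hs41,
          hs42, hs43, ← inj_mulVec_single, ← inj_mulVec_single, ← mulVec_add, ap_add, ap_emb_on,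
          ← hv0def, hα, ap_emb_off hF sA α fun j => Pi.single_eq_of_ne (hAlast j) _]
        exact hsplit.symm
      -- the middle point
      set y := ap c (Pi.single pa 1) with hydef
      have hvy : hermForm m F 2 v y = 0 := by
        rw [hsplit, herm_add_left, herm_inj hF, (herm_eq_zero_symm hF).1 (hcross _ _), add_zero] at hc
        exact hc
      set y0 := ap α⁻¹ y with hy0def
      have hy01 : hermForm m F 2 y0 y0 = 1 := by rw [hy0def, herm_ap, hydef, herm_ap, single_unit hF]
      have hy0v : hermForm m F 2 y0 v0 = 0 := by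
        rw [← herm_ap α, hy0def, ap_ap_inv, hα]
        exact (herm_eq_zero_symm hF).1 hvy
      set p := y0 pb with hpdef
      have hpa' : y0 pa = p := by
        rw [hv0def, herm_add_right hF, herm_single_right hF, herm_single_right hF, one_pow,
          mul_one, mul_one] at hy0v
        rw [eq_neg_of_add_eq_zero_right hy0v, neg_eq_self h2]
      set sB := seg 0 (m - 2) m (by omega) with hsB
      set η : Fin (m - 2) → F := fun j => y0 (sB j) with hηdef
      have hBb : ∀ j, sB j ≠ pb := fun j h => by
        have := congrArg Fin.val h; simp [hsB, hpb] at this; omega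
      have hBa : ∀ j, sB j ≠ pa := fun j h => by
        have := congrArg Fin.val h; simp [hsB, hpa] at this; omega
      have hy0split : y0 = inj F sB *ᵥ η + p • v0 := by
        ext i
        by_cases hi : ∀ j, sB j ≠ i
        · rw [Pi.add_apply, inj_mulVec_off _ _ hi, zero_add, Pi.smul_apply]
          obtain rfl | rfl : i = pb ∨ i = pa := by
            by_contra hcon
            push Not at hcon
            obtain ⟨hb', ha'⟩ := hcon
            have hb'' : (i : ℕ) ≠ m - 2 := fun e => hb' (Fin.ext e)
            have ha'' : (i : ℕ) ≠ m - 1 := fun e => ha' (Fin.ext e)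
            exact hi ⟨i, by have := i.isLt; omega⟩ (Fin.ext (by simp [hsB]))
          · simp [hv0def, hpab, hpdef]
          · simp [hv0def, hpab.symm, hpa']
        · push Not at hi
          obtain ⟨j, rfl⟩ := hi
          simp [inj_mulVec, hv0def, hBb j, hBa j, hηdef]
      have hηv : hermForm m F 2 (inj F sB *ᵥ η) v0 = 0 := by
        rw [hv0def, herm_add_right hF, herm_single_right hF, herm_single_right hF,
          inj_mulVec_off _ _ hBb, inj_mulVec_off _ _ hBa, zero_mul, add_zero]
      have hη1 : hermForm (m - 2) F 2 η η = 1 := by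
        rw [← herm_inj hF sB]
        have h := hy01
        rw [hy0split, herm_add_left, herm_add_right hF, herm_add_right hF, herm_smul_right,
          herm_smul_left, herm_smul_left, herm_smul_right, hηv, hv00,
          (herm_eq_zero_symm hF).1 hηv] at h
        linear_combination h
      obtain ⟨β, hβ⟩ := exists_SU_map_unit hF (by omega)
        (single_unit hF (⟨m - 3, by omega⟩ : Fin (m - 2))) hη1
      set β' := emb hF sB β with hβ'
      obtain ⟨γ, hγ⟩ := exists_SU_map_unit hF (n := 3) (by omega) (single_unit hF (2 : Fin 3))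
        (y := Pi.single (0 : Fin 3) (1 : F) + Pi.single 1 p + Pi.single 2 p) (by
          simp only [herm_add_left, herm_add_right hF, herm_single_left, Pi.single_apply]
          simp
          linear_combination (p * p ^ 2) * h2)
      set s3 := seg (m - 3) 3 m (by omega) with hs3
      have hs30 : s3 0 = pc := Fin.ext (by simp [hs3, hpc])
      have hs31 : s3 1 = pb := Fin.ext (by simp [hs3, hpb]; omega)
      have hs32 : s3 2 = pa := Fin.ext (by simp [hs3, hpa]; omega)
      have hmove : ap (α * β' * emb hF s3 γ) (Pi.single pa 1) = y := by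
        have h1 : ap (emb hF s3 γ) (Pi.single pa 1) = Pi.single pc 1 + p • v0 := by
          rw [← hs32, ← inj_mulVec_single, ap_emb_on, hγ]
          simp only [mulVec_add, inj_mulVec_single, hs30, hs31, hs32]
          rw [hv0def, smul_add, ← Pi.single_smul', ← Pi.single_smul', smul_eq_mul, mul_one, add_assoc]
        have h2' : ap β' (Pi.single pc 1) = inj F sB *ᵥ η := by
          have : (Pi.single pc 1 : Fin m → F) = inj F sB *ᵥ Pi.single ⟨m - 3, by omega⟩ 1 := by
            rw [inj_mulVec_single]; congr 1; exact Fin.ext (by simp [hsB, hpc])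
          rw [this, hβ', ap_emb_on, hβ]
        have h3 : ap β' (p • v0) = p • v0 := by
          rw [hβ', ap_emb_off]
          intro j
          simp [hv0def, hBb j, hBa j]
        rw [ap_mul, ap_mul, h1, ap_add, h2', h3, ← hy0split, hy0def, ap_ap_inv]
      have hcomm : mkA β' * mk4 u = mk4 u * mkA β' := Subtype.ext (hc2 β u3).eq
      have hP : (QuotientGroup.mk (l * mkA α * mk4 u) : L ⧸ A) =
          QuotientGroup.mk (l * mkA (α * β') * mk4 u) := by
        rw [mkA_mul, ← mul_assoc l, mul_assoc (l * mkA α) (mkA β'), hcomm, ← mul_assoc, mk_A]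
      rw [hP, nbu l c (α * β' * emb hF s3 γ) (by rw [hmove]), mkA_mul (α * β'), ← hk,
        ← mul_assoc l, mul_assoc (l * mkA (α * β')) (mk4 _) W, hW, ← mk4_mul]
      refine adj_near _ _ _ ?_
      have hγ2 : ap (emb hF t3 γ) (Pi.single 2 1) =
          (Pi.single 0 1 + Pi.single 1 p + Pi.single 2 p : Fin 4 → F) := by
        have : (Pi.single 2 1 : Fin 4 → F) = inj F t3 *ᵥ Pi.single 2 1 := by
          rw [inj_mulVec_single]; rfl
        rw [this, ap_emb_on, hγ]
        simp only [mulVec_add, inj_mulVec_single]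
        rfl
      rw [huE, ap_mul, hw43, hγ2]
      simp only [herm_add_left, herm_add_right hF]
      simp [herm_single_left, Pi.single_apply, Fin.ext_iff]
      linear_combination (p ^ 2) * h2
  have hsq : ∀ {z a b w w'}, adj z a → adj a w → adj z b → adj b w' → proj w = proj w' →
      w = w' := by
    intro z a b w w' za aw zb bw hww
    by_cases hfar : hermForm (m + 1) F 2 (proj w) (proj z) = 0
    · have sw := (herm_eq_zero_symm hF).1 hfar
      exact huniq (htri (adj_symm za) aw sw) (htri (adj_symm zb) bw (hww ▸ sw)) hww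
    induction z using QuotientGroup.induction_on with
    | H l =>
      obtain ⟨x, hx⟩ : ∃ x, x = ap (l : SU (m + 1) F 2 × G).1⁻¹ (proj w) := ⟨_, rfl⟩
      have hxl : ap (l : SU (m + 1) F 2 × G).1 x = proj w := by rw [hx, ap_ap_inv]
      have hx1 : hermForm (m + 1) F 2 x x = 1 := by rw [hx, herm_ap, hunit]
      have ht : x (Fin.last m) ≠ 0 := by
        intro h0
        refine hfar ?_
        rw [proj_mk, ← hxl, herm_ap, he, herm_single_right hF, h0, zero_mul]
      obtain ⟨P, hP, hadj⟩ := hcanon l x hx1 ht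
      have key : ∀ a w, adj (QuotientGroup.mk l) a → adj a w →
          proj w = ap (l : SU (m + 1) F 2 × G).1 x → w = P := by
        intro a w za aw hw
        obtain ⟨c, rfl⟩ := nb l a za
        refine huniq aw (hadj c ?_) (hw.trans hP.symm)
        have h := hperp aw
        rw [hw, proj_mkA, herm_ap] at h
        exact h
      rw [key a w za aw hxl.symm, key b w' zb bw (by rw [← hww, hxl])]
  -- connectedness
  have hgo : ∀ (l : L) (g : SU 4 F 2), Relation.ReflTransGen adj (QuotientGroup.mk l)
      (QuotientGroup.mk (l * mk4 g)) := by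
    intro l g
    obtain ⟨d, hd1, hdg, hde⟩ := exists_common_perp_one hF (le_refl 4) (e := ap g (Pi.single 3 1))
      (single_unit hF (3 : Fin 4))
    obtain ⟨k, hk⟩ := exists_SU_map_unit hF (by omega) (single_unit hF (3 : Fin 4)) hd1
    refine Relation.ReflTransGen.trans (.single ?_)
      (.single (adj_near l k g (by rw [hk]; exact (herm_eq_zero_symm hF).1 hdg)))
    have := adj_near l 1 k (by rw [hk, ap_one]; exact hde)
    rwa [mk4_one, mul_one] at this
  have hconn : ∀ z, Relation.ReflTransGen adj (QuotientGroup.mk (1 : L)) z := by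
    intro z
    induction z using QuotientGroup.induction_on with
    | H l =>
    obtain ⟨l, hl⟩ := l
    have hcl : L = Subgroup.closure (Set.range iA ∪ Set.range i4) := by
      rw [Subgroup.closure_union, ← MonoidHom.coe_range, ← MonoidHom.coe_range, Subgroup.closure_eq,
        Subgroup.closure_eq]
    have hl' : l ∈ Subgroup.closure (Set.range iA ∪ Set.range i4) := hcl ▸ hl
    induction hl' using Subgroup.closure_induction_right with
    | one => exact Relation.ReflTransGen.refl
    | mul_right x hx y hy ih =>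
      have hxL : x ∈ L := hcl ▸ hx
      rcases hy with ⟨a, rfl⟩ | ⟨g, rfl⟩
      · exact (mk_A ⟨x, hxL⟩ a) ▸ ih hxL
      · exact (ih hxL).trans (hgo ⟨x, hxL⟩ g)
    | mul_inv_cancel x hx y hy ih =>
      have hxL : x ∈ L := hcl ▸ hx
      rcases hy with ⟨a, rfl⟩ | ⟨g, rfl⟩
      · have e1 : (⟨x * (iA a)⁻¹, hl⟩ : L) = ⟨x, hxL⟩ * mkA a⁻¹ :=
          Subtype.ext (by show _ = x * iA a⁻¹; rw [map_inv])
        rw [e1, mk_A]; exact ih hxL
      · have e1 : (⟨x * (i4 g)⁻¹, hl⟩ : L) = ⟨x, hxL⟩ * mk4 g⁻¹ :=
          Subtype.ext (by show _ = x * i4 g⁻¹; rw [map_inv])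
        rw [e1]; exact (ih hxL).trans (hgo _ _)
  have hinj := injective_of_squares hF (by omega) proj adj hunit adj_symm hperp hlift htri hsq _ hconn
  -- the projection of the group is bijective
  have hbij : Function.Bijective ((MonoidHom.fst (SU (m + 1) F 2) G).comp L.subtype) := by
    constructor
    · rw [← MonoidHom.ker_eq_bot_iff, eq_bot_iff]
      intro l hl
      have hl1 : (l : SU (m + 1) F 2 × G).1 = 1 := hl
      have hz : (QuotientGroup.mk l : L ⧸ A) = QuotientGroup.mk 1 := hinj (by
        show ap (l : SU (m + 1) F 2 × G).1 e = ap ((1 : L) : SU (m + 1) F 2 × G).1 e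
        rw [hl1]; rfl)
      obtain ⟨a, ha⟩ := QuotientGroup.eq.1 hz.symm
      have hla : (l : SU (m + 1) F 2 × G) = iA a := by rw [ha]; simp
      have : a = 1 := emb_injective hF sA (by
        rw [map_one]
        exact (congrArg Prod.fst hla).symm.trans hl1)
      rw [Subgroup.mem_bot]
      exact Subtype.ext (by rw [hla, this, map_one]; rfl)
    · intro g
      have hg : g ∈ triGen hF (m + 1) := by rw [triGen_eq_top hF (by omega)]; trivial
      suffices hle : triGen hF (m + 1) ≤ ((MonoidHom.fst (SU (m + 1) F 2) G).comp L.subtype).range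
        from hle hg
      refine iSup₂_le fun i hi => ?_
      rintro _ ⟨c, rfl⟩
      by_cases him : i + 3 ≤ m
      · refine ⟨⟨iA (emb hF (seg i 3 m him) c), hA _⟩, ?_⟩
        show emb hF sA (emb hF _ c) = _
        rw [emb_emb, seg_trans i 3 0 m (m + 1) him (by omega) (by omega)]
        simp only [Nat.zero_add]
      · refine ⟨⟨i4 (emb hF t13 c), h4 _⟩, ?_⟩
        show emb hF s4 (emb hF t13 c) = _
        rw [emb_emb, seg_trans 1 3 (m - 3) 4 (m + 1) (by omega) (by omega) (by omega),
          seg_congr (show m - 3 + 1 = i by omega) _ hi]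
  let E := MulEquiv.ofBijective _ hbij
  refine ⟨(MonoidHom.snd (SU (m + 1) F 2) G).comp (L.subtype.comp E.symm.toMonoidHom),
    MonoidHom.ext fun a => ?_, MonoidHom.ext fun u => ?_⟩
  · have : E.symm (emb hF sA a) = mkA a := by
      rw [MulEquiv.symm_apply_eq]; rfl
    show (E.symm (emb hF sA a) : SU (m + 1) F 2 × G).2 = Φ a
    rw [this]; rfl
  · have : E.symm (emb hF s4 u) = mk4 u := by
      rw [MulEquiv.symm_apply_eq]; rfl
    show (E.symm (emb hF s4 u) : SU (m + 1) F 2 × G).2 = _
    rw [this]; rfl

end Cfsg.Agent.Cores.Phan
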