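import Mathlib
import Cfsg.Agent.Cores.Phan.TwoFour
import Cfsg.Agent.Cores.Phan.TwoStep
import Cfsg.Agent.Cores.Phan.Amalgam
import Cfsg.Agent.Unitary.Simple
import Cfsg.Agent.Unitary.Center

/-!
A weak Phan system over the field of four elements gives a homomorphism of `SU_{n+1}(2)`.
-/

set_option autoImplicit false
set_option linter.unusedSectionVars false

namespace Cfsg.Agent.Cores.Phan

open Cfsg Cfsg.Agent.Unitary Matrix

variable {F : Type*} [Field F] [Fintype F] {G : Type*} [Group G]

/-- The adjacent blocks of a map with central kernel do not have commuting tori and swaps. -/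
theorem not_commute_blocks (hF : Fintype.card F = 2 ^ 2) {w : F} (hw0 : w ≠ 0) (hw1 : w ≠ 1)
    {d s : SU 2 F 2} (hd : mat d = Matrix.diagonal ![w⁻¹, w]) (hs : mat s = !![0, 1; 1, 0])
    {θ : SU 3 F 2 →* G} (hker : θ.ker ≤ Subgroup.center (SU 3 F 2)) :
    ¬ Commute (θ (emb hF tL d)) (θ (emb hF tR s)) ∧
      ¬ Commute (θ (emb hF tR d)) (θ (emb hF tL s)) := by
  obtain ⟨rLR, rRL, -, hss⟩ := swap_relations hF hw0 hd hs
  have hd1 : ∀ ι : Fin 2 ↪ Fin 3, θ (emb hF ι d) ≠ 1 := fun ι h => hw1 (by
    have h' := injective_comp_emb hF hker ι (show (θ.comp (emb hF ι)) d = (θ.comp (emb hF ι)) 1 by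
      rw [map_one]; exact h)
    have h'' := congrFun (congrFun (congrArg (fun z => mat z) h') 1) 1
    rw [hd] at h''
    simpa [mat] using h'')
  have hmul : ∀ ι : Fin 2 ↪ Fin 3, θ (emb hF ι s) * θ (emb hF ι s) = 1 := fun ι => by
    rw [← map_mul, ← map_mul, hss, map_one, map_one]
  constructor
  · intro h
    have e := congrArg θ rRL
    rw [map_mul, map_mul, map_mul, ← h.eq, mul_assoc, hmul, mul_one] at e
    exact hd1 tR (left_eq_mul.1 e)
  · intro h
    have e := congrArg θ rLR
    rw [map_mul, map_mul, map_mul, ← h.eq, mul_assoc, hmul, mul_one] at e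
    exact hd1 tL (right_eq_mul.1 e)

/-- A map with nontrivial central kernel identifies the two tori. -/
theorem torus_eq_of_ker (hF : Fintype.card F = 2 ^ 2) {w : F} (hw : w * w + w + 1 = 0) (hw0 : w ≠ 0)
    {d : SU 2 F 2} (hd : mat d = Matrix.diagonal ![w⁻¹, w])
    {θ : SU 3 F 2 →* G} (hker : θ.ker ≤ Subgroup.center (SU 3 F 2))
    (hinj : ¬ Function.Injective θ) : θ (emb hF tL d) = θ (emb hF tR d) := by
  obtain ⟨h2, hcube, -⟩ := two_facts hF
  rw [injective_iff_map_eq_one] at hinj
  push Not at hinj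
  obtain ⟨x, hx, hx1⟩ := hinj
  obtain ⟨l, hl⟩ := scalar_center hF (by omega) (hker (MonoidHom.mem_ker.2 hx))
  have eL : mat (emb hF tL d) = Matrix.diagonal ![w⁻¹, w, 1] := by
    refine mat_emb_diagonal hF tL d hd (fun a => ?_) fun i hi => ?_
    · fin_cases a <;> simp [show tL 0 = 0 from rfl, show tL 1 = 1 from rfl]
    · rw [tL_off_two i hi]; rfl
  have eR : mat (emb hF tR d) = Matrix.diagonal ![1, w⁻¹, w] := by
    refine mat_emb_diagonal hF tR d hd (fun a => ?_) fun i hi => ?_
    · fin_cases a <;> simp [show tR 0 = 1 from rfl, show tR 1 = 2 from rfl]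
    · rw [tR_off_two i hi]; rfl
  obtain ⟨z, hz⟩ : ∃ z, z = emb hF tL d * (emb hF tR d * emb hF tR d) := ⟨_, rfl⟩
  have hzs : mat z = Matrix.diagonal (fun _ => w⁻¹) := by
    rw [hz, mat_mul, mat_mul, eL, eR, Matrix.diagonal_mul_diagonal, Matrix.diagonal_mul_diagonal]
    congr 1
    funext i
    fin_cases i
    · simp
    · simp [hw0]
    · simp
      field_simp
      linear_combination hcube w hw0
  have hzap : ∀ v, ap z v = w⁻¹ • v := fun v => by
    funext i
    rw [ap_def, hzs, Matrix.mulVec_diagonal, Pi.smul_apply, smul_eq_mul]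
  have hl0 : l ≠ 0 := by
    rintro rfl
    have h := herm_ap x (Pi.single 0 1) (Pi.single 0 1)
    rw [hl, zero_smul, herm_zero_left, single_unit hF] at h
    exact zero_ne_one h
  have hz1 : θ z = 1 := by
    rcases four_values hF hw hw0 hl0 with rfl | rfl | rfl
    · exact absurd (ap_ext fun v => by rw [hl, one_smul, ap_one]) hx1
    · rw [show z = x * x from ap_ext fun v => by
        rw [hzap, ap_mul, hl, hl, smul_smul]
        congr 1
        field_simp
        linear_combination -(hcube l hl0), map_mul, hx, mul_one]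
    · rw [show z = x from ap_ext fun v => by rw [hzap, hl], hx]
  have hR3 : θ (emb hF tR d) * (θ (emb hF tR d) * θ (emb hF tR d)) = 1 := by
    rw [← map_mul, ← map_mul, show emb hF tR d * (emb hF tR d * emb hF tR d) = 1 from ext_mat (by
      rw [mat_mul, mat_mul, eR, Matrix.diagonal_mul_diagonal, Matrix.diagonal_mul_diagonal]
      ext i j
      fin_cases i <;> fin_cases j <;> simp [mat]
      · field_simp; linear_combination -(hcube w hw0)
      · linear_combination hcube w hw0), map_one]
  rw [hz, map_mul, map_mul] at hz1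
  exact mul_right_cancel (hz1.trans hR3.symm)

/-- The centre of `SU₄(2)` is trivial. -/
theorem center_four (hF : Fintype.card F = 2 ^ 2) : Subgroup.center (SU 4 F 2) = ⊥ := by
  refine Subgroup.eq_bot_of_card_eq _ ?_
  rw [card_center_SU hF (by omega)]
  norm_num

/-- A homomorphism of `SU₄(2)` with nontrivial image is injective. -/
theorem injective_four (hF : Fintype.card F = 2 ^ 2) (g : SU 4 F 2 →* G) (hne : g.range ≠ ⊥) :
    Function.Injective g := by
  rw [← MonoidHom.ker_eq_bot_iff]
  rcases normal_le_center_or_eq_top hF (Or.inl le_rfl) g.ker with h | h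
  · exact le_bot_iff.1 (h.trans (center_four hF).le)
  · exact absurd (MonoidHom.range_eq_bot_iff.2 (MonoidHom.ker_eq_top_iff.1 h)) hne

/-- Maps into the image of an injective map factor through it. -/
theorem exists_lift_range {A B : Type*} [Group A] [Group B] {g : B →* G} (hg : Function.Injective g)
    {θ : A →* G} (hle : θ.range ≤ g.range) : ∃ θ' : A →* B, g.comp θ' = θ := by
  choose f hf using fun x => hle ⟨x, rfl⟩
  refine ⟨MonoidHom.mk' f fun x y => hg ?_, MonoidHom.ext hf⟩
  rw [map_mul, hf, hf, hf, map_mul]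

theorem seg_two_three :
    (seg 0 2 3 (by omega)).trans (seg 0 3 4 (by omega)) = seg 0 2 4 (by omega) ∧
    (seg 1 2 3 (by omega)).trans (seg 1 3 4 (by omega)) = seg 2 2 4 (by omega) :=
  ⟨seg_trans 0 2 0 3 4 (by omega) (by omega) (by omega),
    seg_trans 1 2 1 3 4 (by omega) (by omega) (by omega)⟩

/-- Recognition from a weak Phan system over the field of four elements. -/
theorem exists_hom_two (hF : Fintype.card F = 2 ^ 2) {n : ℕ} (hn : 4 ≤ n) (U V : ℕ → Subgroup G)
    (hcomm : ∀ i j, i + 2 ≤ j → j < n → ∀ x ∈ U i, ∀ y ∈ U j, x * y = y * x)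
    (hpair : ∀ i, i + 1 < n → IsStandardUnitaryPair (V i) (U i) (U (i + 1)) F 2)
    (h4 : ∀ i, i + 2 < n → ∃ g : SU 4 F 2 →* G, g.range = V i ⊔ V (i + 1))
    (h5 : ∀ i j, i < n → j + 1 < n → i + 2 ≤ j ∨ j + 3 ≤ i →
      ∀ x ∈ U i, ∀ y ∈ V j, x * y = y * x)
    (h6 : ∀ i k, i + 3 ≤ k → k + 1 < n → ∀ x ∈ V i, ∀ y ∈ V k, x * y = y * x) :
    ∃ f : SU (n + 1) F 2 →* G, (∀ i, i + 1 < n → V i ≤ f.range) ∧ ∀ i, i < n → U i ≤ f.range := by
  obtain ⟨h2, hcube, w, hw, hw0, hw1⟩ := two_facts hF
  obtain ⟨d, hd⟩ := exists_torus hF (hcube w hw0)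
  obtain ⟨s, hs⟩ : ∃ s : SU 2 F 2, mat s = !![0, 1; 1, 0] := by
    obtain ⟨s, hs'⟩ := exists_swap (F := F) (q := 2) hF
    have hs01 : mat s 0 1 = 1 := by rw [← ap_single, hs', Pi.single_eq_same]
    obtain ⟨e10, e11⟩ := entries_two hF s
    have hs00 : mat s 0 0 = 0 := ((two_cases_su hF s).resolve_left fun h => one_ne_zero
      (hs01.symm.trans h)).1
    refine ⟨s, ?_⟩
    ext i j
    fin_cases i <;> fin_cases j
    · simpa using hs00
    · simpa using hs01
    · simp [e10, hs01, neg_eq_self h2]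
    · simp [e11, hs00]
  obtain ⟨φ, hφ, hrange, hθ⟩ := exists_amalgam (n := n) hF (by omega) U V hpair hcomm
  choose θ hθV hθL hθR hθker using hθ
  have hL : ∀ i hi u, θ i hi (emb hF tL u) = φ i u := fun i hi u => DFunLike.congr_fun (hθL i hi) u
  have hR : ∀ i hi u, θ i hi (emb hF tR u) = φ (i + 1) u := fun i hi u =>
    DFunLike.congr_fun (hθR i hi) u
  -- the pairs are faithful
  have hθi : ∀ i hi, Function.Injective (θ i hi) := by
    intro i hi
    by_contra hcon
    have e := torus_eq_of_ker hF hw hw0 hd (hθker i hi) hcon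
    rw [hL, hR] at e
    by_cases hr : i + 2 < n
    · refine (not_commute_blocks hF hw0 hw1 hd hs (hθker (i + 1) hr)).1 ?_
      rw [hL, hR, ← e]
      exact hφ.comm i (i + 1 + 1) (by omega) hr _ _
    · obtain ⟨k, rfl⟩ : ∃ k, i = k + 1 := ⟨i - 1, by omega⟩
      refine (not_commute_blocks hF hw0 hw1 hd hs (hθker k (by omega))).2 ?_
      rw [hL, hR, e]
      exact (hφ.comm k (k + 1 + 1) (by omega) hi _ _).symm
  -- the blocks of size four
  have hρ : ∀ i (hi : i + 2 < n), ∃ ρ : SU 4 F 2 →* G,
      ρ.comp (emb hF (seg 0 3 4 (by omega))) = θ i (by omega) ∧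
      ρ.comp (emb hF (seg 1 3 4 (by omega))) = θ (i + 1) hi := by
    intro i hi
    obtain ⟨g, hg⟩ := h4 i hi
    have hgi : Function.Injective g := by
      refine injective_four hF g fun hbot => ?_
      have h : θ i (by omega) = 1 :=
        MonoidHom.range_eq_bot_iff.1 (le_bot_iff.1 ((hθV i (by omega)).le.trans
          (le_sup_left.trans (hg.symm.trans hbot).le)))
      refine (not_commute_blocks hF hw0 hw1 hd hs (hθker i (by omega))).1 ?_
      rw [h]
      exact Commute.one_left _
    obtain ⟨a, ha⟩ := exists_lift_range hgi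
      (θ := θ i (by omega)) ((hθV i (by omega)).le.trans (le_sup_left.trans hg.ge))
    obtain ⟨b, hb⟩ := exists_lift_range hgi
      (θ := θ (i + 1) hi) ((hθV (i + 1) hi).le.trans (le_sup_right.trans hg.ge))
    have ha' : ∀ x, g (a x) = θ i (by omega) x := fun x => DFunLike.congr_fun ha x
    have hb' : ∀ x, g (b x) = θ (i + 1) hi x := fun x => DFunLike.congr_fun hb x
    obtain ⟨Φ, hΦ, hΦ'⟩ := exists_hom_of_pair hF (θ := a) (θ' := b)
      (fun x y e => hθi i (by omega) (by rw [← ha', ← ha', e]))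
      (fun x y e => hθi (i + 1) hi (by rw [← hb', ← hb', e]))
      (MonoidHom.ext fun u => hgi (by
        show g (a (emb hF tR u)) = g (b (emb hF tL u))
        rw [ha', hb', hR, hL]))
      (fun x y => hgi (by
        rw [map_mul, map_mul, ha', hb', hL, hR]
        exact hφ.comm i (i + 1 + 1) (by omega) hi _ _))
    exact ⟨g.comp Φ, by rw [MonoidHom.comp_assoc, hΦ, ha], by rw [MonoidHom.comp_assoc, hΦ', hb]⟩
  have hstep : ∀ m, 4 ≤ m → m ≤ n + 1 → ∃ Φ : SU m F 2 →* G, ∀ i (hi : i + 3 ≤ m) (hi' : i + 1 < n),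
      Φ.comp (emb hF (seg i 3 m hi)) = θ i hi' := by
    intro m hm
    induction m, hm using Nat.le_induction with
    | base =>
      intro _
      obtain ⟨ρ, hρ0, hρ1⟩ := hρ 0 (by omega)
      refine ⟨ρ, fun i hi hi' => ?_⟩
      obtain rfl | rfl : i = 0 ∨ i = 1 := by omega
      · exact hρ0
      · exact hρ1
    | succ m hm ih =>
      intro hmn
      obtain ⟨Φ, hΦ⟩ := ih (by omega)
      obtain ⟨k, rfl⟩ : ∃ k, m = k + 3 := ⟨m - 3, by omega⟩
      obtain ⟨ρ, hρ0, hρ1⟩ := hρ k (by omega)
      have hΦ' : ∀ i (hi : i + 3 ≤ k + 3) g, Φ (emb hF (seg i 3 (k + 3) hi) g) ∈ V i := by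
        intro i hi g
        rw [← hθV i (by omega), ← MonoidHom.comp_apply, hΦ i hi (by omega)]
        exact ⟨g, rfl⟩
      obtain ⟨Φ', hA, hB⟩ := exists_step_two hF hm Φ ρ
        (by
          rw [hρ0]
          simp only [Nat.add_sub_cancel]
          exact (hΦ k le_rfl (by omega)).symm)
        (fun a u => by
          have hu : ρ (emb hF (seg 2 2 4 (by omega)) u) = φ (k + 1 + 1) u := by
            rw [← seg_two_three.2, ← emb_emb, ← MonoidHom.comp_apply, hρ1]
            exact hR _ _ u
          rw [hu]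
          have hle : triGen hF (k + 3 - 1) ≤
              (Subgroup.centralizer {φ (k + 1 + 1) u}).comap
                (Φ.comp (emb hF (seg 0 (k + 3 - 1) (k + 3) (by omega)))) := by
            refine iSup₂_le fun i hi => ?_
            rintro _ ⟨g, rfl⟩
            rw [Subgroup.mem_comap, Subgroup.mem_centralizer_singleton_iff, MonoidHom.comp_apply,
              emb_emb, seg_trans i 3 0 (k + 3 - 1) (k + 3) hi (by omega) (by omega)]
            have h := hΦ' i (by omega) g
            simp only [Nat.zero_add]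
            exact (h5 (k + 1 + 1) i (by omega) (by omega) (Or.inr (by omega)) _
              (hrange (k + 1 + 1) (by omega) ▸ ⟨u, rfl⟩) _ h).symm
          have htop := triGen_eq_top (m := k + 3 - 1) hF (by omega)
          have ha := hle (show a ∈ triGen hF (k + 3 - 1) from htop ▸ Subgroup.mem_top a)
          rw [Subgroup.mem_comap, Subgroup.mem_centralizer_singleton_iff, MonoidHom.comp_apply] at ha
          exact ha)
        (fun a g => by
          have hg : ρ (emb hF (seg 1 3 4 (by omega)) g) ∈ V (k + 1) := by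
            rw [← MonoidHom.comp_apply, hρ1, ← hθV (k + 1) (by omega)]
            exact ⟨g, rfl⟩
          generalize ρ (emb hF (seg 1 3 4 (by omega)) g) = y at hg ⊢
          by_cases hk : k = 1
          · subst hk
            have e : (seg 0 2 3 (by omega)).trans (seg 0 3 (1 + 3) (by omega)) =
                seg 0 (1 + 3 - 2) (1 + 3) (by omega) := seg_two_three.1
            rw [← e, ← emb_emb, ← MonoidHom.comp_apply Φ, hΦ 0 (by omega) (by omega), hL]
            exact h5 0 (1 + 1) (by omega) (by omega) (Or.inl (by omega)) _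
              (hrange 0 (by omega) ▸ ⟨a, rfl⟩) _ hg
          have hle : triGen hF (k + 3 - 2) ≤ (Subgroup.centralizer {y}).comap
              (Φ.comp (emb hF (seg 0 (k + 3 - 2) (k + 3) (by omega)))) := by
            refine iSup₂_le fun i hi => ?_
            rintro _ ⟨g', rfl⟩
            rw [Subgroup.mem_comap, Subgroup.mem_centralizer_singleton_iff, MonoidHom.comp_apply,
              emb_emb, seg_trans i 3 0 (k + 3 - 2) (k + 3) hi (by omega) (by omega)]
            simp only [Nat.zero_add]
            exact h6 i (k + 1) (by omega) (by omega) _ (hΦ' i (by omega) g') _ hg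
          have htop := triGen_eq_top (m := k + 3 - 2) hF (by omega)
          have ha := hle (show a ∈ triGen hF (k + 3 - 2) from htop ▸ Subgroup.mem_top a)
          rw [Subgroup.mem_comap, Subgroup.mem_centralizer_singleton_iff, MonoidHom.comp_apply] at ha
          exact ha)
      refine ⟨Φ', fun i hi hi' => MonoidHom.ext fun g => ?_⟩
      rw [MonoidHom.comp_apply]
      by_cases hik : i + 3 ≤ k + 3
      · have e := seg_trans i 3 0 (k + 3) (k + 3 + 1) hik (by omega) (by omega)
        simp only [Nat.zero_add] at e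
        rw [← e, ← emb_emb, ← MonoidHom.comp_apply, hA, ← MonoidHom.comp_apply, hΦ i hik hi']
      · obtain rfl : i = k + 1 := by omega
        have e := seg_trans 1 3 (k + 3 - 3) 4 (k + 3 + 1) (by omega) (by omega) (by omega)
        simp only [Nat.add_sub_cancel] at e hB
        rw [← e, ← emb_emb, ← MonoidHom.comp_apply, hB, ← MonoidHom.comp_apply, hρ1]
  obtain ⟨f, hf⟩ := hstep (n + 1) (by omega) le_rfl
  have hV : ∀ i, i + 1 < n → V i ≤ f.range := fun i hi => by
    rw [← hθV i hi, ← hf i (by omega) hi]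
    rintro _ ⟨g, rfl⟩
    exact ⟨_, rfl⟩
  refine ⟨f, hV, fun i hi => ?_⟩
  rw [← hrange i hi]
  by_cases h : i + 1 < n
  · rintro _ ⟨u, rfl⟩
    exact hV i h (hθV i h ▸ ⟨emb hF tL u, hL i h u⟩)
  · obtain ⟨k, rfl⟩ : ∃ k, i = k + 1 := ⟨i - 1, by omega⟩
    rintro _ ⟨u, rfl⟩
    exact hV k hi (hθV k hi ▸ ⟨emb hF tR u, hR k hi u⟩)

end Cfsg.Agent.Cores.Phan
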